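import Cfsg.Agent.Lib.OddChar.PF10.Linear
import Cfsg.Agent.Lib.Char.CyclicTI.Family

/-!
# Rationality of the image of `ζ` on elements of order `p` of `H'`
-/

set_option linter.style.haveILetI false
set_option linter.unusedSectionVars false

namespace Cfsg.Agent.OddChar.P10

open Cfsg.Agent.Char
open scoped Classical ComplexConjugate commutatorElement

attribute [local instance] dualFintype

universe u

variable {G : Type u} [Group G] [Fintype G] {M K U : Subgroup G}

/-- A field automorphism commutes with induction. -/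
theorem twist_indFun {X : Type u} [Group X] [Fintype X] (H : Subgroup X) (σ : ℂ ≃+* ℂ) (θ : H → ℂ) :
    (fun x => σ (Cfsg.indFun H θ x)) = Cfsg.indFun H (fun k => σ (θ k)) := by
  funext x
  rw [indFun_apply, indFun_apply, map_mul, map_inv₀, map_natCast, map_sum]
  congr 1
  refine Finset.sum_congr rfl fun y _ => ?_
  by_cases h : y⁻¹ * x * y ∈ H
  · rw [extendByZero_mem H _ h, extendByZero_mem H _ h]
  · rw [extendByZero_not_mem H _ h, extendByZero_not_mem H _ h, map_zero]

/-- A field automorphism commutes with the Dade map. -/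
theorem tau_twist (σ : ℂ ≃+* ℂ) (f : M → ℂ) :
    tau M (fun x => σ (f x)) = fun g => σ (tau M f g) := by
  funext g
  simp only [tau, Cfsg.dadeIsometry]
  split <;> simp

/-- There is an exponent prime to `n` congruent to `l` modulo a prime not dividing `l`. -/
theorem exists_coprime_lift {p n l : ℕ} (hp : p.Prime) (hn : n ≠ 0) (hl : ¬ p ∣ l) :
    ∃ k : ℕ, k.Coprime n ∧ k ≡ l [MOD p] := by
  obtain ⟨a, m, hm, rfl⟩ := Nat.exists_eq_pow_mul_and_not_dvd hn p hp.ne_one
  have hco : (p ^ (a + 1)).Coprime m := (Nat.Coprime.pow_left _ (hp.coprime_iff_not_dvd.2 hm))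
  obtain ⟨k, h1, h2⟩ := Nat.chineseRemainder hco l 1
  refine ⟨k, Nat.Coprime.mul_right ?_ ?_, h1.of_dvd (dvd_pow_self p (Nat.succ_ne_zero a))⟩
  · refine Nat.Coprime.pow_right _ ?_
    rw [Nat.coprime_comm, hp.coprime_iff_not_dvd]
    intro h
    exact hl (((h1.of_dvd (dvd_pow_self p (Nat.succ_ne_zero a))).dvd_iff dvd_rfl).1 h)
  · show Nat.gcd k m = 1
    rw [h2.gcd_eq, Nat.gcd_one_left]

theorem linS_twist [Fintype M] (σ : ℂ ≃+* ℂ) {φ : M → ℂ} (hφ : φ ∈ linS M) :
    (fun x => σ (φ x)) ∈ linS M := by
  obtain ⟨θ, hθ, hne, hθH, rfl⟩ := hφ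
  refine ⟨fun k => σ (θ k), CharGalois.IsIrrCharacter.twist hθ σ, fun e => hne (funext fun k => ?_),
    fun a ha => congrArg σ (hθH a ha), twist_indFun _ σ θ⟩
  have := congrFun e k
  exact σ.injective (by rw [this, map_one])

/-- Members of `linS` are constant on `H'`. -/
theorem linS_derived [Fintype M] {φ : M → ℂ} (hφ : φ ∈ linS M) {z : M} (hz : z ∈ ⁅kd M, kd M⁆) :
    φ z = φ 1 := by
  obtain ⟨θ, -, -, hθH, rfl⟩ := hφ
  rw [indFun_apply, indFun_apply]
  congr 1
  refine Finset.sum_congr rfl fun y _ => ?_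
  have hy : y⁻¹ * z * y ∈ ⁅kd M, kd M⁆ := by
    simpa using (inferInstance : (⁅kd M, kd M⁆).Normal).conj_mem z hz y⁻¹
  rw [mul_one, inv_mul_cancel, extendByZero_one, extendByZero_mem _ _ (Subgroup.commutator_le_left _ _ hy)]
  exact hθH _ hy

theorem Coh.u_pow {G : Type u} [Group G] [Fintype G] {M K U : Subgroup G} {c : Ctx M K U} [Fintype M]
    {ζ : M → ℂ} (h : Coh c (linS M) ζ) {p : ℕ} [Fact p.Prime] {z : M} (hz : z ∈ ⁅kd M, kd M⁆)
    (hzp : orderOf z = p) {l : ℕ} (hl : ¬ p ∣ l) : h.u ((z : G) ^ l) = h.u (z : G) := by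
  have hp : p.Prime := Fact.out
  obtain ⟨k, hk, hkl⟩ := exists_coprime_lift hp (Nat.card_pos (α := G)).ne' hl
  obtain ⟨σ, hσ⟩ := CharGalois.exists_galoisAut (Nat.card_pos (α := G)).ne' hk
  have hdiff : ∀ {φ ψ : M → ℂ}, φ ∈ linS M → ψ ∈ linS M →
      tau M (φ - ψ) = h.t φ - h.t ψ := fun {φ ψ} hφ hψ => by
    rw [← h.agree _ (Coherence.mem_zspanOn_one.mpr ⟨Submodule.sub_mem _ (Submodule.subset_span hφ)
        (Submodule.subset_span hψ), by
          rw [Pi.sub_apply, (c.linS_facts hφ).2.1, (c.linS_facts hψ).2.1, sub_self]⟩)]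
    exact Coherence.iso_sub (M := Submodule.span ℤ (linS M)) h.iso (Submodule.subset_span hφ)
      (Submodule.subset_span hψ)
  have hsign : ∀ {φ : M → ℂ}, φ ∈ linS M → CyclicTI.SignIrr (h.t φ) := fun {φ} hφ =>
    IsGeneralizedCharacter.of_norm_one (h.t_gen hφ)
      ((h.t_inner hφ hφ).trans (classInner_self_irr (c.linS_facts hφ).1))
  have hself : ∀ {a : G → ℂ}, CyclicTI.SignIrr a → Cfsg.classInner a a = 1 := fun {a} ha => by
    rcases ha with ha | ha
    · exact classInner_self_irr ha
    · simpa [classInner_neg_left, classInner_neg_right] using classInner_self_irr ha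
  -- two members and their conjugates
  have hη := h.cmem
  set η := Cfsg.conjFun ζ with hηdef
  have hne : ζ ≠ η := (c.conj_ne h.zetaS).symm
  have hζ' := linS_twist σ h.mem
  have hη' := linS_twist σ hη
  set ζ' : M → ℂ := fun x => σ (ζ x) with hζ'def
  set η' : M → ℂ := fun x => σ (η x) with hη'def
  have hne' : ζ' ≠ η' := fun e => hne (funext fun x => σ.injective (congrFun e x))
  set x : G → ℂ := fun g => σ (h.u g) with hx
  set x' : G → ℂ := fun g => σ (h.t η g) with hx'
  set A := h.t ζ' with hA
  set B := h.t η' with hB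
  have hxs : CyclicTI.SignIrr x := CyclicTI.SignIrr.twist (hsign h.mem) σ
  have hxs' : CyclicTI.SignIrr x' := CyclicTI.SignIrr.twist (hsign hη) σ
  have hu : Cfsg.classInner h.u (h.t η) = 0 :=
    (h.t_inner h.mem hη).trans (classInner_irr_of_ne h.irr (c.linS_facts hη).1 hne)
  have hxx' : Cfsg.classInner x x' = 0 := by
    by_contra hne0
    rcases CyclicTI.SignIrr.eq_or_neg hxs hxs' hne0 with e | e
    · have e' : h.u = h.t η := funext fun g => σ.injective (congrFun e g)
      rw [← e', h.u_norm] at hu
      exact one_ne_zero hu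
    · have e' : h.u = -h.t η := funext fun g => σ.injective (by
        rw [Pi.neg_apply, map_neg]; exact congrFun e g)
      have h1 := h.u_norm
      rw [e', classInner_neg_left] at hu
      rw [e', classInner_neg_left, classInner_neg_right, neg_neg] at h1
      rw [h1] at hu
      norm_num at hu
  have hAB : Cfsg.classInner A B = 0 :=
    (h.t_inner hζ' hη').trans (classInner_irr_of_ne (c.linS_facts hζ').1 (c.linS_facts hη').1 hne')
  have hsum : x - x' = A - B := by
    rw [hA, hB, ← hdiff hζ' hη', show ζ' - η' = fun y => σ ((ζ - η) y) from funext fun y => by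
      simp [hζ'def, hη'def], tau_twist, hdiff h.mem hη]
    funext g
    simp [hx, hx', Coh.u]
  have hone : ∀ {φ : M → ℂ}, φ ∈ linS M → h.t φ 1 = h.u 1 := fun {φ} hφ => by
    have := congrFun (hdiff hφ h.mem) 1
    rw [c.tau_one, Pi.sub_apply] at this
    exact sub_eq_zero.1 this.symm
  obtain ⟨N, hN⟩ : ∃ N : ℤ, h.u 1 = N := by
    rcases hsign h.mem with hi | hi
    · obtain ⟨d, -, e⟩ := IsIrrCharacter.exists_degree hi
      exact ⟨d, by exact_mod_cast e⟩
    · obtain ⟨d, -, e⟩ := IsIrrCharacter.exists_degree hi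
      refine ⟨-(d : ℤ), ?_⟩
      rw [Pi.neg_apply, neg_eq_iff_eq_neg] at e
      rw [Coh.u, e]
      push_cast
      rfl
  have hN0 : h.u 1 ≠ 0 := by
    rcases hsign h.mem with hi | hi
    · exact IsIrrCharacter.one_ne_zero hi
    · simpa [Coh.u] using IsIrrCharacter.one_ne_zero hi
  have hxA : x = A := by
    have h1 : Cfsg.classInner (A - B) x = 1 := by
      rw [← hsum, classInner_sub_left, hself hxs, ← classInner_conj_symm x x', hxx', map_zero, sub_zero]
    rw [classInner_sub_left] at h1
    by_cases hAx : Cfsg.classInner A x = 0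
    · have hBx : Cfsg.classInner B x ≠ 0 := fun e => by rw [hAx, e, sub_self] at h1; exact zero_ne_one h1
      exfalso
      rcases CyclicTI.SignIrr.eq_or_neg (hsign hη') hxs hBx with e | e
      · have e2 : B = x := e
        rw [hAx, e2, hself hxs] at h1
        norm_num at h1
      · have := congrFun e 1
        rw [hone hη', Pi.neg_apply, hx] at this
        simp only [hN, map_intCast] at this
        rw [hN] at hN0
        exact hN0 (by linear_combination this / 2)
    · rcases CyclicTI.SignIrr.eq_or_neg (hsign hζ') hxs hAx with e | e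
      · exact e.symm
      · exfalso
        have e2 : A = -x := e
        rw [e2, classInner_neg_left, hself hxs] at h1
        have h2 := hself (hsign hη')
        rw [← hB] at h2
        have h3 : B = x' - (x + x) := by
          rw [e2] at hsum
          funext g
          have := congrFun hsum g
          simp only [Pi.sub_apply, Pi.neg_apply, Pi.add_apply] at this ⊢
          linear_combination this
        have hxx : Cfsg.classInner x' x = 0 := by rw [← classInner_conj_symm, hxx', map_zero]
        rw [h3, classInner_sub_left, classInner_add_left, classInner_sub_right, classInner_sub_right,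
          classInner_add_right, classInner_add_right, hself hxs', hself hxs, hxx', hxx] at h2
        norm_num at h2
  -- the values at `z`
  have hzk : (z : G) ^ k = (z : G) ^ l := by
    rw [pow_eq_pow_iff_modEq, Subgroup.orderOf_coe, hzp]; exact hkl
  have hz1 : z ≠ 1 := fun e => hp.ne_one (by rw [← hzp, e, orderOf_one])
  have hval : A (z : G) = h.u (z : G) := by
    have e := congrFun (hdiff hζ' h.mem) (z : G)
    have hfc : Cfsg.IsClassFunction M (ζ' - ζ) :=
      IsClassFunction.sub (calS_off (h.sub hζ')).2 (calS_off h.zetaS).2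
    have e2 : tau M (ζ' - ζ) (z : G) = 0 := by
      have hA0 := c.kd_mem_A0 (Subgroup.commutator_le_left _ _ hz) hz1
      have e3 := Dade.dadeIsometry_coset c.hypothesis hfc hA0 (u := 1) (one_mem _)
      rw [mul_one] at e3
      rw [show tau M (ζ' - ζ) (z : G) = _ from e3]
      show σ (ζ z) - ζ z = 0
      rw [linS_derived h.mem hz, h.deg, map_natCast, sub_self]
    rw [e2, Pi.sub_apply] at e
    exact sub_eq_zero.1 e.symm
  rw [← hzk, show h.u ((z : G) ^ k) = σ (h.u (z : G)) from
    (CyclicTI.SignIrr.map_value (hsign h.mem) σ.toRingHom hσ (z : G)).symm]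
  exact (congrFun hxA (z : G)).trans hval

end Cfsg.Agent.OddChar.P10
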