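import Cfsg.Agent.Lib.OddChar.Iface
import Cfsg.Agent.Lib.OddOrder.Types
import Cfsg.Agent.Lib.OddOrder.TypeA
import Cfsg.Agent.S1351
import Cfsg.Agent.S1352
import Cfsg.Agent.S1357
import Cfsg.Agent.S1364
import Cfsg.Agent.S1372

/-!
# PF 10.11: both cyclic factors of type P data have prime order
-/

set_option autoImplicit false
set_option linter.unusedSectionVars false
set_option linter.style.haveILetI false

namespace Cfsg.Agent.OddChar.P10

open Cfsg.Agent.OddOrder

variable {G : Type*} [Group G] [Finite G]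

/-- Without maximal subgroups of Type V a non-trivial Hall `κ`-subgroup has prime order. -/
theorem prime_hall (hG : Cfsg.IsMinSimpleOddOrder G) (hV : OddChar.NoTypeV G) {M K : Subgroup G}
    (hM : IsCoatom M) (hK : Cfsg.IsPiHallOf (Cfsg.kappa M) K M) (hK1 : K ≠ ⊥) : (Nat.card K).Prime := by
  obtain ⟨U, hKU⟩ := (S1352.result hG M hM K ((S1351.result hG M hM).2 K hK) hK).1
  by_cases hU : U = ⊥
  · refine (S1357.result hG M hM K U hKU fun h => hV M hM ?_).2.2
    exact (Types.typeV_iff hG hM hKU).2 ⟨hK1, hU, h⟩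
  · exact (S1372.result hG M hM K U hKU hK1 hU).1

/-- PF 10.11. -/
theorem pairPrimes (hG : Cfsg.IsMinSimpleOddOrder G) (hV : OddChar.NoTypeV G) : OddChar.PairPrimes G := by
  intro M W₁ V W₂ hM hP
  haveI := MinSimple.isSolvable hG hM.1
  obtain ⟨K, hK⟩ := (S1351.result hG M hM).1
  have hKc := (S1351.result hG M hM).2 K hK
  obtain ⟨U, hKU⟩ := (S1352.result hG M hM K hKc hK).1
  have hK1 : K ≠ ⊥ := Types.K_ne hKU (Types.kappa_of_typeP hG hM hP)
  have hcd := Types.compl_derived hG hM hKU hK1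
  haveI := hP.W₁_cyclic
  obtain ⟨b, hb⟩ := (inferInstance : IsCyclic W₁).exists_generator
  have hbc : orderOf (b : G) = Nat.card W₁ := by
    rw [Subgroup.orderOf_coe, orderOf_eq_card_of_forall_mem_zpowers hb]
  have hcards : Nat.card W₁ = Nat.card K := by
    rw [← Compl.relIndex_left hP.W₁_compl, Compl.relIndex_left hcd]
  refine ⟨hcards ▸ prime_hall hG hV hM hK hK1, ?_⟩
  haveI := hKU.cyclic
  obtain ⟨c, hc, hck⟩ := Pairing.exists_conj_hall hKU.hall.1 (Types.K_hall hKU) (hP.W₁_compl.2.1 b.2)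
    (by rw [hbc, hcards]; exact Types.K_hall hKU)
  set D := Cfsg.sigmaCore M ⊓ Subgroup.centralizer (K : Set G) with hD
  obtain ⟨W, hPK, -, -⟩ := Types.exists_data hG hM hKU hK1
  have hb1 : (b : G) ≠ 1 := fun e => hP.W₁_ne (Subgroup.card_eq_one.1 (by rw [← hbc, e, orderOf_one]))
  have hk1 : c * b * c⁻¹ ≠ 1 := fun e => hb1 (conj_eq_one_iff.1 e)
  have hW₂D : W₂.map (MulAut.conj c).toMonoidHom = D := by
    rw [← hP.W₂_centralizer b b.2 hb1, hD, ← hPK.W₂_centralizer _ hck hk1,
      Subgroup.map_inf _ _ _ (MulAut.conj c).injective]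
    congr 1
    · rw [Subgroup.map_commutator, Support.map_conj_of_mem hc]
    · ext z
      rw [Support.mem_map_conj, Subgroup.mem_centralizer_singleton_iff,
        Subgroup.mem_centralizer_singleton_iff]
      constructor
      · intro h
        calc z * (c * b * c⁻¹) = c * (c⁻¹ * z * c * b) * c⁻¹ := by group
          _ = c * (b * (c⁻¹ * z * c)) * c⁻¹ := by rw [h]
          _ = c * b * c⁻¹ * z := by group
      · intro h
        calc c⁻¹ * z * c * b = c⁻¹ * (z * (c * b * c⁻¹)) * c := by group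
          _ = c⁻¹ * (c * b * c⁻¹ * z) * c := by rw [h]
          _ = b * (c⁻¹ * z * c) := by group
  have hcardD : Nat.card W₂ = Nat.card D := by
    rw [← hW₂D, Subgroup.card_map_of_injective (MulAut.conj c).injective]
  obtain ⟨N, E, P⟩ := (Pairing.Member.of_hall hM hK hK1).exists_pair hG
  have hDE : D = E := P.left.inf_eq.symm.trans P.left_inf
  rw [hcardD, hDE]
  exact prime_hall hG hV P.right.coatom P.right.hall P.right.ne

end Cfsg.Agent.OddChar.P10
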