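import Cfsg.Agent.Lib.OddChar.PF10.Bridge
import Cfsg.Agent.Lib.Char.CoherenceChief

/-!
# The coherent set of the characters induced from linear characters
-/

set_option linter.style.haveILetI false
set_option linter.unusedSectionVars false

namespace Cfsg.Agent.OddChar.P10

open Cfsg.Agent.Char
open scoped Classical ComplexConjugate commutatorElement

attribute [local instance] dualFintype

universe u

variable {G : Type u} [Group G] [Fintype G] {M K U : Subgroup G}

/-- The characters induced from the non-principal linear characters of the derived subgroup. -/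
noncomputable abbrev linS (M : Subgroup G) [Fintype M] : Set (M → ℂ) :=
  Cfsg.inducedIrrAbove (kd M) ⁅kd M, kd M⁆

namespace Ctx

variable (c : Ctx M K U) [Fintype M]
include c

theorem linS_sub : linS M ⊆ calS M := IndSet.above_subset_bot (kd M) _

theorem linS_facts {φ : M → ℂ} (hφ : φ ∈ linS M) :
    Cfsg.IsIrrCharacter M φ ∧ φ 1 = (Nat.card K : ℂ) ∧ Cfsg.conjFun φ ∈ linS M := by
  obtain ⟨ζ, -, -, -, hind⟩ := c.exists_zeta
  refine ⟨?_, ?_, IndSet.conj_mem_above _ _ hφ⟩ <;> obtain ⟨θ, hθ, hne, hθH, rfl⟩ := hφ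
  · exact hind θ hθ (degree_one_of_commutators hθ fun a b => hθH _
      (Subgroup.commutator_mem_commutator a.2 b.2)) hne
  · rw [indFun_one_apply, c.semi.index_eq, c.card_ka, degree_one_of_commutators hθ fun a b => hθH _
      (Subgroup.commutator_mem_commutator a.2 b.2), mul_one]

/-- `S(H')` is coherent, with `k` times its size one less than `|H : H'|`. -/
theorem exists_coh_lin (hlt : ⁅kd M, kd M⁆ < kd M) :
    ∃ ζ : M → ℂ, ∃ _ : Coh c (linS M) ζ, ∃ T : Finset (M → ℂ),
      (∀ φ, φ ∈ T ↔ φ ∈ linS M) ∧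
        T.card * Nat.card K + 1 = ⁅kd M, kd M⁆.relIndex (kd M) := by
  obtain ⟨R, hR⟩ := exists_system c
  obtain ⟨-, t, hiso, hag⟩ := Chief.coherent_derived (kd M) hR ⁅kd M, kd M⁆ le_rfl hlt.not_ge
  obtain ⟨ζ, hζ⟩ := IndSet.above_nonempty (kd M) (A := ⁅kd M, kd M⁆) hlt.not_ge
  refine ⟨ζ, ⟨t, c.linS_sub, hζ, (c.linS_facts hζ).2.2, (c.linS_facts hζ).1, (c.linS_facts hζ).2.1,
    hiso, hag⟩, (IndSet.over (kd M) ⁅kd M, kd M⁆).image
      (fun θ : Cfsg.IrrCharacter (kd M) => Cfsg.indFun (kd M) (θ : kd M → ℂ)), fun φ => ?_, ?_⟩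
  · rw [Finset.mem_image]
    exact (IndSet.mem_above_iff_exists (kd M)).symm
  · have h := IndSet.sum_above (kd M) ⁅kd M, kd M⁆ (fun _ => Nat.card K) (fun _ => 1)
      (fun φ hφ => (c.linS_facts hφ).2.1)
      (fun φ hφ => by simp [classInner_self_irr (c.linS_facts hφ).1])
    rw [c.semi.index_eq, c.card_ka] at h
    simp only [Nat.cast_one, div_one, Finset.sum_const, nsmul_eq_mul] at h
    have hk : (Nat.card K : ℝ) ≠ 0 := Nat.cast_ne_zero.mpr Nat.card_pos.ne'
    rw [sq, ← mul_assoc, mul_comm ((Nat.card K : ℝ)) (_ - 1)] at h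
    have h2 := mul_right_cancel₀ hk h
    rw [eq_sub_iff_add_eq] at h2
    exact_mod_cast h2

end Ctx

end Cfsg.Agent.OddChar.P10
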