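import Cfsg.Agent.Lib.OddChar.PF10.Chars
import Cfsg.Agent.S1518

/-!
# A coherence system on the characters induced from the derived subgroup
-/

set_option linter.style.haveILetI false
set_option linter.unusedSectionVars false

namespace Cfsg.Agent.OddChar.P10

open Cfsg.Agent.Char
open scoped Classical ComplexConjugate

attribute [local instance] dualFintype

universe u

variable {G : Type u} [Group G] [Fintype G] {M K U : Subgroup G}

/-- `ω` is trivial on `W₁`. -/
def I0 (ω : Chr M K) : Prop := ∀ w : ↥(ka M K ⊔ kb M K), (w : M) ∈ ka M K → ω w = 1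

theorem I0.inv {ω : Chr M K} (h : I0 ω) : I0 ω⁻¹ := fun w hw => by
  rw [MonoidHom.inv_apply, h w hw, inv_one]

theorem row_agree (c : Ctx M K U) {a b : Chr M K} (ha : I0 a) (hb : I0 b) (f : ka M K →* ℂˣ)
    (w : ↥(ka M K ⊔ kb M K)) (hw : (w : M) ∈ ka M K) : row c a f w = row c b f w := by
  rw [MonoidHom.mul_apply, MonoidHom.mul_apply, ha w hw, hb w hw]

namespace Fam

variable {c : Ctx M K U} [Fintype M] (F : Fam c)

theorem δ_row (ω : Chr M K) (f : ka M K →* ℂˣ) : F.δ (row c ω f) = F.δ ω := (F.μ_twist ω f).1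

theorem μ_row_one (ω : Chr M K) (f : ka M K →* ℂˣ) : F.μ (row c ω f) 1 = F.μ ω 1 := by
  rw [congrFun (F.μ_twist ω f).2 1, map_one, map_one, Units.val_one, one_mul]

theorem μ_inv_one (ω : Chr M K) : F.μ ω⁻¹ 1 = F.μ ω 1 := by
  rw [← (F.μ_conj ω).1]
  exact Coherence.conjFun_one (F.μ_irr ω)

theorem row_ne {ω : Chr M K} (hω : ¬ J0 ω) (f f' : ka M K →* ℂˣ) : row c ω f ≠ row c ω⁻¹ f' := by
  intro e
  have h1 : ∀ w : ↥(ka M K ⊔ kb M K), (w : M) ∈ kb M K → ω w = ω⁻¹ w := fun w hw => by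
    have e' := DFunLike.congr_fun e w
    rwa [MonoidHom.mul_apply, MonoidHom.mul_apply, CyclicTI.pull1_apply_of_mem c.semi.split f w hw,
      CyclicTI.pull1_apply_of_mem c.semi.split f' w hw, one_mul, one_mul] at e'
  refine hω fun w hw => ?_
  have h2 : ω w * ω w = 1 := by
    nth_rewrite 2 [h1 w hw]
    rw [MonoidHom.inv_apply, mul_inv_cancel]
  have h3 : ω w ^ Nat.card ↥(ka M K ⊔ kb M K) = 1 := by rw [← map_pow, pow_card_eq_one', map_one]
  obtain ⟨m, hm⟩ := c.odd_sup
  rwa [hm, pow_succ, pow_mul, pow_two, h2, one_pow, one_mul] at h3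

/-- The Dade map on `μ_j - conj μ_j`. -/
theorem tau_mus_sub {ω : Chr M K} (hI : I0 ω) (hω : ¬ J0 ω) :
    tau M (F.mus ω - F.mus ω⁻¹) =
      ∑ f, (F.δ ω : ℂ) • (F.η (row c ω f) - F.η (row c ω⁻¹ f)) := by
  rw [mus, mus, ← Finset.sum_sub_distrib, tau_sum]
  refine Finset.sum_congr rfl fun f _ => ?_
  rw [F.tau_μ_sub _ _ (row_ne hω f f) (by rw [F.δ_row, F.δ_row, (F.μ_conj ω).2])
    (by rw [F.μ_row_one, F.μ_row_one, F.μ_inv_one]) (row_agree c hI hI.inv f), F.δ_row]

/-- Members of `calS` are irreducible or sums `μ_j`. -/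
theorem cases_calS {φ : M → ℂ} (h : φ ∈ calS M) :
    Cfsg.IsIrrCharacter M φ ∨ ∃ ω, I0 ω ∧ ¬ J0 ω ∧ φ = F.mus ω := by
  obtain ⟨θ, hθ, hne, -, rfl⟩ := h
  by_cases hinv : ∀ g : M, conjChar (kd M) g θ = θ
  · obtain ⟨e, he, hek⟩ := c.semi.exists_extension hθ hinv
    have hres : (fun k : kd M => e k) = θ := funext hek
    obtain ⟨ω, hω⟩ := F.μ_all e he (hres ▸ hθ)
    set g := ω.comp (CyclicTI.inc2 (ka M K) (kb M K))
    set ω₀ : Chr M K := CyclicTI.pull2 c.semi.split g
    obtain ⟨f, hf⟩ : ∃ f, row c ω₀ f = ω := ⟨_, CyclicTI.hom_decomp c.semi.split ω⟩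
    have hθ₀ : (fun k : kd M => F.μ ω₀ k) = θ := by
      funext k
      rw [← hek k, ← hω, ← hf, congrFun (F.μ_twist ω₀ f).2, (c.semi.pr_eq_one_iff _).mpr k.2,
        map_one, Units.val_one, one_mul]
    refine Or.inr ⟨ω₀, fun w hw => CyclicTI.pull2_apply_of_mem c.semi.split g w hw, fun hJ => ?_, ?_⟩
    · refine hne ?_
      rw [← hθ₀, (F.μ_triv ω₀ hJ).2]
      funext k
      simp [(c.semi.pr_eq_one_iff _).mpr k.2]
    · rw [F.mus_eq_ind, hθ₀]
  · exact Or.inl (c.semi.isIrr_ind hθ hinv)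

theorem mus_not_irr (ω : Chr M K) : ¬ Cfsg.IsIrrCharacter M (F.mus ω) := fun h => by
  have h1 := F.mus_inner_mus ω ω
  rw [classInner_self_irr h, if_pos ⟨1, MonoidHom.ext fun w => by simp [row, CyclicTI.pull1_one]⟩] at h1
  have := c.three_le.1
  have h2 : Nat.card K = 1 := by exact_mod_cast h1.symm
  omega

end Fam

/-- A member supported in `kd` is admissible for `S1518`. -/
theorem Ctx.tau_irr_sub (c : Ctx M K U) [Fintype M] {φ : M → ℂ} (hS : φ ∈ calS M)
    (h : Cfsg.IsIrrCharacter M φ) :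
    ∃ μ : G → ℂ, Cfsg.IsIrrCharacter G μ ∧ Cfsg.conjFun μ ≠ μ ∧
      tau M (φ - Cfsg.conjFun φ) = μ - Cfsg.conjFun μ ∧
      Cfsg.classInner (tau M (φ - Cfsg.conjFun φ)) (tau M (φ - Cfsg.conjFun φ)) = 2 ∧
      (∀ x, x ∉ kd M → φ x = 0) := by
  obtain ⟨θ, hθ, -, -, e⟩ := id hS
  have hoff : ∀ x, x ∉ kd M → φ x = 0 := fun x hx => by
    rw [e]; exact indFun_eq_zero_of_not_mem _ _ hx
  obtain ⟨μ, hμ, he⟩ := S1518.result (Cfsg.typeA0 M) M (Cfsg.supportR M) c.hypothesis φ h
    fun x hx hA => by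
      by_contra hne
      exact hA (c.kd_mem_A0 (by_contra fun hk => hne (hoff x hk)) hx)
  have hfc : Cfsg.IsClassFunction M (φ - Cfsg.conjFun φ) := fun g k => by
    have := IsCharacter.isClassFunction (IsIrrCharacter.isCharacter h) g k
    simp [Cfsg.conjFun, this]
  have hfs : Supp (φ - Cfsg.conjFun φ) := c.supp_of_kd (fun x hx => by simp [Cfsg.conjFun, hoff x hx])
    (by rw [Pi.sub_apply, Coherence.conjFun_one h, sub_self])
  have hnorm : Cfsg.classInner (tau M (φ - Cfsg.conjFun φ)) (tau M (φ - Cfsg.conjFun φ)) = 2 := by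
    have hc : Cfsg.IsIrrCharacter M (Cfsg.conjFun φ) := IsIrrCharacter.conj h
    rw [c.tau_inner hfc hfs hfc, classInner_sub_left, classInner_sub_right, classInner_sub_right,
      classInner_self_irr h, classInner_self_irr hc, classInner_irr_of_ne h hc (c.conj_ne hS).symm,
      classInner_irr_of_ne hc h (c.conj_ne hS)]
    norm_num
  refine ⟨μ, hμ, fun hμc => ?_, he, hnorm, hoff⟩
  rw [show tau M (φ - Cfsg.conjFun φ) = μ - Cfsg.conjFun μ from he, hμc, sub_self,
    classInner_zero_right] at hnorm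
  norm_num at hnorm

/-- The images of `φ - conj φ` are orthogonal to the cyclic family, as are their two constituents. -/
theorem Fam.orth_eta_irr {c : Ctx M K U} [Fintype M] (F : Fam c) {φ : M → ℂ} (hS : φ ∈ calS M)
    (h : Cfsg.IsIrrCharacter M φ) {μ : G → ℂ} (hμ : Cfsg.IsIrrCharacter G μ)
    (hμne : Cfsg.conjFun μ ≠ μ) (he : tau M (φ - Cfsg.conjFun φ) = μ - Cfsg.conjFun μ) (ω : Chr M K) :
    Cfsg.classInner μ (F.η ω) = 0 ∧ Cfsg.classInner (Cfsg.conjFun μ) (F.η ω) = 0 := by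
  obtain ⟨μ', -, -, -, hnorm, hoff⟩ := c.tau_irr_sub hS h
  have hμc : Cfsg.IsIrrCharacter G (Cfsg.conjFun μ) := IsIrrCharacter.conj hμ
  have hfc : Cfsg.IsClassFunction M (φ - Cfsg.conjFun φ) := fun g k => by
    have := IsCharacter.isClassFunction (IsIrrCharacter.isCharacter h) g k
    simp [Cfsg.conjFun, this]
  have h0 := F.coeff_zero' (f := tau M (φ - Cfsg.conjFun φ)) (N := 2)
    (he ▸ IsGeneralizedCharacter.sub (IsGeneralizedCharacter.of_isCharacter (IsIrrCharacter.isCharacter hμ))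
      (IsGeneralizedCharacter.of_isCharacter (IsIrrCharacter.isCharacter hμc)))
    (by rw [hnorm]; norm_num) le_rfl (fun w h1 h2 => by
      have hk : (w : M) ∉ kd M := fun hk => h2 ((c.semi.mem_W2_iff w).mpr hk)
      rw [c.tau_outer hfc w h1 h2]
      simp [Cfsg.conjFun, hoff _ hk]) ω
  rw [he, classInner_sub_left, sub_eq_zero] at h0
  suffices h' : Cfsg.classInner μ (F.η ω) = 0 from ⟨h', h0 ▸ h'⟩
  by_contra hne
  have e1 := CyclicTI.SignIrr.eq_or_neg (Or.inl hμ) (F.η_irr ω) hne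
  have e2 := CyclicTI.SignIrr.eq_or_neg (Or.inl hμc) (F.η_irr ω) (h0 ▸ hne)
  have horth := classInner_irr_of_ne hμ hμc hμne.symm
  rcases e1 with e1 | e1 <;> rcases e2 with e2 | e2 <;>
    rw [e2] at horth <;> rw [e1] at horth <;>
    simp [classInner_neg_left, classInner_neg_right, F.η_orth] at horth

namespace Fam

variable {c : Ctx M K U} [Fintype M] (F : Fam c)

/-- The signed members of the cyclic family attached to `μ_j`. -/
noncomputable def part (ω : Chr M K) (i : Bool × (ka M K →* ℂˣ)) : G → ℂ :=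
  if i.1 then (F.δ ω : ℂ) • F.η (row c ω i.2) else (-(F.δ ω : ℂ)) • F.η (row c ω⁻¹ i.2)

theorem part_inner (a b : Chr M K) (i j : Bool × (ka M K →* ℂˣ)) :
    ∃ z : ℂ, Cfsg.classInner (F.part a i) (F.part b j) =
      z * if (if i.1 then row c a i.2 else row c a⁻¹ i.2) = (if j.1 then row c b j.2 else row c b⁻¹ j.2)
        then 1 else 0 := by
  obtain ⟨bi, fi⟩ := i
  obtain ⟨bj, fj⟩ := j
  unfold part
  cases bi <;> cases bj <;>
    simp only [Bool.false_eq_true, if_false, if_true, classInner_smul_left, classInner_smul_right,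
      F.η_orth] <;>
    exact ⟨_, (mul_assoc _ _ _).symm⟩

theorem part_orth {ω : Chr M K} (hω : ¬ J0 ω) (i j : Bool × (ka M K →* ℂˣ)) :
    Cfsg.classInner (F.part ω i) (F.part ω j) = if i = j then 1 else 0 := by
  have hs : (F.δ ω : ℂ) * (F.δ ω : ℂ) = 1 := by exact_mod_cast F.δ_sq ω
  obtain ⟨bi, fi⟩ := i
  obtain ⟨bj, fj⟩ := j
  cases bi <;> cases bj <;>
    simp [part, classInner_smul_left, classInner_smul_right, classInner_neg_left, classInner_neg_right, F.η_orth, row_ne hω,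
      (row_ne hω _ _).symm, (row_injective c _).eq_iff, hs]

theorem part_gen (ω : Chr M K) (i : Bool × (ka M K →* ℂˣ)) :
    Cfsg.IsGeneralizedCharacter G (F.part ω i) := by
  unfold part
  split_ifs
  · exact IsGeneralizedCharacter.int_smul (F.η_gen _) _
  · rw [← Int.cast_neg]; exact IsGeneralizedCharacter.int_smul (F.η_gen _) _

theorem part_injective {ω : Chr M K} (hω : ¬ J0 ω) : Function.Injective (F.part ω) := fun i j e => by
  by_contra hne
  have h := F.part_orth hω i j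
  rw [e, F.part_orth hω, if_pos rfl, if_neg hne] at h
  exact one_ne_zero h

/-- The constituents attached to a member of `calS`. -/
noncomputable def R (φ : M → ℂ) : Finset (G → ℂ) :=
  if h : ∃ μ : G → ℂ, Cfsg.IsIrrCharacter M φ ∧ Cfsg.IsIrrCharacter G μ ∧ Cfsg.conjFun μ ≠ μ ∧
      tau M (φ - Cfsg.conjFun φ) = μ - Cfsg.conjFun μ then
    {h.choose, -Cfsg.conjFun h.choose}
  else if h : ∃ ω, I0 ω ∧ ¬ J0 ω ∧ φ = F.mus ω then Finset.univ.image (F.part h.choose)
  else ∅

theorem R_cases {φ : M → ℂ} (hφ : φ ∈ calS M) :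
    (∃ μ : G → ℂ, Cfsg.IsIrrCharacter M φ ∧ Cfsg.IsIrrCharacter G μ ∧ Cfsg.conjFun μ ≠ μ ∧
        tau M (φ - Cfsg.conjFun φ) = μ - Cfsg.conjFun μ ∧ F.R φ = {μ, -Cfsg.conjFun μ}) ∨
      ∃ ω, I0 ω ∧ ¬ J0 ω ∧ φ = F.mus ω ∧ F.R φ = Finset.univ.image (F.part ω) := by
  rcases F.cases_calS hφ with hi | hm
  · obtain ⟨μ, h1, h2, h3, -, -⟩ := c.tau_irr_sub hφ hi
    have hex : ∃ μ : G → ℂ, Cfsg.IsIrrCharacter M φ ∧ Cfsg.IsIrrCharacter G μ ∧ Cfsg.conjFun μ ≠ μ ∧
        tau M (φ - Cfsg.conjFun φ) = μ - Cfsg.conjFun μ := ⟨μ, hi, h1, h2, h3⟩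
    obtain ⟨e1, e2, e3, e4⟩ := hex.choose_spec
    exact Or.inl ⟨_, e1, e2, e3, e4, by rw [R, dif_pos hex]⟩
  · have hno : ¬ ∃ μ : G → ℂ, Cfsg.IsIrrCharacter M φ ∧ Cfsg.IsIrrCharacter G μ ∧ Cfsg.conjFun μ ≠ μ ∧
        tau M (φ - Cfsg.conjFun φ) = μ - Cfsg.conjFun μ := by
      rintro ⟨μ, h, -⟩
      obtain ⟨ω, -, -, rfl⟩ := hm
      exact F.mus_not_irr ω h
    obtain ⟨e1, e2, e3⟩ := hm.choose_spec
    exact Or.inr ⟨_, e1, e2, e3, by rw [R, dif_neg hno, dif_pos hm]⟩

/-- The coherence system of `calS`. -/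
theorem system (F : Fam c) : Cfsg.IsCoherenceSystem (calS M) (tau M) F.R where
  nonempty := by
    obtain ⟨ζ, hζ, -⟩ := c.exists_zeta
    exact ⟨ζ, hζ⟩
  isCharacter φ hφ := by
    obtain ⟨θ, hθ, -, -, rfl⟩ := hφ
    exact isCharacter_indFun _ (IsIrrCharacter.isCharacter hθ)
  conj_mem φ hφ := IndSet.conj_mem_above _ _ hφ
  conj_ne φ hφ := c.conj_ne hφ
  isometry := c.calS_isometry
  map_one α _ := c.tau_one α
  orthogonal χ hχ φ hφ hne := by
    obtain ⟨θ, hθ, -, -, rfl⟩ := hχ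
    obtain ⟨θ', hθ', -, -, rfl⟩ := hφ
    rw [classInner_indFun_normal (kd M) hθ hθ']
    haveI : IsEmpty {g : M // conjChar (kd M) g θ = θ'} :=
      ⟨fun g => hne ((IndSet.ind_eq_iff (kd M) hθ hθ').mpr ⟨g.1, g.2⟩)⟩
    rw [Nat.card_of_isEmpty (α := {g : M // conjChar (kd M) g θ = θ'}), Nat.cast_zero, mul_zero]
  orthonormal φ hφ α hα β hβ := by
    rcases F.R_cases hφ with ⟨μ, -, hμ, hne, -, e⟩ | ⟨ω, -, hω, -, e⟩ <;> rw [e] at hα hβ
    · have hμc : Cfsg.IsIrrCharacter G (Cfsg.conjFun μ) := IsIrrCharacter.conj hμ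
      have hne' : μ ≠ -Cfsg.conjFun μ := fun e => by
        have h1 := congrArg (Cfsg.classInner μ) e
        rw [classInner_self_irr hμ, classInner_neg_right, classInner_irr_of_ne hμ hμc hne.symm, neg_zero] at h1
        exact one_ne_zero h1
      simp only [Finset.mem_insert, Finset.mem_singleton] at hα hβ
      rcases hα with rfl | rfl <;> rcases hβ with rfl | rfl <;>
        simp [classInner_neg_left, classInner_neg_right, classInner_self_irr, hμ, hμc,
          classInner_irr_of_ne hμ hμc hne.symm, classInner_irr_of_ne hμc hμ hne, hne', hne'.symm]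
    · simp only [Finset.mem_image, Finset.mem_univ, true_and] at hα hβ
      obtain ⟨i, rfl⟩ := hα
      obtain ⟨j, rfl⟩ := hβ
      rw [F.part_orth hω]
      exact if_congr (F.part_injective hω).eq_iff.symm rfl rfl
  virtual φ hφ α hα := by
    rcases F.R_cases hφ with ⟨μ, -, hμ, -, -, e⟩ | ⟨ω, -, -, -, e⟩ <;> rw [e] at hα
    · have hμc : Cfsg.IsIrrCharacter G (Cfsg.conjFun μ) := IsIrrCharacter.conj hμ
      simp only [Finset.mem_insert, Finset.mem_singleton] at hα
      rcases hα with rfl | rfl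
      · exact IsGeneralizedCharacter.of_isCharacter (IsIrrCharacter.isCharacter hμ)
      · exact IsGeneralizedCharacter.neg (IsGeneralizedCharacter.of_isCharacter (IsIrrCharacter.isCharacter hμc))
    · simp only [Finset.mem_image, Finset.mem_univ, true_and] at hα
      obtain ⟨i, rfl⟩ := hα
      exact F.part_gen ω i
  sum_eq φ hφ := by
    rcases F.R_cases hφ with ⟨μ, -, hμ, hne, he, e⟩ | ⟨ω, hI, hω, rfl, e⟩ <;> rw [e]
    · have hμc : Cfsg.IsIrrCharacter G (Cfsg.conjFun μ) := IsIrrCharacter.conj hμ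
      rw [Finset.sum_pair fun e => by
        have h1 := congrArg (Cfsg.classInner μ) e
        rw [classInner_self_irr hμ, classInner_neg_right, classInner_irr_of_ne hμ hμc hne.symm, neg_zero] at h1
        exact one_ne_zero h1]
      rw [he, sub_eq_add_neg]
    · rw [F.mus_conj, F.tau_mus_sub hI hω, Finset.sum_image fun a _ b _ h => F.part_injective hω h,
        Fintype.sum_prod_type, Fintype.sum_bool, ← Finset.sum_add_distrib]
      refine Finset.sum_congr rfl fun f _ => ?_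
      simp [part, sub_eq_add_neg]
  disjoint χ hχ φ hφ h1 h2 α hα β hβ := by
    rcases F.R_cases hχ with ⟨μ, hiχ, hμ, hμne, heχ, e⟩ | ⟨a, hIa, ha, rfl, e⟩ <;>
      rcases F.R_cases hφ with ⟨ν, hiφ, hν, hνne, heφ, e'⟩ | ⟨b, hIb, hb, rfl, e'⟩ <;>
      rw [e'] at hα <;> rw [e] at hβ
    · have hμc : Cfsg.IsIrrCharacter G (Cfsg.conjFun μ) := IsIrrCharacter.conj hμ
      have hνc : Cfsg.IsIrrCharacter G (Cfsg.conjFun ν) := IsIrrCharacter.conj hν
      have hmχ : χ - Cfsg.conjFun χ ∈ Cfsg.zspanOn (calS M) ({1}ᶜ : Set M) :=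
        Coherence.mem_zspanOn_one.mpr ⟨Submodule.sub_mem _ (Submodule.subset_span hχ)
          (Submodule.subset_span (IndSet.conj_mem_above _ _ hχ)),
          by rw [Pi.sub_apply, Coherence.conjFun_one hiχ, sub_self]⟩
      have hmφ : φ - Cfsg.conjFun φ ∈ Cfsg.zspanOn (calS M) ({1}ᶜ : Set M) :=
        Coherence.mem_zspanOn_one.mpr ⟨Submodule.sub_mem _ (Submodule.subset_span hφ)
          (Submodule.subset_span (IndSet.conj_mem_above _ _ hφ)),
          by rw [Pi.sub_apply, Coherence.conjFun_one hiφ, sub_self]⟩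
      have hiχc : Cfsg.IsIrrCharacter M (Cfsg.conjFun χ) := IsIrrCharacter.conj hiχ
      have hiφc : Cfsg.IsIrrCharacter M (Cfsg.conjFun φ) := IsIrrCharacter.conj hiφ
      have hne1 : φ ≠ χ := fun e => by rw [e, classInner_self_irr hiχ] at h1; exact one_ne_zero h1
      have hne2 : φ ≠ Cfsg.conjFun χ := fun e => by
        rw [e, classInner_self_irr hiχc] at h2; exact one_ne_zero h2
      have hne3 : Cfsg.conjFun φ ≠ χ := fun e => hne2 (by rw [← e, Coherence.conjFun_conjFun])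
      have hne4 : Cfsg.conjFun φ ≠ Cfsg.conjFun χ := fun e => hne1 (by
        rw [← Coherence.conjFun_conjFun φ, e, Coherence.conjFun_conjFun])
      have h := c.calS_isometry.2.2.1 _ hmφ _ hmχ
      rw [heχ, heφ, classInner_sub_left φ, classInner_sub_right φ, classInner_sub_right (Cfsg.conjFun φ),
        classInner_irr_of_ne hiφ hiχ hne1, classInner_irr_of_ne hiφ hiχc hne2,
        classInner_irr_of_ne hiφc hiχ hne3, classInner_irr_of_ne hiφc hiχc hne4] at h
      simp only [sub_zero] at h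
      obtain ⟨d1, d2, d3, d4⟩ := Coherence.disjoint_of_diff
        (μ := ⟨ν, hν⟩) (ν := ⟨_, hνc⟩) (μ' := ⟨μ, hμ⟩) (ν' := ⟨_, hμc⟩)
        (fun e => hνne (congrArg Subtype.val e).symm) (fun e => hμne (congrArg Subtype.val e).symm) h
      simp only [Ne, Subtype.mk.injEq] at d1 d2 d3 d4
      simp only [Finset.mem_insert, Finset.mem_singleton] at hα hβ
      rcases hα with rfl | rfl <;> rcases hβ with rfl | rfl <;>
        simp [classInner_neg_left, classInner_neg_right, classInner_irr_of_ne, hμ, hμc, hν, hνc,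
          d1, d2, d3, d4]
    · simp only [Finset.mem_insert, Finset.mem_singleton] at hβ
      simp only [Finset.mem_image, Finset.mem_univ, true_and] at hα
      obtain ⟨i, rfl⟩ := hα
      have hperp : ∀ ω, Cfsg.classInner (F.η ω) β = 0 := fun ω => by
        obtain ⟨o1, o2⟩ := F.orth_eta_irr hχ hiχ hμ hμne heχ ω
        rcases hβ with rfl | rfl <;> rw [← classInner_conj_symm]
        · rw [o1, map_zero]
        · rw [classInner_neg_left, o2, neg_zero, map_zero]
      unfold part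
      split_ifs <;> rw [classInner_smul_left, hperp, mul_zero]
    · simp only [Finset.mem_insert, Finset.mem_singleton] at hα
      simp only [Finset.mem_image, Finset.mem_univ, true_and] at hβ
      obtain ⟨i, rfl⟩ := hβ
      have hperp : ∀ ω, Cfsg.classInner α (F.η ω) = 0 := fun ω => by
        obtain ⟨o1, o2⟩ := F.orth_eta_irr hφ hiφ hν hνne heφ ω
        rcases hα with rfl | rfl
        · exact o1
        · rw [classInner_neg_left, o2, neg_zero]
      unfold part
      split_ifs <;> rw [classInner_smul_right, hperp, mul_zero]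
    · simp only [Finset.mem_image, Finset.mem_univ, true_and] at hα hβ
      obtain ⟨i, rfl⟩ := hα
      obtain ⟨j, rfl⟩ := hβ
      have hK : (Nat.card K : ℂ) ≠ 0 := Nat.cast_ne_zero.mpr Nat.card_pos.ne'
      rw [F.mus_conj] at h2
      rw [F.mus_inner_mus] at h1 h2
      have n1 : ¬ ∃ f, row c b f = a := fun h => by rw [if_pos h] at h1; exact hK h1
      have n2 : ¬ ∃ f, row c b f = a⁻¹ := fun h => by rw [if_pos h] at h2; exact hK h2
      rw [exists_row_eq_iff] at n1 n2
      obtain ⟨z, hz⟩ := F.part_inner b a i j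
      rw [hz, if_neg, mul_zero]
      intro e
      obtain ⟨bi, fi⟩ := i
      obtain ⟨bj, fj⟩ := j
      have e' : ∀ w : ↥(ka M K ⊔ kb M K), (w : M) ∈ kb M K →
          (if bi then b else b⁻¹) w = (if bj then a else a⁻¹) w := fun w hw => by
        have := DFunLike.congr_fun e w
        cases bi <;> cases bj <;>
          simpa [CyclicTI.pull1_apply_of_mem c.semi.split _ w hw] using this
      cases bi <;> cases bj
      · exact n1 fun w hw => by simpa using congrArg (·⁻¹) (e' w hw)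
      · exact n2 fun w hw => by simpa using congrArg (·⁻¹) (e' w hw)
      · exact n2 fun w hw => e' w hw
      · exact n1 fun w hw => e' w hw

end Fam

/-- PF 10: the coherence system. -/
theorem exists_system (c : Ctx M K U) [Fintype M] :
    ∃ R, Cfsg.IsCoherenceSystem (calS M) (tau M) R := by
  obtain ⟨F⟩ := exists_fam c
  exact ⟨F.R, F.system⟩

end Cfsg.Agent.OddChar.P10
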