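import Cfsg.Agent.Lib.OddChar.PF10.NonCoherent
import Cfsg.Agent.Lib.OddChar.PF10.System
import Cfsg.Agent.Lib.OddOrder.FittingHall
import Cfsg.Agent.S1521

/-!
# PF 10.10: the facts forced on a maximal subgroup of Type V
-/

set_option linter.style.haveILetI false
set_option linter.unusedSectionVars false

namespace Cfsg.Agent.OddChar.P10

open Cfsg.Agent.Char
open scoped Classical ComplexConjugate commutatorElement

attribute [local instance] dualFintype

universe u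

variable {G : Type u} [Group G] [Fintype G] {M K U : Subgroup G}

/-- An element of prime order acting on a normal subgroup of coprime order fixes a point in each coset it fixes. -/
theorem exists_fixed_in_coset {X : Type u} [Group X] [Finite X] (H : Subgroup X) [H.Normal] {a x : X}
    {r : ℕ} (hr : r.Prime) (ha : a ^ r = 1) (hrH : ¬ r ∣ Nat.card H)
    (hc : Commute (a : X ⧸ H) (x : X ⧸ H)) : ∃ z : X, (z : X ⧸ H) = x ∧ a * z = z * a := by
  haveI := Fact.mk hr
  haveI : Fintype {z : X // (z : X ⧸ H) = x} := Fintype.ofFinite _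
  have hp : ∀ z : X, (MulAut.toPerm X (MulAut.conj a) z : X ⧸ H) = x ↔ (z : X ⧸ H) = x := fun z => by
    show ((a * z * a⁻¹ : X) : X ⧸ H) = x ↔ _
    rw [QuotientGroup.mk_mul, QuotientGroup.mk_mul, QuotientGroup.mk_inv, mul_inv_eq_iff_eq_mul,
      ← hc.eq, mul_right_inj]
  set σ := (MulAut.toPerm X (MulAut.conj a)).subtypePerm (p := fun z : X => (z : X ⧸ H) = x) hp with hσ
  have hσr : σ ^ r ^ 1 = 1 := by
    refine Equiv.ext fun z => Subtype.ext ?_
    rw [pow_one, hσ, Equiv.Perm.subtypePerm_pow, Equiv.Perm.subtypePerm_apply]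
    show ((MulAut.toPerm X (MulAut.conj a)) ^ r) (z : X) = (z : X)
    rw [← map_pow, ← map_pow, ha, map_one, map_one, Equiv.Perm.one_apply]
  have hcard : ¬ r ∣ Fintype.card {z : X // (z : X ⧸ H) = x} := by
    rw [← Nat.card_eq_fintype_card,
      show Nat.card {z : X // (z : X ⧸ H) = x} = Nat.card H from (Nat.card_congr
        { toFun := fun h : H => (⟨x * h, by rw [QuotientGroup.mk_mul, (QuotientGroup.eq_one_iff _).2 h.2, mul_one]⟩ :
            {z : X // (z : X ⧸ H) = x})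
          invFun := fun z => ⟨x⁻¹ * z, QuotientGroup.eq.1 z.2.symm⟩
          left_inv := fun h => Subtype.ext (inv_mul_cancel_left x (h : X))
          right_inv := fun z => Subtype.ext (mul_inv_cancel_left x (z : X)) }).symm]
    exact hrH
  obtain ⟨z, hz⟩ := Equiv.Perm.exists_fixed_point_of_prime hcard hσr
  exact ⟨z, z.2, mul_inv_eq_iff_eq_mul.1 (show a * (z : X) * a⁻¹ = z from congrArg Subtype.val hz)⟩

namespace Ctx

variable (c : Ctx M K U) (hV : Cfsg.IsOfTypeV M)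
include c hV

theorem fitting_eq_of_typeV : Cfsg.fittingHallOf M = Cfsg.sigmaCore M :=
  ((OddOrder.Types.typeV_iff c.hG c.hM c.hKU).1 hV).2.2

theorem kd_nilpotent : Group.IsNilpotent (kd M) := by
  have hF := OddOrder.FHall.fittingHallOf_nilpotent M
  rw [c.fitting_eq_of_typeV hV] at hF
  haveI := hF
  exact Group.nilpotent_of_mulEquiv ((Subgroup.subgroupOfEquivOfLe (OddOrder.Exceptional.sigmaCore_le M)).symm.trans
    (MulEquiv.subgroupCongr (show (Cfsg.sigmaCore M).subgroupOf M = kd M from Subgroup.ext fun x => (c.mem_kd x).symm)))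

theorem kb_le_derived : kb M K ≤ ⁅kd M, kd M⁆ := by
  obtain ⟨W, hP⟩ := c.exists_typeP
  intro x hx
  have h : (x : G) ∈ (⁅kd M, kd M⁆).map M.subtype := by
    rw [Subgroup.map_commutator, Subgroup.map_subtype_commutator]
    exact (hP.W₂_le hx).2
  obtain ⟨y, hy, e⟩ := h
  rwa [← Subtype.ext e]

theorem derived_lt : ⁅kd M, kd M⁆ < kd M := by
  haveI := c.kd_nilpotent hV
  have hne : kd M ≠ ⊥ := fun e => c.semi.ne2 (le_bot_iff.1 (c.semi.le.trans e.le))
  haveI : Nontrivial (kd M) := (Subgroup.nontrivial_iff_ne_bot _).2 hne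
  refine lt_of_le_of_ne (Subgroup.commutator_le_left _ _) fun e => ?_
  refine (Group.IsSolvable.commutator_lt_top_of_nontrivial (kd M)).ne ?_
  refine Subgroup.map_injective (kd M).subtype_injective ?_
  rw [Subgroup.map_subtype_commutator, ← MonoidHom.range_eq_map, Subgroup.range_subtype, e]

/-- `M ⧸ M''` is a Frobenius group with kernel `M' ⧸ M''`. -/
theorem derived_frob : ∀ x ∈ kd M, x ∉ ⁅kd M, kd M⁆ →
    ∀ y : M, y * x * y⁻¹ * x⁻¹ ∈ ⁅kd M, kd M⁆ → y ∈ kd M := by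
  intro x hx hxD y hy
  by_contra hyk
  obtain ⟨t, v, hv, rfl⟩ := c.semi.exists_conj hyk
  set D := ⁅kd M, kd M⁆ with hD
  obtain ⟨a, ha, b, hb, hab⟩ : ∃ a ∈ ka M K, ∃ b ∈ kb M K, a * b = (v : M) := by
    have hv' : ((v : M) : G) ∈ K ⊔ wTwo M K := c.sup_subgroupOf.le v.2
    have hcomm : K ≤ Subgroup.normalizer (wTwo M K : Set G) := fun k hk => by
      rw [Subgroup.mem_normalizer_iff]
      intro w
      constructor <;> intro hw
      · rwa [show k * w * k⁻¹ = w by rw [Subgroup.mem_centralizer_iff.1 hw.2 k hk, mul_inv_cancel_right]]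
      · have h := Subgroup.mem_centralizer_iff.1 hw.2 k hk
        rwa [show w = k * w * k⁻¹ by
          have h2 : k * (k * w * k⁻¹) = k * w * k⁻¹ * k := h
          calc w = k⁻¹ * (k * w * k⁻¹ * k) := by group
            _ = k⁻¹ * (k * (k * w * k⁻¹)) := by rw [h2]
            _ = k * w * k⁻¹ := by group]
    rw [← SetLike.mem_coe, Subgroup.coe_mul_of_left_le_normalizer_right _ _ hcomm] at hv'
    obtain ⟨a, ha, b, hb, e⟩ := hv'
    exact ⟨⟨a, c.K_le ha⟩, ha, ⟨b, c.wTwo_le hb⟩, hb, Subtype.ext e⟩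
  have ha1 : a ≠ 1 := fun e => hv (by rw [← hab, e, one_mul]; exact hb)
  -- the conjugate of `x` centralised by `a` modulo `D`
  have hcomm : Commute (a : M ⧸ D) ((t⁻¹ * x * t : M) : M ⧸ D) := by
    have hb1 : (b : M ⧸ D) = 1 := (QuotientGroup.eq_one_iff b).2 (c.kb_le_derived hV hb)
    have h1 := (QuotientGroup.eq_one_iff _).2 hy
    rw [← hab] at h1
    simp only [QuotientGroup.mk_mul, QuotientGroup.mk_inv, hb1, mul_one] at h1
    rw [mul_inv_eq_one, mul_inv_eq_iff_eq_mul] at h1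
    show _ * _ = _ * _
    simp only [QuotientGroup.mk_mul, QuotientGroup.mk_inv]
    generalize (t : M ⧸ D) = t', (x : M ⧸ D) = x', (a : M ⧸ D) = a' at h1 ⊢
    calc a' * (t'⁻¹ * x' * t') = t'⁻¹ * (t' * a' * t'⁻¹ * x') * t' := by group
      _ = t'⁻¹ * (x' * (t' * a' * t'⁻¹)) * t' := by rw [h1]
      _ = t'⁻¹ * x' * t' * a' := by group
  obtain ⟨r, hr, hra⟩ := Nat.exists_prime_and_dvd fun e => ha1 (orderOf_eq_one_iff.1 e)
  haveI := Fact.mk hr
  set k := orderOf a / r with hk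
  have hk0 : a ^ k ≠ 1 := fun e => by
    have h0 : 0 < k := Nat.div_pos (Nat.le_of_dvd (orderOf_pos a) hra) hr.pos
    have := Nat.le_of_dvd h0 (orderOf_dvd_of_pow_eq_one e)
    have := Nat.div_lt_self (orderOf_pos a) hr.one_lt
    omega
  have hrH : ¬ r ∣ Nat.card D := fun h => by
    have h1 : r ∣ Nat.card (ka M K) := hra.trans (Subgroup.orderOf_dvd_natCard _ ha)
    have h2 : Nat.card (kd M) = (ka M K).index :=
      Nat.eq_of_mul_eq_mul_right (show 0 < Nat.card K from Nat.card_pos) (by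
        rw [← c.card_eq, mul_comm, ← c.card_ka, Subgroup.card_mul_index])
    have h3 : r ∣ (ka M K).index := h2 ▸ h.trans (Subgroup.card_dvd_of_le (Subgroup.commutator_le_left _ _))
    exact hr.ne_one (Nat.eq_one_of_dvd_coprimes c.semi.hall h1 h3)
  obtain ⟨z, hz, hzc⟩ := exists_fixed_in_coset D hr
    (show (a ^ k) ^ r = 1 by rw [← pow_mul, hk, Nat.div_mul_cancel hra, pow_orderOf_eq_one]) hrH
    (x := t⁻¹ * x * t) (by simpa only [QuotientGroup.mk_pow] using hcomm.pow_left k)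
  have hzD : z⁻¹ * (t⁻¹ * x * t) ∈ D := QuotientGroup.eq.1 hz
  have hx' : t⁻¹ * x * t ∈ kd M := by simpa using (inferInstance : (kd M).Normal).conj_mem x hx t⁻¹
  have hzk : z ∈ kd M := by
    have := mul_mem hx' (inv_mem (Subgroup.commutator_le_left _ _ hzD : z⁻¹ * (t⁻¹ * x * t) ∈ kd M))
    simpa [mul_assoc] using this
  have hzb : z ∈ kb M K := by
    rw [← c.semi.cent (a ^ k) (pow_mem ha k) hk0]
    exact ⟨hzk, Subgroup.mem_centralizer_singleton_iff.2 hzc.symm⟩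
  refine hxD ?_
  have h1 : t⁻¹ * x * t ∈ D := by simpa using mul_mem (c.kb_le_derived hV hzb) hzD
  simpa [mul_assoc] using (inferInstance : D.Normal).conj_mem _ h1 t

end Ctx

/-- PF 10.10, first part. -/
theorem Ctx.typeV_facts {G : Type u} [Group G] [Fintype G] {M K U : Subgroup G} (c : Ctx M K U) [Fintype M]
    (hV : Cfsg.IsOfTypeV M) :
    ∃ p m : ℕ, p.Prime ∧ Nat.card (kd M) = p ^ m ∧ Nat.card (wTwo M K) = p ∧ ¬ Nat.card K ∣ p - 1 ∧
      kb M K ≤ ⁅kd M, kd M⁆ ∧ ⁅kd M, kd M⁆ < kd M ∧ Group.IsNilpotent (kd M) ∧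
      (∀ x ∈ kd M, x ∉ ⁅kd M, kd M⁆ → ∀ y : M, y * x * y⁻¹ * x⁻¹ ∈ ⁅kd M, kd M⁆ → y ∈ kd M) ∧
      (Cfsg.IsTISubset ((Cfsg.sigmaCore M : Subgroup G) : Set G) ∨
        (Nat.card (kd M) = p ^ 3 ∧ Nat.card K ∣ p + 1)) := by
  have hnil := c.kd_nilpotent hV
  haveI := hnil
  have hidx : (kd M).index = Nat.card K := by rw [c.semi.index_eq, c.card_ka]
  have hKtop : kd M < ⊤ := lt_top_iff_ne_top.2 fun e => by
    have := c.three_le.1
    rw [← hidx, e, Subgroup.index_top] at this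
    omega
  obtain ⟨F⟩ := exists_fam c
  haveI : ((⊥ : Subgroup M).subgroupOf (kd M)).Normal := Subgroup.normal_subgroupOf
  have hquot : Group.IsNilpotent (↥(kd M) ⧸ (⊥ : Subgroup M).subgroupOf (kd M)) := inferInstance
  have key : ∀ _hgood : (∃ N : Subgroup M, N.Normal ∧ ⁅kd M, kd M⁆ ⊔ ⊥ < N ∧ N < kd M) ∨
      4 * (kd M).index ^ 2 + 1 < (⁅kd M, kd M⁆ ⊔ ⊥).relIndex (kd M) ∨
      (¬ ∃ p m : ℕ, p.Prime ∧ (⊥ : Subgroup M).relIndex (kd M) = p ^ m) ∨ ⁅kd M, kd M⁆ ≤ ⊥ ∨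
      (∃ p m : ℕ, p.Prime ∧ (⊥ : Subgroup M).relIndex (kd M) = p ^ m ∧ (kd M).index ∣ p - 1), False := by
    intro hgood
    exact notCoherent345 c.hG M c.hM (Or.inr (Or.inr hV))
      (S1521.result (kd M) inferInstance (tau M) F.R F.system c.odd_card ⊥ bot_le hquot _ rfl
        (by rw [sup_bot_eq]; exact c.derived_lt hV) hKtop
        (by rw [sup_bot_eq]; exact c.derived_frob hV) hgood)
  rw [Subgroup.relIndex_bot_left] at key
  obtain ⟨p, m, hp, hm⟩ : ∃ p m : ℕ, p.Prime ∧ Nat.card (kd M) = p ^ m :=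
    by_contra fun h => key (Or.inr (Or.inr (Or.inl h)))
  have hdvd : ¬ Nat.card K ∣ p - 1 := fun h =>
    key (Or.inr (Or.inr (Or.inr (Or.inr ⟨p, m, hp, hm, hidx ▸ h⟩))))
  have hw : Nat.card (wTwo M K) = p := by
    have h1 : Nat.card (wTwo M K) ∣ p ^ m := hm ▸ c.card_kb ▸ Subgroup.card_dvd_of_le c.semi.le
    exact (Nat.prime_dvd_prime_iff_eq c.prime_wTwo hp).1 (c.prime_wTwo.dvd_of_dvd_pow h1)
  refine ⟨p, m, hp, hm, hw, hdvd, c.kb_le_derived hV, c.derived_lt hV, hnil, c.derived_frob hV, ?_⟩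
  have hcardF : Nat.card (Cfsg.fittingHallOf M) = p ^ m := by
    rw [c.fitting_eq_of_typeV hV, ← hm,
      ← Nat.card_congr (Subgroup.subgroupOfEquivOfLe (OddOrder.Exceptional.sigmaCore_le M)).toEquiv]
    exact Nat.card_congr (MulEquiv.subgroupCongr
      (show (Cfsg.sigmaCore M).subgroupOf M = kd M from Subgroup.ext fun x => (c.mem_kd x).symm)).toEquiv
  have hFs := c.fitting_eq_of_typeV hV
  obtain ⟨W₁, U', W₂, hP, -, hcase⟩ := hV
  have hW₁ : Nat.card W₁ = Nat.card K := by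
    rw [← OddOrder.Compl.relIndex_left hP.W₁_compl,
      OddOrder.Compl.relIndex_left (OddOrder.Types.compl_derived c.hG c.hM c.hKU c.ne)]
  have hq : ∀ q : ℕ, q.Prime → q ∣ Nat.card (Cfsg.fittingHallOf M) → q = p := fun q hq h =>
    (Nat.prime_dvd_prime_iff_eq hq hp).1 (hq.dvd_of_dvd_pow (hcardF ▸ h))
  rcases hcase with h | ⟨q, hq1, hq2, h, -⟩ | ⟨q, hq1, hq2, h3, h, -⟩
  · left
    rwa [hFs] at h
  · obtain rfl := hq q hq1 hq2
    exact absurd (hW₁ ▸ h) hdvd
  · obtain rfl := hq q hq1 hq2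
    refine Or.inr ⟨?_, hW₁ ▸ h⟩
    have htop : Cfsg.pCore q (Cfsg.fittingHallOf M) = ⊤ := by
      refine top_le_iff.1 (le_sSup ⟨inferInstance, IsPGroup.of_card (n := m) ?_⟩)
      rw [Subgroup.card_top, hcardF]
    rw [htop, Subgroup.card_top, hcardF] at h3
    rw [hm, h3]

end Cfsg.Agent.OddChar.P10
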