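import Cfsg.Agent.Lib.OddChar.PF10.Criterion
import Cfsg.Agent.Lib.OddChar.PF10.Linear
import Cfsg.Agent.Lib.OddChar.PF10.TypeV
import Cfsg.Agent.Lib.Char.DegreeCenter

/-!
# PF 10.10: two steps on Type V
-/

set_option linter.style.haveILetI false
set_option linter.unusedSectionVars false

namespace Cfsg.Agent.OddChar.P10

open Cfsg.Agent.Char
open scoped Classical ComplexConjugate commutatorElement

attribute [local instance] dualFintype

universe u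

variable {G : Type u} [Group G] [Fintype G] {M K U : Subgroup G}

theorem Ctx.exists_not_J0 (c : Ctx M K U) [Fintype M] : ∃ ω : Chr M K, I0 ω ∧ ¬ J0 ω := by
  haveI := c.semi.comm2
  haveI : Nontrivial (kb M K →* ℂˣ) := Fintype.one_lt_card_iff_nontrivial.1 (by
    rw [← Nat.card_eq_fintype_card, CyclicTI.card_hom, c.card_kb]
    have := c.three_le.2
    omega)
  obtain ⟨g, hg⟩ := exists_ne (1 : kb M K →* ℂˣ)
  exact ⟨_, Fam.pull2_I0 c g, Fam.pull2_not_J0 c hg⟩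

/-- The case `|M'| = p^3`, `|W₁|` dividing `p + 1`, is impossible. -/
theorem Ctx.false_of_cube (c : Ctx M K U) [Fintype M] (F : Fam c) {p : ℕ} (hp : p.Prime)
    (hcard : Nat.card (kd M) = p ^ 3) (hk : Nat.card K ∣ p + 1) (hnd : ¬ Nat.card K ∣ p - 1)
    (hkb : kb M K ≤ ⁅kd M, kd M⁆) (hlt : ⁅kd M, kd M⁆ < kd M) : False := by
  obtain ⟨ζ, h, T, hT, hTq⟩ := c.exists_coh_lin hlt
  have hk3 := c.three_le.1
  set q := ⁅kd M, kd M⁆.relIndex (kd M) with hq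
  have hH : Nat.card (⁅kd M, kd M⁆ : Subgroup M) * q = p ^ 3 := by
    rw [← hcard, hq, ← Subgroup.relIndex_bot_left, ← Subgroup.relIndex_bot_left (H := kd M)]
    exact Subgroup.relIndex_mul_relIndex _ _ _ bot_le hlt.le
  obtain ⟨i, hi, hiq⟩ : ∃ i ≤ 3, q = p ^ i := (Nat.dvd_prime_pow hp).1 ⟨_, by rw [← hH, mul_comm]⟩
  have hH3 : 3 ≤ Nat.card (⁅kd M, kd M⁆ : Subgroup M) :=
    le_trans (c.card_kb ▸ c.three_le.2) (Nat.le_of_dvd Nat.card_pos (Subgroup.card_dvd_of_le hkb))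
  have hq2 : q = p ^ 2 := by
    interval_cases i
    · exfalso
      rw [pow_zero] at hiq
      exact hlt.not_ge (Subgroup.relIndex_eq_one.1 hiq)
    · exfalso
      rw [pow_one] at hiq
      refine hnd ⟨T.card, ?_⟩
      rw [mul_comm, ← hiq, ← hTq]
      omega
    · exact hiq
    · exfalso
      rw [hiq] at hH
      have : Nat.card (⁅kd M, kd M⁆ : Subgroup M) = 1 := Nat.eq_of_mul_eq_mul_right (pow_pos hp.pos 3) (by rw [one_mul]; exact hH)
      omega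
  obtain ⟨j, hj⟩ := hk
  -- exceptional degrees are `p`
  have hdeg : ∀ ω : Chr M K, ¬ J0 ω → ∀ n : ℤ, F.μ ω 1 = (F.δ ω : ℂ) + (n : ℂ) * (Nat.card K : ℂ) →
      n ≤ (j : ℤ) ∧ 2 * Nat.card K ≤ p + 1 := by
    intro ω hJ n hn
    obtain ⟨d, hd1, hd2, -⟩ := F.μ_deg_nat hJ
    set θ : Cfsg.IrrCharacter (kd M) := ⟨_, F.μ_res ω⟩
    have hd : Cfsg.charDegree (θ : kd M → ℂ) = d := Nat.cast_injective (R := ℂ) (by
      rw [← CharX.irr_deg, ← hd1]; rfl)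
    have hsum : d ^ 2 ≤ p ^ 3 := by
      rw [← hd, ← hcard, ← CharX.sum_deg_sq (G := kd M)]
      exact Finset.single_le_sum (f := fun ψ : Cfsg.IrrCharacter (kd M) => Cfsg.charDegree (ψ : kd M → ℂ) ^ 2)
        (fun ψ _ => Nat.zero_le _) (Finset.mem_univ θ)
    obtain ⟨e, -, he⟩ := (Nat.dvd_prime_pow hp).1 (hcard ▸ hd ▸ CharX.irr_deg_dvd_card θ)
    have hdp : d = p := by
      rcases Nat.lt_or_ge e 2 with h2 | h2
      · interval_cases e
        · rw [pow_zero] at he; omega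
        · rwa [pow_one] at he
      · exfalso
        have h4 : p ^ 4 ≤ d ^ 2 := by
          rw [he, ← pow_mul]; exact Nat.pow_le_pow_right hp.pos (by omega)
        have h34 : p ^ 3 < p ^ 4 := Nat.pow_lt_pow_right hp.one_lt (by norm_num)
        omega
    rw [hd1] at hn
    have hn' : (d : ℤ) = F.δ ω + n * Nat.card K := by exact_mod_cast hn
    refine ⟨?_, hdp ▸ hd2⟩
    have hs := Int.eq_one_or_neg_one_of_mul_eq_one (F.δ_sq ω)
    have h1 : n * (Nat.card K : ℤ) ≤ (j : ℤ) * Nat.card K := by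
      have : (p : ℤ) + 1 = Nat.card K * j := by exact_mod_cast hj
      rw [hdp] at hn'
      rcases hs with h | h <;> linarith
    exact le_of_mul_le_mul_right h1 (by omega)
  obtain ⟨ω₀, hI₀, hJ₀⟩ := c.exists_not_J0
  obtain ⟨d₀, hd₀, -, n₀, hn₀, hdn₀⟩ := F.μ_deg_nat hJ₀
  have hd₀' : F.μ ω₀ 1 = (F.δ ω₀ : ℂ) + (n₀ : ℂ) * (Nat.card K : ℂ) := by
    rw [hd₀]; exact_mod_cast hdn₀
  obtain ⟨hn₀j, hkp⟩ := hdeg ω₀ hJ₀ n₀ hd₀'
  have hp5 : 5 ≤ p := by omega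
  have hTj : T.card = j * (p - 1) := by
    have h1 : T.card * Nat.card K = (p - 1) * j * Nat.card K := by
      have h2 : T.card * Nat.card K + 1 = p ^ 2 := hTq.trans hq2
      obtain ⟨b, rfl⟩ : ∃ b, p = b + 1 := ⟨p - 1, by omega⟩
      simp only [Nat.add_sub_cancel]
      have h3 : b + 1 + 1 = Nat.card K * j := hj
      nlinarith
    rw [Nat.eq_of_mul_eq_mul_right (by omega) h1, mul_comm]
  have hjT : 2 * (j : ℤ) + 2 < (T.card : ℤ) := by
    have h2j : 2 ≤ (j : ℤ) := le_trans hn₀ hn₀j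
    have : j * 4 ≤ T.card := hTj ▸ Nat.mul_le_mul_left j (by omega)
    omega
  have hsum : ∑ φ ∈ T, ((1 : ℕ) : ℝ) ^ 2 = (T.card : ℝ) := by simp
  have hu : ∀ ω : Chr M K, I0 ω → ¬ J0 ω → ∀ n : ℤ, 2 ≤ n →
      F.μ ω 1 = (F.δ ω : ℂ) + (n : ℂ) * (Nat.card K : ℂ) → ∀ f,
        Cfsg.classInner (tau M (F.alpha ζ ω n f)) h.u = -(n : ℂ) := fun ω hI hJ n hn hd f => by
    refine h.alpha_coeff_irr F T (fun φ hφ => (hT φ).1 hφ) (fun φ hφ => (c.linS_facts ((hT φ).1 hφ)).1)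
      ((hT ζ).2 h.mem) (fun _ => 1) (fun φ hφ => ?_) hI hJ hn hd ?_ f
    · rw [(c.linS_facts ((hT φ).1 hφ)).2.1, Nat.cast_one, one_mul]
    · rw [hsum]
      have h1 : 2 * n + 2 < (T.card : ℤ) := by have := (hdeg ω hJ n hd).1; omega
      exact_mod_cast h1
  refine h.false_of_shapes F hu (h.psi_coeff_irr F T (fun φ hφ => (hT φ).1 hφ)
    (fun φ hφ => (c.linS_facts ((hT φ).1 hφ)).2.2) (fun φ hφ => (c.linS_facts ((hT φ).1 hφ)).1)
    ((hT ζ).2 h.mem) (fun _ => 1) (fun φ hφ => ?_) ?_ hI₀ hJ₀ hn₀ hd₀' (hu ω₀ hI₀ hJ₀ n₀ hn₀ hd₀'))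
  · rw [(c.linS_facts ((hT φ).1 hφ)).2.1, Nat.cast_one, one_mul]
  · rw [hsum]
    have h1 : (2 : ℤ) < (T.card : ℤ) := by omega
    exact_mod_cast h1

/-- Outside `S(Z)` the members of `calS` are irreducible, `Z` central in `M'` without fixed points. -/
theorem Ctx.irr_of_not_above (c : Ctx M K U) [Fintype M] (F : Fam c) (Z : Subgroup M) [Z.Normal]
    (hZK : Z ≤ kd M) (hZc : ∀ z ∈ Z, ∀ y ∈ kd M, z * y = y * z) (hZb : Z ⊓ kb M K = ⊥) {φ : M → ℂ}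
    (hφ : φ ∈ calS M) (hn : φ ∉ Cfsg.inducedIrrAbove (kd M) Z) : Cfsg.IsIrrCharacter M φ := by
  rcases F.cases_calS hφ with h | ⟨ω, -, hJ, rfl⟩
  · exact h
  refine absurd ⟨fun k : kd M => F.μ ω k, F.μ_res ω, F.μ_mem_ne_one hJ, fun z hz => ?_, F.mus_eq_ind ω⟩ hn
  obtain ⟨w, hw, hw1⟩ := (Subgroup.bot_or_exists_ne_one (ka M K)).resolve_left c.semi.ne1
  have hZn : ∀ a ∈ Z, a⁻¹ * (w * a * w⁻¹) ∈ Z := fun a ha =>
    Z.mul_mem (Z.inv_mem ha) ((inferInstance : Z.Normal).conj_mem a ha w)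
  let f : Z → Z := fun a => ⟨_, hZn a a.2⟩
  have hinj : Function.Injective f := by
    intro a b hab
    have e : (a : M)⁻¹ * (w * a * w⁻¹) = (b : M)⁻¹ * (w * b * w⁻¹) := congrArg Subtype.val hab
    have hcomm : (b : M) * (a : M)⁻¹ * w = w * ((b : M) * (a : M)⁻¹) := by
      calc (b : M) * (a : M)⁻¹ * w = (b : M) * ((a : M)⁻¹ * (w * a * w⁻¹)) * w * (a : M)⁻¹ := by group
        _ = (b : M) * ((b : M)⁻¹ * (w * b * w⁻¹)) * w * (a : M)⁻¹ := by rw [e]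
        _ = w * ((b : M) * (a : M)⁻¹) := by group
    have hmem : (b : M) * (a : M)⁻¹ ∈ Z ⊓ kb M K := by
      refine ⟨Z.mul_mem b.2 (Z.inv_mem a.2), ?_⟩
      rw [← c.semi.cent w hw hw1]
      exact ⟨hZK (Z.mul_mem b.2 (Z.inv_mem a.2)), Subgroup.mem_centralizer_singleton_iff.2 hcomm⟩
    rw [hZb, Subgroup.mem_bot, mul_inv_eq_one] at hmem
    exact Subtype.ext hmem.symm
  obtain ⟨a, ha⟩ := Finite.surjective_of_injective hinj ⟨(z : M), hz⟩
  have ha' : (a : M)⁻¹ * (w * a * w⁻¹) = (z : M) := congrArg Subtype.val ha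
  have hac : (⟨(a : M), hZK a.2⟩ : kd M) ∈ Subgroup.center (kd M) := Subgroup.mem_center_iff.2 fun y =>
    Subtype.ext (hZc a a.2 y y.2).symm
  obtain ⟨l, hl1, hl, -⟩ := IsIrrCharacter.exists_central_scalar (F.μ_res ω) hac
  have e1 := hl z
  have e2 := hl 1
  simp only [mul_one, Subgroup.coe_mul] at e1 e2
  rw [show (a : M) * (z : M) = w * a * w⁻¹ by rw [← ha']; group, F.μ_class ω] at e1
  rw [e2] at e1
  exact (mul_left_cancel₀ (fun h0 => by rw [h0, norm_zero] at hl1; exact zero_ne_one hl1) e1).symm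

end Cfsg.Agent.OddChar.P10
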