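import Cfsg.Agent.Lib.OddChar.PF10.TI
import Cfsg.Agent.Lib.OddChar.PF10.Galois
import Cfsg.Agent.Lib.OddChar.PF10.TypeVParts
import Cfsg.Agent.Lib.OddChar.PF10.Primes

/-!
# PF 10.10: there are no maximal subgroups of Type V
-/

set_option linter.style.haveILetI false
set_option linter.unusedSectionVars false

namespace Cfsg.Agent.OddChar.P10

open Cfsg.Agent.Char
open scoped Classical ComplexConjugate commutatorElement

attribute [local instance] dualFintype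

universe u

variable {G : Type u} [Group G] [Fintype G] {M K U : Subgroup G}

/-- `μ_j` is not induced from a character trivial on `W₂`. -/
theorem Fam.mus_not_above {c : Ctx M K U} [Fintype M] (F : Fam c) [(kb M K).Normal] {ω : Chr M K}
    (hJ : ¬ J0 ω) : F.mus ω ∉ Cfsg.inducedIrrAbove (kd M) (kb M K) := by
  intro h
  rw [F.mus_eq_ind ω] at h
  have h' := (IndSet.mem_above_iff (kd M) (kb M K) (F.μ_res ω) (F.μ_mem_ne_one hJ)).mp h
  obtain ⟨N, -, hN, hmul⟩ := IsCharacter.exists_kernel (IsIrrCharacter.isCharacter (F.μ_irr ω))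
  obtain ⟨a, ha, ha1⟩ := (Subgroup.bot_or_exists_ne_one (ka M K)).resolve_left c.semi.ne1
  refine hJ fun w hw => ?_
  set v : ↥(ka M K ⊔ kb M K) := ⟨a, Subgroup.mem_sup_left ha⟩
  have hv : (v : M) ∉ kb M K := fun hb => ha1 (by
    have : a ∈ ka M K ⊓ kb M K := ⟨ha, hb⟩
    rwa [c.semi.split.disj, Subgroup.mem_bot] at this)
  have hwv : ((w * v : ↥(ka M K ⊔ kb M K)) : M) ∉ kb M K := fun hb => hv (by
    simpa using (kb M K).mul_mem ((kb M K).inv_mem hw) hb)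
  have e : F.μ ω ((w * v : ↥(ka M K ⊔ kb M K)) : M) = F.μ ω (v : M) :=
    hmul _ ((hN _).mpr (h' ⟨(w : M), c.semi.le hw⟩ hw)) _
  rw [F.μ_shape ω _ hwv, F.μ_shape ω _ hv, map_mul, Units.val_mul] at e
  have hδ : (F.δ ω : ℂ) ≠ 0 := Int.cast_ne_zero.mpr fun e => by simpa [e] using F.δ_sq ω
  exact Units.ext ((mul_eq_right₀ (Units.ne_zero _)).mp (mul_left_cancel₀ hδ e))

/-- The members of `calS` not trivial on a central subgroup give the constancy of `u` on it. -/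
theorem Coh.const_of_orth {c : Ctx M K U} [Fintype M] {ζ : M → ℂ} (h : Coh c (linS M) ζ)
    (hTI : Cfsg.IsTISubset ((Cfsg.sigmaCore M : Subgroup G) : Set G)) (Z : Subgroup M) [hZn : Z.Normal]
    (hZ : Z ≤ ⁅kd M, kd M⁆) (hZ1 : Z ≠ ⊥)
    (hirr : ∀ χ ∈ calS M \ Cfsg.inducedIrrAbove (kd M) Z, Cfsg.IsIrrCharacter M χ)
    (hcoh : Cfsg.IsCoherent (calS M \ Cfsg.inducedIrrAbove (kd M) Z) ({1}ᶜ : Set M) (tau M)) :
    ∀ z ∈ Z, ∀ z' ∈ Z, z ≠ 1 → z' ≠ 1 → h.u (z : G) = h.u (z' : G) := by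
  obtain ⟨-, σ, hσ, hσα⟩ := hcoh
  haveI : Fintype (kd M) := Fintype.ofFinite _
  have hZK : Z ≤ kd M := hZ.trans (Subgroup.commutator_le_left _ _)
  have hsubZ : linS M ⊆ Cfsg.inducedIrrAbove (kd M) Z := IndSet.above_subset (kd M) Z _ hZ
  set X0 := calS M \ Cfsg.inducedIrrAbove (kd M) Z with hX0
  have hXc : ∀ φ ∈ X0, Cfsg.conjFun φ ∈ X0 := fun φ hφ =>
    ⟨IndSet.conj_mem_above (kd M) ⊥ hφ.1, fun h' => hφ.2 (by
      simpa [Coherence.conjFun_conjFun] using IndSet.conj_mem_above (kd M) Z h')⟩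
  obtain ⟨θ₀, hθ₀⟩ := Central.exists_nontrivial_on (kd M) Z hZ1 hZK
  obtain ⟨χ₀, hχ₀⟩ : X0.Nonempty := by
    have hθ1 : (θ₀ : kd M → ℂ) ≠ fun _ => 1 := fun e => hθ₀ fun a _ => by rw [e]
    refine ⟨_, ⟨θ₀, θ₀.2, hθ1, fun a ha => ?_, rfl⟩,
      fun h' => hθ₀ ((IndSet.mem_above_iff (kd M) Z θ₀.2 hθ1).mp h')⟩
    rw [Subgroup.mem_bot] at ha
    rw [show a = 1 from Subtype.ext ha]
  have horth := (Coherence.glue (S := X0 ∪ linS M) (X := X0) (Y := linS M) (α := tau M) (σ := σ) (τ := h.t)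
    (fun ξ hξ => hξ.elim (hirr ξ) fun h' => (c.linS_facts h').1) Set.subset_union_left
    Set.subset_union_right (Set.disjoint_left.mpr fun φ hx hy => hx.2 (hsubZ hy))
    ⟨χ₀, hχ₀, _, hXc χ₀ hχ₀, (c.conj_ne hχ₀.1).symm⟩
    ⟨ζ, h.mem, _, h.cmem, (c.conj_ne h.zetaS).symm⟩
    (by
      have hsub : Cfsg.zspanOn (X0 ∪ linS M) ({1}ᶜ : Set M) ⊆ Cfsg.zspanOn (calS M) ({1}ᶜ : Set M) :=
        fun a ha => Coherence.mem_zspanOn_one.mpr ⟨Submodule.span_mono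
          (Set.union_subset Set.sdiff_subset c.linS_sub) (Coherence.mem_zspanOn_one.mp ha).1,
          (Coherence.mem_zspanOn_one.mp ha).2⟩
      obtain ⟨i1, i2, i3, i4⟩ := c.calS_isometry
      exact ⟨fun a ha b hb => i1 a (hsub ha) b (hsub hb), fun a ha n => i2 a (hsub ha) n,
        fun a ha b hb => i3 a (hsub ha) b (hsub hb), fun a ha => i4 a (hsub ha)⟩)
    (fun θ _ => c.tau_one θ) hσ hσα h.iso h.agree).1
  set uM : M → ℂ := fun x => h.u x with huM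
  have huMg : Cfsg.IsGeneralizedCharacter M uM := IsGeneralizedCharacter.restrict h.u_gen M
  obtain ⟨co, hρe, hco⟩ := IsGeneralizedCharacter.exists_coeff huMg
  obtain ⟨d₀, hd₀pos, hd₀⟩ := c.calS_deg hχ₀.1
  set r : ℤ := co ⟨χ₀, hirr χ₀ hχ₀⟩ with hr
  have hσ' : Cfsg.IsLinearIsometryOn (↑(Submodule.span ℤ X0) : Set (M → ℂ)) σ := hσ
  have hprop : ∀ ξ : Cfsg.IrrCharacter M, (ξ : M → ℂ) ∈ X0 →
      (d₀ : ℂ) * (Nat.card K : ℂ) * (co ξ : ℂ) = (ξ : M → ℂ) 1 * (r : ℂ) := by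
    intro ξ hξ
    obtain ⟨dξ, -, hdξ⟩ := c.calS_deg hξ.1
    have hmem : (d₀ : ℤ) • (ξ : M → ℂ) - (dξ : ℤ) • χ₀ ∈ Cfsg.zspanOn X0 ({1}ᶜ : Set M) :=
      Coherence.mem_zspanOn_one.mpr ⟨Submodule.sub_mem _ (Submodule.smul_mem _ _ (Submodule.subset_span hξ))
        (Submodule.smul_mem _ _ (Submodule.subset_span hχ₀)), by
          rw [Pi.sub_apply, Pi.smul_apply, Pi.smul_apply, hdξ, hd₀, zsmul_eq_mul, zsmul_eq_mul]
          push_cast
          ring⟩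
    have h0 : Cfsg.classInner (tau M ((d₀ : ℤ) • (ξ : M → ℂ) - (dξ : ℤ) • χ₀)) h.u = 0 := by
      rw [← hσα _ hmem, Coherence.iso_sub hσ' (Submodule.smul_mem _ _ (Submodule.subset_span hξ))
          (Submodule.smul_mem _ _ (Submodule.subset_span hχ₀)),
        Coherence.iso_zsmul hσ' (Submodule.subset_span hξ),
        Coherence.iso_zsmul hσ' (Submodule.subset_span hχ₀), classInner_sub_left,
        Coherence.classInner_zsmul_left, Coherence.classInner_zsmul_left, Coh.u, horth _ hξ ζ h.mem,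
        horth _ hχ₀ ζ h.mem, mul_zero, mul_zero, sub_zero]
    have hcls : Cfsg.IsClassFunction M ((d₀ : ℤ) • (ξ : M → ℂ) - (dξ : ℤ) • χ₀) := fun x y => by
      simp [(calS_off hξ.1).2 x y, (calS_off hχ₀.1).2 x y]
    have hoff : ∀ x, x ∉ kd M → ((d₀ : ℤ) • (ξ : M → ℂ) - (dξ : ℤ) • χ₀) x = 0 := fun x hx => by
      simp [(calS_off hξ.1).1 x hx, (calS_off hχ₀.1).1 x hx]
    rw [c.tau_res hTI hcls hoff (Coherence.mem_zspanOn_one.mp hmem).2 h.u_class, ← huM,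
      classInner_sub_left, Coherence.classInner_zsmul_left, Coherence.classInner_zsmul_left,
      sub_eq_zero] at h0
    have h1 : Cfsg.classInner (ξ : M → ℂ) uM = (co ξ : ℂ) := by
      rw [← classInner_conj_symm, hco, map_intCast]
    have h2 : Cfsg.classInner χ₀ uM = (r : ℂ) := by
      rw [← classInner_conj_symm, show χ₀ = ((⟨χ₀, hirr χ₀ hχ₀⟩ : Cfsg.IrrCharacter M) : M → ℂ) from rfl,
        hco, map_intCast]
    rw [h1, h2] at h0
    push_cast at h0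
    rw [hdξ]
    linear_combination (Nat.card K : ℂ) * h0
  have hXeq := Central.irr_over_central (kd M) Z hZK hirr
  have hcore : ∀ z ∈ Z, z ≠ 1 →
      (d₀ : ℂ) * (Nat.card K : ℂ) * (uM 1 - uM z) = (r : ℂ) * (Nat.card M : ℂ) := by
    intro z hz hz1
    conv_lhs => rw [hρe]
    simp only [Finset.sum_apply, Pi.smul_apply, smul_eq_mul]
    rw [← Finset.sum_sub_distrib, Finset.mul_sum]
    have key : ∀ ξ : Cfsg.IrrCharacter M, (d₀ : ℂ) * (Nat.card K : ℂ) *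
        ((co ξ : ℂ) * (ξ : M → ℂ) 1 - (co ξ : ℂ) * (ξ : M → ℂ) z) =
        (r : ℂ) * ((ξ : M → ℂ) 1 * (ξ : M → ℂ) 1 - (ξ : M → ℂ) z * conj ((ξ : M → ℂ) 1)) := by
      intro ξ
      have hξc : conj ((ξ : M → ℂ) 1) = (ξ : M → ℂ) 1 := by rw [CharX.irr_deg ξ, map_natCast]
      rw [hξc]
      by_cases hξ : (ξ : M → ℂ) ∈ X0
      · linear_combination ((ξ : M → ℂ) 1 - (ξ : M → ℂ) z) * hprop ξ hξ
      · have : (ξ : M → ℂ) z = (ξ : M → ℂ) 1 := by
          by_contra hne'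
          refine hξ ?_
          rw [hX0, hXeq]
          exact ⟨ξ.2, z, hz, hne'⟩
        rw [this]
        ring
    rw [Finset.sum_congr rfl fun ξ _ => key ξ, ← Finset.mul_sum, Finset.sum_sub_distrib,
      column_orth_of_not_isConj (fun h => hz1 (isConj_one_left.mp h)), sub_zero, ← sum_sq_degree]
    simp only [pow_two]
  intro z hz z' hz' h1 h2
  have hne : (d₀ : ℂ) * (Nat.card K : ℂ) ≠ 0 :=
    mul_ne_zero (Nat.cast_ne_zero.mpr hd₀pos.ne') (Nat.cast_ne_zero.mpr Nat.card_pos.ne')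
  exact sub_right_injective (mul_left_cancel₀ hne ((hcore z hz h1).trans (hcore z' hz' h2).symm))

namespace Ctx

variable (c : Ctx M K U) [Fintype M]
include c

/-- The squares of the degrees outside `S(Z)`. -/
theorem sum_outside (Z : Subgroup M) [Z.Normal]
    (hirr : ∀ χ ∈ calS M \ Cfsg.inducedIrrAbove (kd M) Z, Cfsg.IsIrrCharacter M χ) :
    ∃ (T : Finset (M → ℂ)) (d : (M → ℂ) → ℕ), (∀ φ, φ ∈ T ↔ φ ∈ calS M \ Cfsg.inducedIrrAbove (kd M) Z) ∧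
      (∀ φ ∈ T, φ 1 = (d φ : ℂ) * (Nat.card K : ℂ)) ∧
        (∑ φ ∈ T, d φ ^ 2) * Nat.card K + Z.relIndex (kd M) = Nat.card (kd M) := by
  haveI : Fintype (kd M) := Fintype.ofFinite _
  set Θ := Finset.univ.filter (fun θ : Cfsg.IrrCharacter (kd M) =>
    ¬ ∀ a : kd M, (a : M) ∈ Z → (θ : kd M → ℂ) a = (θ : kd M → ℂ) 1) with hΘ
  set ind : Cfsg.IrrCharacter (kd M) → (M → ℂ) := fun θ => Cfsg.indFun (kd M) (θ : kd M → ℂ) with hind
  have hmem : ∀ θ, θ ∈ Θ → ind θ ∈ calS M \ Cfsg.inducedIrrAbove (kd M) Z := fun θ hθ => by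
    have hnot := (Finset.mem_filter.mp hθ).2
    have hθ1 : (θ : kd M → ℂ) ≠ fun _ => 1 := fun e => hnot fun a _ => by rw [e]
    refine ⟨⟨θ, θ.2, hθ1, fun a ha => ?_, rfl⟩, fun h' => hnot ((IndSet.mem_above_iff (kd M) Z θ.2 hθ1).mp h')⟩
    rw [Subgroup.mem_bot] at ha
    rw [show a = 1 from Subtype.ext ha]
  have hex : ∀ φ, φ ∈ calS M \ Cfsg.inducedIrrAbove (kd M) Z → ∃ θ ∈ Θ, ind θ = φ := by
    rintro φ ⟨⟨θ, hθ, hθ1, -, rfl⟩, hnot⟩
    exact ⟨⟨θ, hθ⟩, Finset.mem_filter.mpr ⟨Finset.mem_univ _,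
      fun h => hnot ((IndSet.mem_above_iff (kd M) Z hθ hθ1).mpr h)⟩, rfl⟩
  have hk : (Nat.card K : ℂ) ≠ 0 := Nat.cast_ne_zero.mpr Nat.card_pos.ne'
  have hdeg : ∀ θ, ind θ 1 = (Cfsg.charDegree (θ : kd M → ℂ) : ℂ) * (Nat.card K : ℂ) := fun θ => by
    show Cfsg.indFun (kd M) (θ : kd M → ℂ) 1 = _
    rw [indFun_one_apply, c.semi.index_eq, c.card_ka, CharX.irr_deg, mul_comm]
  choose! d hdpos hd using fun φ (hφ : φ ∈ calS M) => c.calS_deg hφ
  have hdθ : ∀ θ ∈ Θ, d (ind θ) = Cfsg.charDegree (θ : kd M → ℂ) := fun θ hθ => by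
    have := (hd _ (hmem θ hθ).1).symm.trans (hdeg θ)
    exact_mod_cast mul_right_cancel₀ hk this
  refine ⟨Θ.image ind, d, fun φ => ?_, fun φ hφ => ?_, ?_⟩
  · rw [Finset.mem_image]
    exact ⟨fun ⟨θ, hθ, e⟩ => e ▸ hmem θ hθ, hex φ⟩
  · obtain ⟨θ, hθ, rfl⟩ := Finset.mem_image.mp hφ
    exact hd _ (hmem θ hθ).1
  · rw [← Central.sum_not_over_sq (kd M) Z]
    congr 1
    trans ∑ θ ∈ Θ, Cfsg.charDegree (θ : kd M → ℂ) ^ 2
    swap
    · exact Finset.sum_congr (Finset.ext fun x => by simp [hΘ]) fun _ _ => rfl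
    rw [Finset.sum_congr rfl (g := fun θ => d (ind θ) ^ 2) fun θ hθ => by rw [hdθ θ hθ],
      Finset.sum_comp (fun φ => d φ ^ 2) ind, Finset.sum_mul]
    refine Finset.sum_congr rfl fun φ hφ => ?_
    obtain ⟨θ, hθ, rfl⟩ := Finset.mem_image.mp hφ
    have e : (Θ.filter fun a => ind a = ind θ) =
        Finset.univ.filter fun a : Cfsg.IrrCharacter (kd M) => ind a = ind θ := by
      refine Finset.ext fun a => ⟨fun ha => Finset.mem_filter.mpr ⟨Finset.mem_univ _, (Finset.mem_filter.mp ha).2⟩,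
        fun ha => Finset.mem_filter.mpr ⟨?_, (Finset.mem_filter.mp ha).2⟩⟩
      refine Finset.mem_filter.mpr ⟨Finset.mem_univ _, fun htriv => (Finset.mem_filter.mp hθ).2 ?_⟩
      obtain ⟨g, hg⟩ := (IndSet.ind_eq_iff (kd M) a.2 θ.2).mp (Finset.mem_filter.mp ha).2
      intro x hx
      rw [← hg]
      exact IndSet.trivial_conj (kd M) Z htriv g x hx
    have hf : (Finset.univ.filter fun a : Cfsg.IrrCharacter (kd M) => ind a = ind θ).card = Nat.card K := by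
      rw [← c.card_ka, ← c.semi.index_eq, ← Central.card_fiber_irr (kd M) (θ := θ) (hirr _ (hmem θ hθ))]
    rw [smul_eq_mul, e, hf, mul_comm]

/-- The degree of an exceptional character is small. -/
theorem mus_deg_small (F : Fam c) {p m : ℕ} (hp : p.Prime) (hcard : Nat.card (kd M) = p ^ m) {ω : Chr M K}
    (hJ : ¬ J0 ω) {n : ℤ} (hn : F.μ ω 1 = (F.δ ω : ℂ) + (n : ℂ) * (Nat.card K : ℂ)) :
    ∃ e : ℕ, n * (Nat.card K : ℤ) ≤ (e : ℤ) + 1 ∧ 2 * Nat.card K ≤ e + 1 ∧ 3 * e ^ 2 ≤ Nat.card (kd M) := by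
  obtain ⟨e, he1, he2, -⟩ := F.μ_deg_nat hJ
  haveI : Fintype (kd M) := Fintype.ofFinite _
  set θ : Cfsg.IrrCharacter (kd M) := ⟨_, F.μ_res ω⟩
  have hd : Cfsg.charDegree (θ : kd M → ℂ) = e := Nat.cast_injective (R := ℂ) (by
    rw [← CharX.irr_deg, ← he1]; rfl)
  have hlt : e ^ 2 < p ^ m := by
    have hne : θ ≠ principal (kd M) := fun h => F.μ_mem_ne_one hJ (congrArg Subtype.val h)
    rw [← hd, ← hcard, ← CharX.sum_deg_sq (G := kd M)]
    refine lt_of_lt_of_le ?_ (Finset.sum_le_sum_of_subset (Finset.subset_univ ({θ, principal (kd M)} : Finset _)))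
    rw [Finset.sum_pair hne]
    exact Nat.lt_add_of_pos_right (pow_pos (CharX.irr_deg_pos _) 2)
  obtain ⟨a, -, ha⟩ := (Nat.dvd_prime_pow hp).mp (hcard ▸ hd ▸ CharX.irr_deg_dvd_card θ)
  have hp3 : 3 ≤ p := by
    have hm : m ≠ 0 := fun h0 => by
      rw [h0, pow_zero, ha] at hlt
      have := pow_pos (pow_pos hp.pos a) 2
      omega
    have h2 := hp.two_le
    have : p ≠ 2 := fun h => by
      have h' : 2 ∣ Nat.card M :=
        (h ▸ hcard ▸ dvd_pow_self p hm : 2 ∣ Nat.card (kd M)).trans (Subgroup.card_subgroup_dvd_card _)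
      exact (Nat.not_even_iff_odd.mpr c.odd_card) (even_iff_two_dvd.mpr h')
    omega
  refine ⟨e, ?_, he2, ?_⟩
  · have hn' : (e : ℤ) = F.δ ω + n * Nat.card K := by
      rw [he1] at hn; exact_mod_cast hn
    rcases Int.eq_one_or_neg_one_of_mul_eq_one (F.δ_sq ω) with h | h <;> omega
  · rw [hcard]
    rw [ha, ← pow_mul] at hlt
    have h2 := (Nat.pow_lt_pow_iff_right hp.one_lt).mp hlt
    calc 3 * e ^ 2 ≤ p * e ^ 2 := Nat.mul_le_mul_right _ hp3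
      _ = p ^ (a * 2 + 1) := by rw [ha, ← pow_mul, pow_succ']
      _ ≤ p ^ m := Nat.pow_le_pow_right hp.pos (by omega)

/-- The trivially intersecting case, with the coherence reaching the irreducible part outside `S(Z)`. -/
theorem false_of_outside (F : Fam c) {p m : ℕ} (hp : p.Prime) (hcard : Nat.card (kd M) = p ^ m) {ζ : M → ℂ}
    (Z : Subgroup M) [Z.Normal] (hZ : Z ≤ ⁅kd M, kd M⁆) (hZ1 : Z ≠ ⊥)
    (hirr : ∀ χ ∈ calS M \ Cfsg.inducedIrrAbove (kd M) Z, Cfsg.IsIrrCharacter M χ)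
    (hζ : ζ ∈ Cfsg.inducedIrrAbove (kd M) Z)
    (h : Coh c ({ζ, Cfsg.conjFun ζ} ∪ (calS M \ Cfsg.inducedIrrAbove (kd M) Z)) ζ) : False := by
  obtain ⟨T, d, hT, hd, hsum⟩ := c.sum_outside Z hirr
  have hζT : ζ ∉ T := fun h' => ((hT ζ).mp h').2 hζ
  set d' : (M → ℂ) → ℕ := fun φ => if φ = ζ then 1 else d φ with hd'
  have hsub : ∀ φ ∈ insert ζ T, φ ∈ {ζ, Cfsg.conjFun ζ} ∪ (calS M \ Cfsg.inducedIrrAbove (kd M) Z) := fun φ hφ => by
    rcases Finset.mem_insert.mp hφ with rfl | hφ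
    · exact h.mem
    · exact Or.inr ((hT φ).mp hφ)
  have hirrT : ∀ φ ∈ insert ζ T, Cfsg.IsIrrCharacter M φ := fun φ hφ => by
    rcases Finset.mem_insert.mp hφ with rfl | hφ
    · exact h.irr
    · exact hirr φ ((hT φ).mp hφ)
  have hconjT : ∀ φ ∈ insert ζ T,
      Cfsg.conjFun φ ∈ {ζ, Cfsg.conjFun ζ} ∪ (calS M \ Cfsg.inducedIrrAbove (kd M) Z) := fun φ hφ => by
    rcases Finset.mem_insert.mp hφ with rfl | hφ
    · exact h.cmem
    · obtain ⟨h1, h2⟩ := (hT φ).mp hφ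
      exact Or.inr ⟨IndSet.conj_mem_above (kd M) ⊥ h1, fun h' => h2 (by
        simpa [Coherence.conjFun_conjFun] using IndSet.conj_mem_above (kd M) Z h')⟩
  have hdeg' : ∀ φ ∈ insert ζ T, φ 1 = (d' φ : ℂ) * (Nat.card K : ℂ) := fun φ hφ => by
    rcases Finset.mem_insert.mp hφ with rfl | hφ
    · simp [hd', h.deg]
    · simp only [hd', if_neg (show φ ≠ ζ from fun e => hζT (e ▸ hφ))]
      exact hd φ hφ
  have hZK : Z ≤ kd M := hZ.trans (Subgroup.commutator_le_left _ _)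
  have hZ3 : 3 ≤ Nat.card Z := by
    have h1 : Nat.card Z ≠ 1 := fun h1 => hZ1 (Subgroup.card_eq_one.mp h1)
    have h2 : Odd (Nat.card Z) := c.odd_card.of_dvd_nat (Subgroup.card_subgroup_dvd_card _)
    obtain ⟨l, hl⟩ := h2
    omega
  have hrel : 3 * Z.relIndex (kd M) ≤ Nat.card (kd M) := by
    have := Subgroup.relIndex_mul_relIndex ⊥ Z (kd M) bot_le hZK
    rw [Subgroup.relIndex_bot_left, Subgroup.relIndex_bot_left] at this
    rw [← this]
    exact Nat.mul_le_mul_right _ hZ3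
  have hbig : ∀ ω : Chr M K, ¬ J0 ω → ∀ n : ℤ, F.μ ω 1 = (F.δ ω : ℂ) + (n : ℂ) * (Nat.card K : ℂ) →
      (2 * n + 2 : ℝ) < ∑ φ ∈ insert ζ T, (d' φ : ℝ) ^ 2 := by
    intro ω hJ n hn
    obtain ⟨e, he1, he2, he3⟩ := c.mus_deg_small F hp hcard hJ hn
    have hSig : ∑ φ ∈ insert ζ T, (d' φ : ℝ) ^ 2 = 1 + ((∑ φ ∈ T, d φ ^ 2 : ℕ) : ℝ) := by
      rw [Finset.sum_insert hζT]
      push_cast
      congr 1
      · simp [hd']
      · exact Finset.sum_congr rfl fun φ hφ => by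
          simp only [hd', if_neg (show φ ≠ ζ from fun e => hζT (e ▸ hφ))]
    rw [hSig]
    set S := ∑ φ ∈ T, d φ ^ 2
    have hk := c.three_le.1
    suffices hS : 2 * n + 1 < (S : ℤ) by
      have : ((2 * n + 1 : ℤ) : ℝ) < ((S : ℤ) : ℝ) := by exact_mod_cast hS
      push_cast at this
      linarith
    have h1 : 2 * e ^ 2 ≤ S * Nat.card K := by omega
    by_contra hc
    push Not at hc
    have h2 : (2 * (e : ℤ) ^ 2) ≤ (S : ℤ) * (Nat.card K : ℤ) := by exact_mod_cast h1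
    have h3 : (S : ℤ) * (Nat.card K : ℤ) ≤ (2 * n + 1) * (Nat.card K : ℤ) :=
      mul_le_mul_of_nonneg_right hc (Int.natCast_nonneg _)
    have he5 : (5 : ℤ) ≤ (e : ℤ) := by omega
    nlinarith [mul_le_mul_of_nonneg_right he5 (Int.natCast_nonneg e)]
  have hu : ∀ ω : Chr M K, I0 ω → ¬ J0 ω → ∀ n : ℤ, 2 ≤ n →
      F.μ ω 1 = (F.δ ω : ℂ) + (n : ℂ) * (Nat.card K : ℂ) → ∀ f,
        Cfsg.classInner (tau M (F.alpha ζ ω n f)) h.u = -(n : ℂ) := fun ω hI hJ n hn hdn f =>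
    h.alpha_coeff_irr F (insert ζ T) hsub hirrT (Finset.mem_insert_self _ _) d' hdeg' hI hJ hn hdn
      (hbig ω hJ n hdn) f
  obtain ⟨ω, hI, hJ⟩ := c.exists_not_J0
  obtain ⟨e, he, -, n, hn, hen⟩ := F.μ_deg_nat hJ
  have hdn : F.μ ω 1 = (F.δ ω : ℂ) + (n : ℂ) * (Nat.card K : ℂ) := by rw [he]; exact_mod_cast hen
  refine h.false_of_shapes F hu (h.psi_coeff_irr F (insert ζ T) hsub hconjT hirrT
    (Finset.mem_insert_self _ _) d' hdeg' ?_ hI hJ hn hdn (hu ω hI hJ n hn hdn))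
  have := hbig ω hJ n hdn
  have h2 : (2 : ℝ) ≤ (n : ℝ) := by exact_mod_cast hn
  linarith

/-- PF 10.10: Type V does not occur. -/
theorem false_of_typeV (hV : Cfsg.IsOfTypeV M) : False := by
  obtain ⟨F⟩ := exists_fam c
  obtain ⟨p, m, hp, hcard, hw, hnd, hkb, hlt, hnil, hfrob, hcases⟩ := c.typeV_facts hV
  rcases hcases with hTI | ⟨h3, hk⟩
  swap
  · exact c.false_of_cube F hp h3 hk hnd hkb hlt
  haveI := Fact.mk hp
  obtain ⟨ζ, h, -⟩ := c.exists_coh_lin hlt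
  have hDne : ⁅kd M, kd M⁆ ≠ ⊥ := fun e => by
    have h1 : Nat.card (kb M K) = 1 := Subgroup.card_eq_one.mpr (le_bot_iff.mp (e ▸ hkb))
    rw [c.card_kb, hw] at h1
    exact hp.ne_one h1
  obtain ⟨Z, hZn, hZ1, hZD, hZc⟩ := CohTI.exists_central (kd M) hnil ⁅kd M, kd M⁆ hDne
    (Subgroup.commutator_le_left _ _)
  haveI := hZn
  by_cases hZb : Z ⊓ kb M K = ⊥
  · have hZK : Z ≤ kd M := hZD.trans (Subgroup.commutator_le_left _ _)
    have hirr : ∀ χ ∈ calS M \ Cfsg.inducedIrrAbove (kd M) Z, Cfsg.IsIrrCharacter M χ := fun χ hχ =>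
      c.irr_of_not_above F Z hZK hZc hZb hχ.1 hχ.2
    haveI := hnil
    have hcoh := Central.coherent_central (kd M) inferInstance F.system c.odd_card hnil hlt hfrob Z hZ1 hZK
      hZc hirr
    have hconst := h.const_of_orth hTI Z hZD hZ1 hirr hcoh
    obtain ⟨h'⟩ := h.exists_coh_nontriv F hp hcard hTI Z hZD hZ1 hZc hconst
    exact c.false_of_outside F hp hcard Z hZD hZ1 hirr (IndSet.above_subset (kd M) Z _ hZD h.mem) h'
  have hkbp : Nat.card (kb M K) = p := c.card_kb.trans hw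
  haveI : Fact (Nat.card (kb M K)).Prime := ⟨hkbp.symm ▸ hp⟩
  have hkbZ : kb M K ≤ Z := by
    rcases ((Z ⊓ kb M K).subgroupOf (kb M K)).eq_bot_or_eq_top_of_prime_card with h0 | h0
    · exact absurd (disjoint_iff.mp (Subgroup.subgroupOf_eq_bot.mp h0))
        (by simpa [inf_assoc] using hZb)
    · exact (Subgroup.subgroupOf_eq_top.mp h0).trans inf_le_left
  have hkc : ∀ z ∈ kb M K, ∀ y ∈ kd M, z * y = y * z := fun z hz => hZc z (hkbZ hz)
  haveI : (kb M K).Normal := ⟨fun z hz g => by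
    obtain ⟨a, ha, b, hb, rfl⟩ : ∃ a ∈ kd M, ∃ b ∈ ka M K, a * b = g :=
      Subgroup.mem_sup_of_normal_left.mp (c.semi.sup.symm ▸ Subgroup.mem_top g)
    have h1 : b * z = z * b := Subtype.ext (Subgroup.mem_centralizer_iff.mp
      (Subgroup.mem_subgroupOf.mp hz).2 (b : G) (Subgroup.mem_subgroupOf.mp hb))
    have h2 : a * b * z * (a * b)⁻¹ = z := by
      rw [mul_assoc a b z, h1, ← mul_assoc a z b, ← hkc z hz a ha]
      group
    rw [h2]
    exact hz⟩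
  have hconst : ∀ z ∈ kb M K, ∀ z' ∈ kb M K, z ≠ 1 → z' ≠ 1 → h.u (z : G) = h.u (z' : G) := by
    intro z hz z' hz' h1 h2
    have hord : orderOf z = p :=
      ((Nat.dvd_prime hp).mp (hkbp ▸ Subgroup.orderOf_dvd_natCard _ hz)).resolve_left
        fun e => h1 (orderOf_eq_one_iff.mp e)
    have hzp : Subgroup.zpowers z = kb M K := Subgroup.eq_of_le_of_card_ge (Subgroup.zpowers_le.mpr hz)
      (le_of_eq (by rw [Nat.card_zpowers, hord, hkbp]))
    obtain ⟨l, hl⟩ := mem_powers_iff_mem_zpowers.mpr (show z' ∈ Subgroup.zpowers z from hzp.symm ▸ hz')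
    have hl' : z ^ l = z' := hl
    rw [← hl', Subgroup.coe_pow]
    refine (h.u_pow (hkb hz) hord fun hdl => h2 ?_).symm
    rw [← hl', orderOf_dvd_iff_pow_eq_one.mp (hord ▸ hdl)]
  have hkb1 : kb M K ≠ ⊥ := c.semi.ne2
  obtain ⟨h'⟩ := h.exists_coh_nontriv F hp hcard hTI (kb M K) hkb hkb1 hkc hconst
  have hmus : ∀ ω : Chr M K, ¬ J0 ω →
      F.mus ω ∈ {ζ, Cfsg.conjFun ζ} ∪ (calS M \ Cfsg.inducedIrrAbove (kd M) (kb M K)) := fun ω hJ =>
    Or.inr ⟨F.mus_mem hJ, F.mus_not_above hJ⟩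
  have hu : ∀ ω : Chr M K, I0 ω → ¬ J0 ω → ∀ n : ℤ, 2 ≤ n →
      F.μ ω 1 = (F.δ ω : ℂ) + (n : ℂ) * (Nat.card K : ℂ) → ∀ f,
        Cfsg.classInner (tau M (F.alpha ζ ω n f)) h'.u = -(n : ℂ) := fun ω hI hJ n hn hdn f =>
    h'.alpha_coeff_pair F hI hJ (hmus _ (not_J0_inv hJ)) hn hdn f
  obtain ⟨ω, hI, hJ⟩ := c.exists_not_J0
  obtain ⟨e, he, -, n, hn, hen⟩ := F.μ_deg_nat hJ
  have hdn : F.μ ω 1 = (F.δ ω : ℂ) + (n : ℂ) * (Nat.card K : ℂ) := by rw [he]; exact_mod_cast hen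
  exact h'.false_of_shapes F hu (h'.psi_coeff_mus F hI hJ (hmus _ hJ) hdn (hu ω hI hJ n hn hdn))

end Ctx

/-- PF 10.10. -/
theorem noTypeV (hG : Cfsg.IsMinSimpleOddOrder G) : OddChar.NoTypeV G := by
  intro M hM hV
  haveI : Fintype M := Fintype.ofFinite _
  obtain ⟨K, U, c⟩ := exists_ctx hG hM (Or.inr (Or.inr hV))
  exact c.false_of_typeV hV

/-- PF 10.11, without hypotheses. -/
theorem pairPrimes' (hG : Cfsg.IsMinSimpleOddOrder G) : OddChar.PairPrimes G :=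
  pairPrimes hG (noTypeV hG)

end Cfsg.Agent.OddChar.P10
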