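import Cfsg.Agent.Lib.OddOrder.TypesP
import Cfsg.Agent.Lib.Solvable.WielandtOrder
import Cfsg.Agent.S1545
import Cfsg.Agent.S1363
import Cfsg.Agent.S1372
import Cfsg.Agent.S1354
import Cfsg.Agent.S1360

/-!
# Many elements of `U` act without fixed points on `M_σ`

For a maximal subgroup with a standard factorisation `M = K U M_σ`, `K ≠ 1 ≠ U`, a positive proportion of the
elements of `U` centralises no non-identity element of `M_σ`.
-/

set_option autoImplicit false
set_option linter.unusedSectionVars false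
set_option linter.style.haveILetI false

namespace Cfsg.Agent.OddChar.P10

section Comm

variable {A : Type*} [CommGroup A] [Finite A] {Bad : A → Prop} {p : ℕ}

/-- The solutions of `x ^ n = 1`. -/
abbrev tor (A : Type*) [CommGroup A] (n : ℕ) : Subgroup A := (powMonoidHom n : A →* A).ker

theorem mem_tor {n : ℕ} {x : A} : x ∈ tor A n ↔ x ^ n = 1 := Iff.rfl

/-- A fibre count: a preimage of a finset under an endomorphism. -/
theorem ncard_preimage_le (f : A →* A) (T : Set A) :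
    (f ⁻¹' T).ncard ≤ Nat.card f.ker * T.ncard := by
  classical
  haveI : Fintype A := Fintype.ofFinite A
  rw [Set.ncard_eq_toFinset_card' (f ⁻¹' T), Set.ncard_eq_toFinset_card' T, mul_comm]
  refine (Finset.card_le_mul_card_image (f := f) _ (Nat.card f.ker) (fun b _ => ?_)).trans ?_
  · by_cases h : ∃ a, f a = b
    · obtain ⟨a, rfl⟩ := h
      rw [Nat.card_eq_fintype_card, ← Finset.card_univ]
      refine Finset.card_le_card_of_injOn (fun x => if hx : f x = f a then
        ⟨a⁻¹ * x, by rw [MonoidHom.mem_ker, map_mul, map_inv, hx, inv_mul_cancel]⟩ else 1)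
        (fun _ _ => Finset.mem_univ _) ?_
      intro x hx y hy e
      rw [Finset.mem_coe, Finset.mem_filter] at hx hy
      simp only [hx.2, hy.2, dif_pos] at e
      exact mul_left_cancel (congrArg Subtype.val e)
    · rw [Finset.filter_eq_empty_iff.2 fun x _ e => h ⟨x, e⟩]
      simp
  · rw [mul_comm]
    refine Nat.mul_le_mul_right _ (Finset.card_le_card fun b hb => ?_)
    obtain ⟨a, ha, rfl⟩ := Finset.mem_image.1 hb
    simpa using ha

/-- The layers of the bad `p`-elements. -/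
theorem ncard_layer (hp : p.Prime) {n : ℕ} (hcard : ∀ m ≤ n, Nat.card (tor A (p ^ m)) = p ^ (2 * m))
    (hpow : ∀ a k, Bad a → Bad (a ^ k)) :
    ∀ m ≤ n, (p ^ 2 - 1) * {x : A | x ≠ 1 ∧ Bad x ∧ x ^ p ^ m = 1}.ncard ≤
      {e : A | e ≠ 1 ∧ Bad e ∧ e ^ p = 1}.ncard * (p ^ (2 * m) - 1) := by
  intro m
  induction m with
  | zero =>
    intro _
    rw [(Set.ncard_eq_zero (Set.toFinite _)).2 (Set.eq_empty_of_forall_notMem fun x hx => hx.1 (by simpa using hx.2.2))]
    simp
  | succ m ih =>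
    intro hm
    set b₀ := {e : A | e ≠ 1 ∧ Bad e ∧ e ^ p = 1} with hb₀
    set C := {x : A | x ≠ 1 ∧ Bad x ∧ x ^ p ^ m = 1} with hC
    have hsub : {x : A | x ≠ 1 ∧ Bad x ∧ x ^ p ^ (m + 1) = 1} ⊆ C ∪ (powMonoidHom (p ^ m) : A →* A) ⁻¹' b₀ := by
      rintro x ⟨hx1, hxb, hx⟩
      by_cases h : x ^ p ^ m = 1
      · exact Or.inl ⟨hx1, hxb, h⟩
      · refine Or.inr ⟨h, hpow x _ hxb, ?_⟩
        show (x ^ p ^ m) ^ p = 1
        rw [← pow_mul, ← pow_succ]
        exact hx
    have h1 := (Set.ncard_le_ncard hsub (Set.toFinite _)).trans (Set.ncard_union_le _ _)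
    have h2 := ncard_preimage_le (powMonoidHom (p ^ m) : A →* A) b₀
    rw [show Nat.card (powMonoidHom (p ^ m) : A →* A).ker = p ^ (2 * m) from hcard m (by omega)] at h2
    have h3 := ih (by omega)
    have hpos : 1 ≤ p ^ (2 * m) := Nat.one_le_pow _ _ hp.pos
    have he : p ^ (2 * (m + 1)) - 1 = (p ^ (2 * m) - 1) + (p ^ 2 - 1) * p ^ (2 * m) := by
      rw [show 2 * (m + 1) = 2 * m + 2 from by ring, pow_add, Nat.sub_one_mul, mul_comm (p ^ (2 * m))]
      have : p ^ (2 * m) ≤ p ^ 2 * p ^ (2 * m) := Nat.le_mul_of_pos_left _ (pow_pos hp.pos 2)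
      omega
    rw [he]
    calc (p ^ 2 - 1) * {x : A | x ≠ 1 ∧ Bad x ∧ x ^ p ^ (m + 1) = 1}.ncard
        ≤ (p ^ 2 - 1) * (C.ncard + p ^ (2 * m) * b₀.ncard) :=
          Nat.mul_le_mul_left _ (h1.trans (Nat.add_le_add_left h2 _))
      _ = (p ^ 2 - 1) * C.ncard + b₀.ncard * ((p ^ 2 - 1) * p ^ (2 * m)) := by ring
      _ ≤ b₀.ncard * (p ^ (2 * m) - 1) + b₀.ncard * ((p ^ 2 - 1) * p ^ (2 * m)) := Nat.add_le_add_right h3 _
      _ = _ := by ring

variable (hpow : ∀ a k, Bad a → Bad (a ^ k))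
  (hgood : ∃ g : A, orderOf g = Monoid.exponent A ∧ ∀ k : ℕ, g ^ k ≠ 1 → ¬ Bad (g ^ k))
include hpow hgood

/-- A bad `p`-element of order `p ^ n` spans, with a power of the good element, all of `tor A (p ^ n)`. -/
theorem tor_card (hp : p.Prime) (hcard : Nat.card (tor A p) ≤ p ^ 2) {x : A} (hx : Bad x) {n : ℕ}
    (hxo : orderOf x = p ^ n) : ∀ m ≤ n, Nat.card (tor A (p ^ m)) = p ^ (2 * m) := by
  obtain ⟨g, hg, hgg⟩ := hgood
  intro m
  induction m with
  | zero =>
    intro _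
    rw [show tor A (p ^ 0) = ⊥ from (Subgroup.eq_bot_iff_forall _).2 fun y hy => by simpa [mem_tor] using hy]
    simp
  | succ m ih =>
    intro hm
    let f : ↥(tor A (p ^ (m + 1))) →* A := (powMonoidHom (p ^ m) : A →* A).comp (tor A (p ^ (m + 1))).subtype
    have hker : Nat.card f.ker = p ^ (2 * m) := by
      rw [← ih (by omega)]
      refine Nat.card_congr
        { toFun := fun y => ⟨((y : ↥(tor A (p ^ (m + 1)))) : A), y.2⟩
          invFun := fun y => ⟨⟨y, mem_tor.2 (by rw [pow_succ, pow_mul, mem_tor.1 y.2, one_pow])⟩, y.2⟩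
          left_inv := fun _ => rfl
          right_inv := fun _ => rfl }
    have hrange : f.range ≤ tor A p := by
      rintro _ ⟨y, rfl⟩
      show (((y : A) ^ p ^ m)) ^ p = 1
      rw [← pow_mul, ← pow_succ]
      exact y.2
    have hexp : p ^ n ∣ orderOf g := by rw [hg, ← hxo]; exact Monoid.order_dvd_exponent x
    obtain ⟨c, hc⟩ := hexp
    have hcpos : 0 < c := Nat.pos_of_ne_zero fun e => by
      rw [e, mul_zero] at hc
      exact (orderOf_pos g).ne' hc
    -- the good line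
    have hgo : orderOf (g ^ c) = p ^ n := by
      rw [orderOf_pow' _ hcpos.ne', hc, Nat.gcd_mul_left_left, Nat.mul_div_cancel _ hcpos]
    have key : ∀ y : A, orderOf y = p ^ n → ∃ z ∈ f.range, orderOf z = p ∧ z ∈ Subgroup.zpowers y ∧
        ∃ k : ℕ, z = y ^ k := by
      intro y hy
      have hy' : (y ^ p ^ (n - (m + 1))) ^ p ^ (m + 1) = 1 := by
        rw [← pow_mul, ← pow_add, Nat.sub_add_cancel hm, ← hy, pow_orderOf_eq_one]
      refine ⟨_, ⟨⟨_, hy'⟩, rfl⟩, ?_, Subgroup.pow_mem _ (Subgroup.pow_mem _ (Subgroup.mem_zpowers y) _) _,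
        p ^ (n - (m + 1)) * p ^ m, (pow_mul _ _ _).symm⟩
      show orderOf ((y ^ p ^ (n - (m + 1))) ^ p ^ m) = p
      rw [← pow_mul, ← pow_add, orderOf_pow' _ (pow_ne_zero _ hp.ne_zero), hy,
        show n - (m + 1) + m = n - 1 by omega, Nat.gcd_eq_right (pow_dvd_pow p (by omega : n - 1 ≤ n)),
        Nat.pow_div (by omega) hp.pos, show n - (n - 1) = 1 by omega, pow_one]
    obtain ⟨t, htr, hto, -, kt, rfl⟩ := key x hxo
    obtain ⟨s, hsr, hso, -, ks, hks⟩ := key (g ^ c) hgo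
    have hs : ¬ Bad s := by
      rw [hks, ← pow_mul] at hso ⊢
      exact hgg _ fun e => hp.ne_one (by rw [← hso, e, orderOf_one])
    have hne : ¬ Subgroup.zpowers (x ^ kt) = Subgroup.zpowers s := fun e => by
      have hmem : s ∈ Subgroup.zpowers (x ^ kt) := e ▸ Subgroup.mem_zpowers s
      obtain ⟨k, rfl⟩ : ∃ k : ℕ, (x ^ kt) ^ k = s :=
        Submonoid.mem_powers_iff _ _ |>.1 (mem_powers_iff_mem_zpowers.2 hmem)
      exact hs (hpow _ _ (hpow _ _ hx))
    have hr2 : Nat.card f.range = p ^ 2 := by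
      have hle : Nat.card f.range ≤ p ^ 2 := (Subgroup.card_le_of_le hrange).trans hcard
      have hp_dvd : p ∣ Nat.card f.range := by
        exact Eq.mp (congrArg (· ∣ Nat.card f.range) hto) (Subgroup.orderOf_dvd_natCard _ htr)
      have hgt : p < Nat.card f.range := by
        refine lt_of_le_of_ne (Nat.le_of_dvd Nat.card_pos hp_dvd) fun e => hne ?_
        rw [Subgroup.eq_of_le_of_card_ge (Subgroup.zpowers_le.2 htr) (by rw [Nat.card_zpowers, hto, ← e]),
          Subgroup.eq_of_le_of_card_ge (Subgroup.zpowers_le.2 hsr) (by rw [Nat.card_zpowers, hso, ← e])]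
      obtain ⟨a, ha⟩ : ∃ a, Nat.card f.range = p ^ a := by
        haveI := Fact.mk hp
        have hT : IsPGroup p (tor A p) := fun y => ⟨1, Subtype.ext (by simpa using mem_tor.1 y.2)⟩
        exact IsPGroup.iff_card.1 (hT.to_le hrange)
      rw [ha] at hgt hle ⊢
      have h1 : 1 < a := by
        refine (Nat.pow_lt_pow_iff_right hp.one_lt).1 ?_
        simpa using hgt
      have h2 : a ≤ 2 := (Nat.pow_le_pow_iff_right hp.one_lt).1 hle
      rw [show a = 2 by omega]
    have := Subgroup.card_mul_index f.ker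
    rw [Subgroup.index_ker, hker, hr2, ← pow_add] at this
    rw [← this, show 2 * (m + 1) = 2 * m + 2 by ring]

/-- Rank one: at least `1 - 1/p` of all elements are good. -/
theorem count_one (hp : p.Prime) (hd : p ∣ Nat.card A) (hcard : Nat.card (tor A p) ≤ p) :
    p * {a : A | Bad a}.ncard ≤ Nat.card A := by
  haveI := Fact.mk hp
  obtain ⟨M, N, hcop, hA⟩ : ∃ M N : ℕ, M.Coprime p ∧ Nat.card A = M * p ^ (N + 1) := by
    refine ⟨Nat.card A / p ^ (Nat.card A).factorization p, (Nat.card A).factorization p - 1,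
      (Nat.coprime_ordCompl hp Nat.card_pos.ne').symm, ?_⟩
    rw [Nat.sub_add_cancel (hp.factorization_pos_of_dvd Nat.card_pos.ne' hd), mul_comm,
      Nat.ordProj_mul_ordCompl_eq_self]
  let f : A →* A := powMonoidHom M
  have hnone : ∀ x : A, Bad x → ∀ n, orderOf x = p ^ n → n = 0 := by
    intro x hx n hn
    by_contra h
    have h2 := tor_card hpow hgood hp (hcard.trans (Nat.le_self_pow (by norm_num) p)) hx hn 1
      (by omega)
    rw [pow_one] at h2
    have h3 : p < p ^ (2 * 1) := by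
      simpa using Nat.pow_lt_pow_right hp.one_lt (show 1 < 2 by norm_num)
    omega
  have hsub : {a : A | Bad a} ⊆ (f.ker : Set A) := by
    intro a ha
    obtain ⟨n, -, hn⟩ := (Nat.dvd_prime_pow hp).1 (orderOf_dvd_of_pow_eq_one (x := a ^ M) (n := p ^ (N + 1))
      (by rw [← pow_mul, ← hA, pow_card_eq_one']))
    rw [hnone _ (hpow a M ha) n hn, pow_zero, orderOf_eq_one_iff] at hn
    exact hn
  have h1 : {a : A | Bad a}.ncard ≤ Nat.card f.ker := by
    rw [← Nat.card_coe_set_eq]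
    exact Nat.card_mono (Set.toFinite _) hsub
  obtain ⟨e, he⟩ := exists_prime_orderOf_dvd_card' p hd
  have h2 : p ≤ Nat.card f.range := by
    refine Nat.le_of_dvd Nat.card_pos ?_
    obtain ⟨k, hk⟩ := exists_pow_eq_self_of_coprime (x := e) (n := M) (he ▸ hcop)
    conv_lhs => rw [← he]
    refine Subgroup.orderOf_dvd_natCard _ ⟨e ^ k, ?_⟩
    show (e ^ k) ^ M = e
    rw [← pow_mul, mul_comm, pow_mul, hk]
  calc p * {a : A | Bad a}.ncard ≤ Nat.card f.range * Nat.card f.ker := Nat.mul_le_mul h2 h1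
    _ = Nat.card A := by
      rw [← Subgroup.index_ker, mul_comm]; exact Subgroup.card_mul_index _

/-- Rank two: the proportion of good elements is at least the one among the elements of order `p`. -/
theorem count_two (hp : p.Prime) (hcard : Nat.card (tor A p) = p ^ 2) {r : ℕ}
    (hr : {e : A | e ≠ 1 ∧ Bad e ∧ e ^ p = 1}.ncard + r ≤ p ^ 2 - 1) :
    p ^ 2 * {a : A | Bad a}.ncard + r * Nat.card A ≤ p ^ 2 * Nat.card A := by
  haveI := Fact.mk hp
  classical
  set N := (Nat.card A).factorization p with hN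
  set M := Nat.card A / p ^ N with hM
  have hcop : M.Coprime p := (Nat.coprime_ordCompl hp Nat.card_pos.ne').symm
  have hA : Nat.card A = M * p ^ N := by rw [mul_comm, hM, hN, Nat.ordProj_mul_ordCompl_eq_self]
  let f : A →* A := powMonoidHom M
  set b₀ := {e : A | e ≠ 1 ∧ Bad e ∧ e ^ p = 1}.ncard
  set B := {x : A | x ≠ 1 ∧ Bad x ∧ x ∈ f.range} with hB
  have hord : ∀ x ∈ f.range, ∃ n, orderOf x = p ^ n := by
    rintro _ ⟨a, rfl⟩
    obtain ⟨n, -, hn⟩ := (Nat.dvd_prime_pow hp).1 (orderOf_dvd_of_pow_eq_one (x := a ^ M) (n := p ^ N)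
      (by rw [← pow_mul, ← hA, pow_card_eq_one']))
    exact ⟨n, hn⟩
  have hle : ∀ k, tor A (p ^ k) ≤ f.range := by
    intro k y hy
    obtain ⟨j, hj⟩ := exists_pow_eq_self_of_coprime (x := y) (n := M)
      ((hcop.pow_right k).coprime_dvd_right (orderOf_dvd_of_pow_eq_one hy))
    exact ⟨y ^ j, by show (y ^ j) ^ M = y; rw [← pow_mul, mul_comm, pow_mul, hj]⟩
  set X := Nat.card f.range with hX
  have hX2 : p ^ 2 ≤ X := by
    rw [← hcard]
    have := Subgroup.card_le_of_le (hle 1)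
    rwa [pow_one] at this
  have hBle : (p ^ 2 - 1) * B.ncard ≤ b₀ * (X - 1) := by
    rcases B.eq_empty_or_nonempty with hBe | hBne
    · rw [hBe]; simp
    obtain ⟨x, hxB, hmax⟩ := Set.exists_max_image B orderOf (Set.toFinite _) hBne
    obtain ⟨n, hn⟩ := hord x hxB.2.2
    have hlay := tor_card hpow hgood hp hcard.le hxB.2.1 hn
    have hsub : B ⊆ {z : A | z ≠ 1 ∧ Bad z ∧ z ^ p ^ n = 1} := by
      rintro y ⟨hy1, hyb, hyr⟩
      obtain ⟨m, hm⟩ := hord y hyr
      refine ⟨hy1, hyb, orderOf_dvd_iff_pow_eq_one.1 ?_⟩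
      rw [hm]
      refine pow_dvd_pow p ((Nat.pow_le_pow_iff_right hp.one_lt).1 ?_)
      rw [← hm, ← hn]
      exact hmax y ⟨hy1, hyb, hyr⟩
    refine (Nat.mul_le_mul_left _ (Set.ncard_le_ncard hsub (Set.toFinite _))).trans
      ((ncard_layer hp hlay hpow n le_rfl).trans (Nat.mul_le_mul_left _ (Nat.sub_le_sub_right ?_ 1)))
    rw [← hlay n le_rfl]
    exact Subgroup.card_le_of_le (hle n)
  have hbad : {a : A | Bad a}.ncard ≤ Nat.card f.ker * (1 + B.ncard) := by
    refine (Set.ncard_le_ncard (show {a : A | Bad a} ⊆ f ⁻¹' (insert 1 B) from fun a ha => ?_)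
      (Set.toFinite _)).trans ((ncard_preimage_le f _).trans (Nat.mul_le_mul_left _ ?_))
    · by_cases h : f a = 1
      · exact Or.inl h
      · exact Or.inr ⟨h, hpow a M ha, a, rfl⟩
    · exact (Set.ncard_insert_le _ _).trans (by omega)
  have hAX : Nat.card A = Nat.card f.ker * X := by
    rw [hX, ← Subgroup.index_ker]; exact (Subgroup.card_mul_index _).symm
  have hmain : p ^ 2 * (1 + B.ncard) + r * X ≤ p ^ 2 * X := by
    obtain ⟨P, hP⟩ : ∃ P, p ^ 2 = P + 1 := ⟨p ^ 2 - 1, (Nat.sub_add_cancel (Nat.one_le_pow _ _ hp.pos)).symm⟩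
    obtain ⟨Y, hY⟩ : ∃ Y, X = Y + 1 := ⟨X - 1, by omega⟩
    rw [hP, Nat.add_sub_cancel] at hBle hr
    rw [hY, Nat.add_sub_cancel] at hBle
    rw [hP, hY] at hX2 ⊢
    have hPY : P ≤ Y := by omega
    have hP1 : 0 < P := by nlinarith [hp.two_le]
    have h1 : (b₀ + r) * Y ≤ P * Y := Nat.mul_le_mul_right _ hr
    refine Nat.le_of_mul_le_mul_left ?_ hP1
    nlinarith [Nat.mul_le_mul_left (P + 1) hBle, Nat.mul_le_mul_left (P + 1) h1, Nat.mul_le_mul_left r hPY]
  calc p ^ 2 * {a : A | Bad a}.ncard + r * Nat.card A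
      ≤ p ^ 2 * (Nat.card f.ker * (1 + B.ncard)) + r * Nat.card A := by gcongr
    _ = Nat.card f.ker * (p ^ 2 * (1 + B.ncard) + r * X) := by rw [hAX]; ring
    _ ≤ Nat.card f.ker * (p ^ 2 * X) := Nat.mul_le_mul_left _ hmain
    _ = p ^ 2 * Nat.card A := by rw [hAX]; ring

end Comm

section Wielandt

variable {G : Type*} [Group G] [Finite G] {E K Q : Subgroup G} {p : ℕ} [hp : Fact p.Prime]

omit hp in
theorem inf_centralizer_normalizes {H S N : Subgroup G} (hH : N ≤ Subgroup.normalizer (H : Set G))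
    (hS : N ≤ Subgroup.normalizer (S : Set G)) :
    N ≤ Subgroup.normalizer ((H ⊓ Subgroup.centralizer (S : Set G) : Subgroup G) : Set G) := by
  have key : ∀ n ∈ N, ∀ x ∈ H ⊓ Subgroup.centralizer (S : Set G),
      n * x * n⁻¹ ∈ H ⊓ Subgroup.centralizer (S : Set G) := fun n hn x hx => by
    refine ⟨(Subgroup.mem_normalizer_iff.1 (hH hn) x).1 hx.1, Subgroup.mem_centralizer_iff.2 fun s hs => ?_⟩
    have h := Subgroup.mem_centralizer_iff.1 hx.2 (n⁻¹ * s * n)
      ((Subgroup.mem_normalizer_iff.1 (hS hn) _).2 (by simpa [mul_assoc] using hs))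
    calc s * (n * x * n⁻¹) = n * (n⁻¹ * s * n * x) * n⁻¹ := by group
      _ = n * (x * (n⁻¹ * s * n)) * n⁻¹ := by rw [h]
      _ = _ := by group
  intro n hn
  refine Subgroup.mem_normalizer_iff.2 fun x => ⟨key n hn x, fun h => ?_⟩
  simpa [mul_assoc] using key n⁻¹ (inv_mem hn) _ h

/-- `2 k + 1 ≤ w` where `k` lines of `E` have fixed points on `Q`. -/
theorem lines_bound (hE : Cfsg.IsElementaryAbelian p E) (hEc : Nat.card E = p ^ 2) (hp2 : p ≠ 2)
    (hq : (Nat.card K).Prime) (hKE : K ≤ Subgroup.normalizer (E : Set G))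
    (hfpf : ∀ x ∈ K, x ≠ 1 → ∀ e ∈ E, x * e = e * x → e = 1)
    (hn : E ⊔ K ≤ Subgroup.normalizer (Q : Set G)) (hcop : (Nat.card Q).Coprime (Nat.card ↥(E ⊔ K)))
    (hsolv : Group.IsSolvable Q) (hQodd : Odd (Nat.card Q))
    (hgood : ∃ s ∈ E, s ≠ 1 ∧ ∀ y ∈ Q, s * y = y * s → y = 1) :
    ∃ L : Finset (WielandtOrder.lines p E),
      (∀ D, D ∈ L ↔ Q ⊓ Subgroup.centralizer ((D : Subgroup G) : Set G) ≠ ⊥) ∧
        2 * L.card + 1 ≤ Nat.card ↥(Q ⊓ Subgroup.centralizer (K : Set G)) ∨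
        2 * p + 1 ≤ Nat.card ↥(Q ⊓ Subgroup.centralizer (K : Set G)) := by
  classical
  set w := Nat.card ↥(Q ⊓ Subgroup.centralizer (K : Set G)) with hw
  set q := Nat.card K with hq'
  have hE1 : E ≠ ⊥ := fun e => by
    rw [e, Subgroup.card_bot] at hEc
    exact (Nat.one_lt_pow (by norm_num) hp.out.one_lt).ne hEc
  have hK1 : K ≠ ⊥ := fun e => hq.ne_one (by rw [hq', e, Subgroup.card_bot])
  haveI := hE.1
  have hEK : E ⊓ K = ⊥ := (Subgroup.eq_bot_iff_forall _).2 fun e he => by_contra fun h1 =>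
    h1 (hfpf e he.2 h1 e he.1 rfl)
  have hdisj : Q ⊓ (E ⊔ K) = ⊥ := Subgroup.inf_eq_bot_of_coprime hcop
  have hcE : Q ⊓ Subgroup.centralizer (E : Set G) = ⊥ := (Subgroup.eq_bot_iff_forall _).2 fun y hy => by
    obtain ⟨s, hs, -, hs'⟩ := hgood
    exact hs' y hy.1 (Subgroup.mem_centralizer_iff.1 hy.2 s hs)
  have hQw : ∀ H : Subgroup G, H ≤ Q → E ⊔ K ≤ Subgroup.normalizer (H : Set G) →
      Nat.card H = Nat.card ↥(H ⊓ Subgroup.centralizer (K : Set G)) ^ q := by
    intro H hHQ hHn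
    haveI := hsolv
    have h := S1545.result E K H hE1 hK1 hEK
      (fun x hx e he => (Subgroup.mem_normalizer_iff.1 (hKE hx) e).1 he) hfpf
      (fun x hx y hy => (Subgroup.mem_normalizer_iff.1 (hHn hx) y).1 hy)
      (le_bot_iff.1 ((inf_le_inf_right _ hHQ).trans hdisj.le))
      (Group.isSolvable_of_isSolvable_injective (Subgroup.inclusion_injective hHQ))
      (hcop.coprime_dvd_left (Subgroup.card_dvd_of_le hHQ))
    have h1 : ∀ S : Set G, (E : Set G) ⊆ S → Nat.card ↥(H ⊓ Subgroup.centralizer S) = 1 := fun S hS => by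
      rw [Subgroup.card_eq_one]
      exact le_bot_iff.1 ((inf_le_inf hHQ (Subgroup.centralizer_le hS)).trans hcE.le)
    rwa [h1 _ (SetLike.coe_subset_coe.2 le_sup_left), h1 _ subset_rfl, one_pow, one_mul, mul_one] at h
  let c : WielandtOrder.lines p E → ℕ :=
    fun D => Nat.card ↥(Q ⊓ Subgroup.centralizer ((D : Subgroup G) : Set G))
  have hprod : ∏ D, c D = w ^ q := by
    have h := WielandtOrder.formula hE hEc Q (le_sup_left.trans hn)
      ((hcop.coprime_dvd_right (Subgroup.card_dvd_of_le le_sup_left)).symm)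
    rw [Subgroup.card_eq_one.2 hcE, one_pow, mul_one] at h
    rw [← h]
    exact hQw Q le_rfl hn
  have hpos : ∀ D, 0 < c D := fun D => Nat.card_pos
  have hmodd : ∀ D, Odd (c D) := fun D => hQodd.of_dvd_nat (Subgroup.card_dvd_of_le inf_le_left)
  -- a bad line has at least `2 p + 1` fixed points
  have hbig : ∀ D, c D ≠ 1 → 2 * p + 1 ≤ c D := by
    intro D hD
    set H := Q ⊓ Subgroup.centralizer ((D : Subgroup G) : Set G) with hH
    have hED : E ≤ Subgroup.normalizer ((D : Subgroup G) : Set G) := fun e he => by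
      haveI := hE.1
      refine Subgroup.centralizer_le_normalizer _ (Subgroup.mem_centralizer_iff.2 fun d hd => ?_)
      exact congrArg Subtype.val (mul_comm' (⟨d, D.2.1 hd⟩ : E) ⟨e, he⟩)
    have hEH := inf_centralizer_normalizes (le_sup_left.trans hn) hED
    letI : MulAction ↥E ↥H :=
      { smul := fun e x => ⟨e * x * (e : G)⁻¹, (Subgroup.mem_normalizer_iff.1 (hEH e.2) x).1 x.2⟩
        one_smul := fun x => Subtype.ext (by show (1 : G) * x * (1 : G)⁻¹ = x; simp)
        mul_smul := fun a b x => Subtype.ext (by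
          show ((a * b : ↥E) : G) * x * ((a * b : ↥E) : G)⁻¹ = a * (b * x * (b : G)⁻¹) * (a : G)⁻¹
          push_cast; group) }
    have hmod := (IsPGroup.of_card hEc).card_modEq_card_fixedPoints (α := ↥H)
    have hfix : MulAction.fixedPoints ↥E ↥H = {1} := by
      ext x
      refine ⟨fun hx => Subtype.ext ((Subgroup.eq_bot_iff_forall _).1 hcE x ⟨x.2.1, ?_⟩), ?_⟩
      · refine Subgroup.mem_centralizer_iff.2 fun e he => ?_
        have h : e * (x : G) * e⁻¹ = x := congrArg Subtype.val (hx ⟨e, he⟩)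
        rwa [mul_inv_eq_iff_eq_mul] at h
      · rintro rfl e
        exact Subtype.ext (by show (e : G) * (1 : G) * (e : G)⁻¹ = 1; simp)
    rw [hfix, Nat.card_coe_set_eq, Set.ncard_singleton] at hmod
    have hd : p ∣ c D - 1 := (Nat.modEq_iff_dvd' Nat.card_pos).1 hmod.symm
    have h2 : 2 ∣ c D - 1 := by
      obtain ⟨j, hj⟩ := hmodd D
      exact ⟨j, by omega⟩
    have h2p : 2 * p ∣ c D - 1 :=
      (Nat.Coprime.mul_dvd_of_dvd_of_dvd ((Nat.coprime_primes Nat.prime_two hp.out).2 (Ne.symm hp2)) h2 hd)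
    have hc1 : 1 < c D := lt_of_le_of_ne (hpos D) (Ne.symm hD)
    have := Nat.le_of_dvd (by omega) h2p
    omega
  refine ⟨Finset.univ.filter fun D => Q ⊓ Subgroup.centralizer ((D : Subgroup G) : Set G) ≠ ⊥, ?_⟩
  by_cases hinv : ∀ D, c D ≠ 1 → K ≤ Subgroup.normalizer ((D : Subgroup G) : Set G)
  · refine Or.inl ⟨fun D => by simp, ?_⟩
    set L := Finset.univ.filter fun D : WielandtOrder.lines p E =>
      Q ⊓ Subgroup.centralizer ((D : Subgroup G) : Set G) ≠ ⊥
    let d : WielandtOrder.lines p E → ℕ := fun D =>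
      Nat.card ↥((Q ⊓ Subgroup.centralizer ((D : Subgroup G) : Set G)) ⊓ Subgroup.centralizer (K : Set G))
    have hd : ∀ D, c D ≠ 1 → c D = d D ^ q := fun D hD => hQw _ inf_le_left <| by
      refine inf_centralizer_normalizes hn (sup_le (fun e he => ?_) (hinv D hD))
      haveI := hE.1
      refine Subgroup.centralizer_le_normalizer _ (Subgroup.mem_centralizer_iff.2 fun a ha => ?_)
      exact congrArg Subtype.val (mul_comm' (⟨a, D.2.1 ha⟩ : E) ⟨e, he⟩)
    have hL : ∀ D, D ∈ L ↔ c D ≠ 1 := fun D => by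
      simp only [L, c, Finset.mem_filter, Finset.mem_univ, true_and]
      exact not_congr Subgroup.card_eq_one.symm
    have hwd : w = ∏ D ∈ L, d D := by
      refine Nat.pow_left_injective hq.ne_zero ?_
      show w ^ q = (∏ D ∈ L, d D) ^ q
      rw [← hprod, ← Finset.prod_pow, ← Finset.prod_subset (Finset.subset_univ L)
        (fun D _ hD => by simpa [hL] using hD)]
      exact Finset.prod_congr rfl fun D hD => hd D ((hL D).1 hD)
    have h3 : ∀ D ∈ L, 3 ≤ d D := fun D hD => by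
      have h1 : d D ≠ 1 := fun e => (hL D).1 hD (by rw [hd D ((hL D).1 hD), e, one_pow])
      obtain ⟨j, hj⟩ : Odd (d D) := hQodd.of_dvd_nat (Subgroup.card_dvd_of_le (inf_le_left.trans inf_le_left))
      omega
    have h4 := Finset.pow_card_le_prod L d 3 h3
    rw [← hwd] at h4
    have h5 : ∀ k : ℕ, 2 * k + 1 ≤ 3 ^ k := fun k => by
      induction k with
      | zero => simp
      | succ k ih => rw [pow_succ]; omega
    exact (h5 _).trans h4
  · push Not at hinv
    obtain ⟨D, hD, hKD⟩ := hinv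
    refine Or.inr ((hbig D hD).trans ?_)
    let φ : K → WielandtOrder.lines p E := fun x =>
      ⟨(D : Subgroup G).map (MulAut.conj (x : G)).toMonoidHom, by
        refine ⟨?_, by rw [Subgroup.card_map_of_injective (MulAut.conj (x : G)).injective]; exact D.2.2⟩
        rintro _ ⟨a, ha, rfl⟩
        exact (Subgroup.mem_normalizer_iff.1 (hKE x.2) a).1 (D.2.1 ha)⟩
    have hφc : ∀ x, c (φ x) = c D := fun x => by
      have e : Q ⊓ Subgroup.centralizer ((φ x : Subgroup G) : Set G) =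
          (Q ⊓ Subgroup.centralizer ((D : Subgroup G) : Set G)).map (MulAut.conj (x : G)).toMonoidHom := by
        have hxQ := hn (Subgroup.mem_sup_right x.2)
        ext y
        rw [Subgroup.mem_map]
        constructor
        · rintro ⟨hyQ, hyc⟩
          refine ⟨(x : G)⁻¹ * y * x, ⟨(Subgroup.mem_normalizer_iff.1 hxQ _).2 (by simpa [mul_assoc] using hyQ),
            Subgroup.mem_centralizer_iff.2 fun a ha => ?_⟩, by simp [mul_assoc]⟩
          have h := Subgroup.mem_centralizer_iff.1 hyc _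
            (Subgroup.mem_map_of_mem (MulAut.conj (x : G)).toMonoidHom ha)
          simp only [MulEquiv.coe_toMonoidHom, MulAut.conj_apply] at h
          calc a * ((x : G)⁻¹ * y * x) = (x : G)⁻¹ * ((x : G) * a * (x : G)⁻¹ * y) * x := by group
            _ = (x : G)⁻¹ * (y * ((x : G) * a * (x : G)⁻¹)) * x := by rw [h]
            _ = _ := by group
        · rintro ⟨z, ⟨hzQ, hzc⟩, rfl⟩
          refine ⟨(Subgroup.mem_normalizer_iff.1 hxQ z).1 hzQ, Subgroup.mem_centralizer_iff.2 ?_⟩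
          rintro _ ⟨a, ha, rfl⟩
          rw [← map_mul, Subgroup.mem_centralizer_iff.1 hzc a ha, map_mul]
      show Nat.card ↥(Q ⊓ Subgroup.centralizer ((φ x : Subgroup G) : Set G)) = _
      rw [e, Subgroup.card_map_of_injective (MulAut.conj (x : G)).injective]
    have hinj : Function.Injective φ := by
      intro x y hxy
      by_contra hne
      apply hKD
      have hz : y⁻¹ * x ≠ 1 := fun e => hne (inv_mul_eq_one.1 e).symm
      have hgen : Subgroup.zpowers (y⁻¹ * x) = ⊤ := by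
        haveI : Fact (Nat.card K).Prime := ⟨hq⟩
        exact zpowers_eq_top_of_prime_card rfl hz
      intro a ha
      have hmem : (⟨a, ha⟩ : K) ∈ ((Subgroup.normalizer ((D : Subgroup G) : Set G)).subgroupOf K) := by
        refine hgen.ge.trans (Subgroup.zpowers_le.2 ?_) (Subgroup.mem_top (⟨a, ha⟩ : K))
        rw [Subgroup.mem_subgroupOf, Subgroup.mem_normalizer_iff_map_conj_eq]
        have h := congrArg (fun F : WielandtOrder.lines p E =>
          (F : Subgroup G).map (MulAut.conj ((y : G)⁻¹)).toMonoidHom) hxy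
        simp only [φ, Subgroup.map_map] at h
        convert h.trans ?_ using 2
        · ext t; simp [mul_assoc]
        · convert Subgroup.map_id (D : Subgroup G)
          ext t; simp [mul_assoc]
      exact hmem
    refine (Nat.pow_le_pow_iff_left hq.ne_zero).1 ?_
    haveI : Fintype K := Fintype.ofFinite K
    rw [← hprod]
    calc c D ^ q = ∏ F ∈ Finset.univ.image φ, c F := by
          rw [Finset.prod_image fun a _ b _ e => hinj e, Finset.prod_congr rfl (fun x _ => hφc x),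
            Finset.prod_const, Finset.card_univ, ← Nat.card_eq_fintype_card]
      _ ≤ ∏ F, c F := Finset.prod_le_prod_of_subset_of_one_le' (Finset.subset_univ _) fun F _ _ => hpos F

end Wielandt

theorem numeric {p k w : ℕ} (hp : 3 ≤ p) (hk : k ≤ p) (hw : 3 ≤ w)
    (h : 2 * k + 1 ≤ w ∨ 2 * p + 1 ≤ w) : 14 * p ^ 2 ≤ 9 * w * ((p - 1) * (p + 1 - k)) := by
  obtain ⟨a, rfl⟩ : ∃ a, p = a + 1 := ⟨p - 1, by omega⟩
  obtain ⟨m, hm⟩ : ∃ m, a + 1 + 1 - k = m + 1 := ⟨a + 1 - k, by omega⟩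
  rw [Nat.add_sub_cancel, hm]
  have ha : 2 ≤ a := by omega
  rcases Nat.eq_zero_or_pos k with rfl | hk1
  · have : m = a + 1 := by omega
    subst this
    nlinarith [mul_le_mul_of_nonneg_right hw (Nat.zero_le (a * (a + 1 + 1)))]
  · have key : 2 * (a + 1) + 1 ≤ w * (m + 1) := by
      rcases h with h | h
      · have hmk : m + k = a + 1 := by omega
        nlinarith [mul_le_mul_of_nonneg_right h (Nat.zero_le (m + 1)),
          mul_le_mul_of_nonneg_left hk1 (Nat.zero_le m)]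
      · nlinarith
    nlinarith [mul_le_mul_of_nonneg_left key (Nat.zero_le (9 * a))]

section Main

variable {G : Type*} [Group G] [Finite G]

/-- At least `14 / (9 w)` of the elements of `U` act without fixed points on `M_σ`, where
`w = #C_{M_σ}(K)`. -/
theorem regular_card (hG : Cfsg.IsMinSimpleOddOrder G) {S K U : Subgroup G} (hS : IsCoatom S)
    (hKU : Cfsg.IsSigmaDecomposition S K U) (hK1 : K ≠ ⊥) (hU1 : U ≠ ⊥) :
    14 * Nat.card U ≤ 9 * Nat.card ↥(Cfsg.sigmaCore S ⊓ Subgroup.centralizer (K : Set G)) *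
      Nat.card {u : U // (u : G) ∉ Cfsg.sigmaHat S} := by
  classical
  set Q := Cfsg.sigmaCore S with hQ
  set w := Nat.card ↥(Q ⊓ Subgroup.centralizer (K : Set G)) with hwdef
  haveI hUc : IsMulCommutative U := (S1363.result hG S hS K U hKU hK1).1
  letI : CommGroup U := { (inferInstance : Group U) with mul_comm := fun a b => hUc.is_comm.comm a b }
  set Bad : U → Prop := fun u => (u : G) ∈ Cfsg.sigmaHat S with hBad
  obtain ⟨hDne, hUS⟩ := And.intro (S1364.result hG S hS K U hKU hK1).2.1 hKU.compl.1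
  obtain ⟨y₀, hy₀, hy₀1⟩ := (Subgroup.bot_or_exists_ne_one _).resolve_left hDne
  have hw3 : 3 ≤ w := by
    obtain ⟨j, hj⟩ : Odd w := hG.1.of_dvd_nat (Subgroup.card_subgroup_dvd_card _)
    have : w ≠ 1 := fun e => hDne (Subgroup.card_eq_one.1 e)
    omega
  have hpow : ∀ a k, Bad a → Bad (a ^ k) := by
    rintro a k ⟨-, y, hy, hy1, hay⟩
    exact ⟨hUS (a ^ k).2, y, hy, hy1, by
      rw [Subgroup.coe_pow]; exact (show Commute (a : G) y from hay).pow_left k⟩
  obtain ⟨U₀, hU₀U, hexp, hreg⟩ := S1360.result hG S hS K U hKU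
  have hgood : ∃ g : U, orderOf g = Monoid.exponent U ∧ ∀ k : ℕ, g ^ k ≠ 1 → ¬ Bad (g ^ k) := by
    letI : CommGroup U₀ :=
      { (inferInstance : Group U₀) with
        mul_comm := fun a b => Subtype.ext
          (congrArg (fun t : U => (t : G)) (mul_comm (⟨a, hU₀U a.2⟩ : U) ⟨b, hU₀U b.2⟩)) }
    obtain ⟨g, hg⟩ := Monoid.exists_orderOf_eq_exponent (Monoid.ExponentExists.of_finite (G := U₀))
    refine ⟨⟨g, hU₀U g.2⟩, by rw [Subgroup.orderOf_mk, Subgroup.orderOf_coe, hg, hexp],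
      fun k hk hb => hk (Subtype.ext ?_)⟩
    exact hreg _ (pow_mem g.2 k) hb
  have hp' : ∃ p : ℕ, p.Prime ∧ p ∣ Nat.card U :=
    Nat.exists_prime_and_dvd fun e => hU1 (Subgroup.card_eq_one.1 e)
  obtain ⟨p, hp, hpd⟩ := hp'
  haveI := Fact.mk hp
  have hp2 : p ≠ 2 := fun e => by
    have := hG.1.of_dvd_nat (hpd.trans (Subgroup.card_subgroup_dvd_card U))
    rw [e] at hpd
    exact absurd (hG.1.of_dvd_nat (hpd.trans (Subgroup.card_subgroup_dvd_card U))) (by decide)
  have hp3 : 3 ≤ p := by have := hp.two_le; omega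
  have hT : Nat.card (tor U p) ≤ p ^ 2 := by
    have hTp : IsPGroup p (tor U p) := fun y => ⟨1, Subtype.ext (by simpa using mem_tor.1 y.2)⟩
    obtain ⟨P, hP⟩ := hTp.exists_le_sylow
    have h := (OddOrder.TypeU.sylow_small hG hS hKU p P).2 ((tor U p).subgroupOf (P : Subgroup U))
      ⟨⟨fun a b => Subtype.ext (Subtype.ext (mul_comm ((a : ↥(P : Subgroup U)) : U) _))⟩⟩
      (fun a ha => Subtype.ext (by simpa using mem_tor.1 (Subgroup.mem_subgroupOf.1 ha)))
    rwa [Nat.card_congr (Subgroup.subgroupOfEquivOfLe hP).toEquiv] at h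
  -- reduce to a bound on the bad elements
  set bad := {a : U | Bad a}.ncard with hbad
  suffices hmain : 14 * Nat.card U + 9 * w * bad ≤ 9 * w * Nat.card U by
    have hsplit : bad + Nat.card {u : U // (u : G) ∉ Cfsg.sigmaHat S} = Nat.card U := by
      rw [show Nat.card {u : U // (u : G) ∉ Cfsg.sigmaHat S} = {a : U | Bad a}ᶜ.ncard from
        Nat.card_coe_set_eq _, hbad, Set.ncard_add_ncard_compl]
    set R := Nat.card {u : U // (u : G) ∉ Cfsg.sigmaHat S}
    nlinarith
  rcases le_or_gt (Nat.card (tor U p)) p with hT1 | hT1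
  · have h := count_one hpow hgood hp hpd hT1
    have h3 : 3 * bad ≤ Nat.card U := (Nat.mul_le_mul_right _ hp3).trans h
    nlinarith [mul_le_mul_of_nonneg_left h3 (Nat.zero_le (3 * w)),
      mul_le_mul_of_nonneg_right hw3 (Nat.zero_le (Nat.card U))]
  have hT2 : Nat.card (tor U p) = p ^ 2 := by
    have hTp : IsPGroup p (tor U p) := fun y => ⟨1, Subtype.ext (by simpa using mem_tor.1 y.2)⟩
    obtain ⟨a, ha⟩ := IsPGroup.iff_card.1 hTp
    rw [ha] at hT hT1 ⊢
    have h1 : 1 < a := (Nat.pow_lt_pow_iff_right hp.one_lt).1 (by simpa using hT1)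
    have h2 : a ≤ 2 := (Nat.pow_le_pow_iff_right hp.one_lt).1 hT
    rw [show a = 2 by omega]
  -- the elements of order `p` of `U`
  set E : Subgroup G := (tor U p).map U.subtype with hEdef
  have hEU : E ≤ U := Subgroup.map_subtype_le _
  have hEc : Nat.card E = p ^ 2 := by
    rw [hEdef, Subgroup.card_map_of_injective U.subtype_injective, hT2]
  have hE : Cfsg.IsElementaryAbelian p E := by
    refine ⟨.of_setLike_mul_comm fun a ha b hb => congrArg (fun t : U => (t : G))
      (mul_comm (⟨a, hEU ha⟩ : U) ⟨b, hEU hb⟩), ?_⟩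
    rintro _ ⟨a, ha, rfl⟩
    rw [← map_pow, mem_tor.1 ha, map_one]
  have hmemE : ∀ u : U, u ^ p = 1 → (u : G) ∈ E := fun u hu => ⟨u, hu, rfl⟩
  have hKE : K ≤ Subgroup.normalizer (E : Set G) := by
    have key : ∀ x ∈ K, ∀ e ∈ E, x * e * x⁻¹ ∈ E := by
      rintro x hx _ ⟨a, ha, rfl⟩
      refine hmemE ⟨x * a * x⁻¹, (Subgroup.mem_normalizer_iff.1 (hKU.normal hx) a).1 a.2⟩ (Subtype.ext ?_)
      rw [Subgroup.coe_pow, conj_pow, ← Subgroup.coe_pow, mem_tor.1 ha]
      simp
    intro x hx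
    refine Subgroup.mem_normalizer_iff.2 fun e => ⟨key x hx e, fun h => ?_⟩
    simpa [mul_assoc] using key x⁻¹ (inv_mem hx) _ h
  have hKS : K ≤ S := hKU.hall.1
  obtain ⟨-, hCk⟩ := S1354.result hG S hS K hKU.cyclic hKU.hall
  have hfpf : ∀ x ∈ K, x ≠ 1 → ∀ e ∈ E, x * e = e * x → e = 1 := by
    intro x hx hx1 e he hc
    have h0 : e ∈ K ⊔ Q ⊓ Subgroup.centralizer (K : Set G) :=
      (hCk hK1 x hx hx1).le ⟨hUS (hEU he), Subgroup.mem_centralizer_singleton_iff.2 hc.symm⟩
    have h1 : e ∈ K ⊔ Q := (sup_le le_sup_left (inf_le_left.trans le_sup_right) : K ⊔ Q ⊓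
      Subgroup.centralizer (K : Set G) ≤ K ⊔ Q) h0
    exact Subgroup.mem_bot.1 (hKU.compl.2.2.1 ▸ (⟨hEU he, h1⟩ : e ∈ U ⊓ (K ⊔ Cfsg.sigmaCore S)))
  haveI := OddOrder.MinSimple.isSolvable hG hS.1
  have hcop : (Nat.card Q).Coprime (Nat.card ↥(E ⊔ K)) := by
    refine Nat.coprime_of_dvd fun t ht h1 h2 => ?_
    have h3 : t ∣ Nat.card E * Nat.card K := h2.trans (by
      have h := SolvBasic.card_sup_mul_card_inf hKE
      rw [← h]
      exact dvd_mul_right _ _)
    have hσ : t ∈ Cfsg.sigma S := OddOrder.Exceptional.mem_sigma_of_dvd ht h1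
    rcases ht.dvd_mul.1 h3 with h | h
    · exact (OddOrder.TypeU.not_sigma_kappa hG hS hKU ht (h.trans (Subgroup.card_dvd_of_le hEU))).1 hσ
    · exact (hKU.hall.2.1 t ht h).2.2.1 hσ
  obtain ⟨g, hg, hgg⟩ := hgood
  have hgood' : ∃ s ∈ E, s ≠ 1 ∧ ∀ y ∈ Q, s * y = y * s → y = 1 := by
    obtain ⟨e, he⟩ := exists_prime_orderOf_dvd_card' (G := U) p hpd
    obtain ⟨c, hc⟩ : p ∣ orderOf g := by rw [hg, ← he]; exact Monoid.order_dvd_exponent e
    have hc0 : c ≠ 0 := fun h0 => (orderOf_pos g).ne' (by rw [hc, h0, mul_zero])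
    have ho : orderOf (g ^ c) = p := by
      rw [orderOf_pow' _ hc0, hc, Nat.gcd_mul_left_left, Nat.mul_div_cancel _ (Nat.pos_of_ne_zero hc0)]
    have hne : g ^ c ≠ 1 := fun h => hp.ne_one (by rw [← ho, h, orderOf_one])
    refine ⟨(g ^ c : U), hmemE _ (by rw [← ho]; exact pow_orderOf_eq_one _),
      fun h => hne (Subtype.ext h), fun y hy h => by_contra fun hy1 => ?_⟩
    exact hgg c hne ⟨hUS (g ^ c).2, y, hy, hy1, h⟩
  obtain ⟨L, hL⟩ := lines_bound (p := p) hE hEc hp2 (S1372.result hG S hS K U hKU hK1 hU1).1 hKE hfpf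
    (sup_le ((hEU.trans hUS).trans (OddOrder.Exceptional.le_normalizer_sigmaCore S))
      (hKS.trans (OddOrder.Exceptional.le_normalizer_sigmaCore S)))
    hcop (SolvBasic.isSolvable_of_le (OddOrder.Exceptional.sigmaCore_le S))
    (hG.1.of_dvd_nat (Subgroup.card_subgroup_dvd_card _)) hgood'
  -- the bad lines
  obtain ⟨s, hsE, hs1, hsQ⟩ := hgood'
  let Lb := Finset.univ.filter fun D : WielandtOrder.lines p E =>
    Q ⊓ Subgroup.centralizer ((D : Subgroup G) : Set G) ≠ ⊥
  have hb₀ : {e : U | e ≠ 1 ∧ Bad e ∧ e ^ p = 1}.ncard ≤ Lb.card * (p - 1) := by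
    let T : WielandtOrder.lines p E → Set U := fun D => {u | (u : G) ∈ (D : Subgroup G) ∧ u ≠ 1}
    have hT' : ∀ D, (T D).ncard = p - 1 := fun D => by
      have e : Subtype.val '' T D = ((D : Subgroup G) : Set G) \ {1} := by
        ext z
        constructor
        · rintro ⟨u, ⟨hu, hu1⟩, rfl⟩; exact ⟨hu, fun h => hu1 (Subtype.ext h)⟩
        · rintro ⟨hz, hz1⟩
          exact ⟨⟨z, hEU (D.2.1 hz)⟩, ⟨hz, fun h => hz1 (congrArg Subtype.val h)⟩, rfl⟩
      rw [← Set.ncard_image_of_injective _ Subtype.val_injective, e,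
        Set.ncard_diff_singleton_of_mem (Subgroup.one_mem _), ← Nat.card_coe_set_eq]
      exact congrArg (· - 1) D.2.2
    have hsub : {e : U | e ≠ 1 ∧ Bad e ∧ e ^ p = 1} ⊆ ⋃ D ∈ Lb, T D := by
      rintro u ⟨hu1, ⟨-, y, hy, hy1, huy⟩, hup⟩
      obtain ⟨D, hD, -⟩ := WielandtOrder.existsUnique_line hE (hmemE u hup) (fun h => hu1 (Subtype.ext h))
      refine Set.mem_biUnion (Finset.mem_filter.2 ⟨Finset.mem_univ D, fun hbot => hy1 ?_⟩) ⟨hD, hu1⟩
      have ho : orderOf (u : G) = p := orderOf_eq_prime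
        (by rw [← Subgroup.coe_pow, hup]; rfl) (fun h => hu1 (Subtype.ext h))
      refine (Subgroup.eq_bot_iff_forall _).1 hbot y ⟨hy, Subgroup.mem_centralizer_iff.2 fun a ha => ?_⟩
      have : (D : Subgroup G) = Subgroup.zpowers (u : G) :=
        (Subgroup.eq_of_le_of_card_ge (Subgroup.zpowers_le.2 hD) (by rw [Nat.card_zpowers, ho, D.2.2])).symm
      rw [SetLike.mem_coe, this, Subgroup.mem_zpowers_iff] at ha
      obtain ⟨k, rfl⟩ := ha
      exact (show Commute (u : G) y from huy).zpow_left k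
    calc _ ≤ (⋃ D ∈ Lb, T D).ncard := Set.ncard_le_ncard hsub (Set.toFinite _)
      _ ≤ ∑ D ∈ Lb, (T D).ncard := Finset.set_ncard_biUnion_le _ _
      _ = _ := by simp [hT']
  have hk : Lb.card ≤ p := by
    obtain ⟨D, hD, -⟩ := WielandtOrder.existsUnique_line hE hsE hs1
    have hlt : Lb.card < Fintype.card (WielandtOrder.lines p E) :=
      Finset.card_lt_univ_of_notMem (x := D) (by
        simp only [Lb, Finset.mem_filter, Finset.mem_univ, true_and, not_not, Subgroup.eq_bot_iff_forall]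
        exact fun y hy => hsQ y hy.1 (Subgroup.mem_centralizer_iff.1 hy.2 s hD))
    rw [WielandtOrder.card_lines hE hEc] at hlt
    omega
  have hcase : 2 * Lb.card + 1 ≤ w ∨ 2 * p + 1 ≤ w := by
    rcases hL with ⟨hLeq, h⟩ | h
    · left
      rwa [show Lb = L by ext D; simp [Lb, hLeq D, hQ]]
    · exact Or.inr h
  set r := (p - 1) * (p + 1 - Lb.card)
  have hr : {e : U | e ≠ 1 ∧ Bad e ∧ e ^ p = 1}.ncard + r ≤ p ^ 2 - 1 := by
    have e1 : Lb.card * (p - 1) + r = p ^ 2 - 1 := by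
      rw [mul_comm Lb.card, ← Nat.mul_add, Nat.add_sub_cancel' (by omega), mul_comm,
        show p ^ 2 - 1 = p ^ 2 - 1 ^ 2 by simp, Nat.sq_sub_sq]
    omega
  have hn : 14 * p ^ 2 ≤ 9 * w * r := numeric hp3 hk hw3 hcase
  have hc := count_two hpow ⟨g, hg, hgg⟩ hp hT2 hr
  have hc' : p ^ 2 * bad + r * Nat.card U ≤ p ^ 2 * Nat.card U := hc
  have hn' := Nat.mul_le_mul_right (Nat.card U) hn
  have hc'' := Nat.mul_le_mul_left (9 * w) hc'
  refine le_of_mul_le_mul_left ?_ (pow_pos hp.pos 2)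
  linarith

end Main

end Cfsg.Agent.OddChar.P10
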