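import Cfsg.Agent.Lib.OddChar.PF10.Chars
import Cfsg.Agent.Lib.OddChar.PF10.Regular
import Cfsg.Agent.Lib.OddOrder.SigmaCover
import Cfsg.Agent.S1538

/-!
# Elements of `G` outside the Dade support, of order prime to `|W₁|`
-/

set_option linter.style.haveILetI false
set_option linter.unusedSectionVars false

namespace Cfsg.Agent.OddChar.P10

open Cfsg.Agent.OddOrder Cfsg.Agent.Char
open Cfsg.Agent.OddOrder.Exceptional Cfsg.Agent.OddOrder.TauOne Cfsg.Agent.OddOrder.Kappa
open scoped Classical commutatorElement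

universe u

variable {G : Type u} [Group G] [Fintype G] {M K U : Subgroup G}

/-- A generalisation of `Ctx.semi` to all maximal subgroups with `κ ≠ ∅`. -/
theorem semi_of (hG : Cfsg.IsMinSimpleOddOrder G) {S L V : Subgroup G} (hS : IsCoatom S)
    (hV : Cfsg.IsSigmaDecomposition S L V) (hL : L ≠ ⊥) :
    CyclicTI.Semi (kd S) (L.subgroupOf S) ((wTwo S L).subgroupOf S) := by
  obtain ⟨W, hP, -⟩ := Types.exists_data hG hS hV hL
  have hcd := Types.compl_derived hG hS hV hL
  have hcyc := hV.cyclic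
  obtain ⟨hDc, hDne, -, -⟩ := S1364.result hG S hS L V hV hL
  have hmem : ∀ x : S, x ∈ kd S ↔ (x : G) ∈ ⁅S, S⁆ := fun x => by
    rw [← Subgroup.map_subtype_commutator]
    exact ⟨fun h => Subgroup.mem_map_of_mem _ h, fun ⟨y, hy, e⟩ => Subtype.ext e ▸ hy⟩
  have hwle : wTwo S L ≤ S := inf_le_left.trans (sigmaCore_le S)
  refine ⟨inferInstance, ?_, ?_, fun e => hL ?_, ?_, ?_, fun e => hDne ?_, ?_, fun x hx => ?_,
    fun x hx hx1 => ?_⟩
  · refine (Subgroup.eq_bot_iff_forall _).2 fun x hx => Subtype.ext ?_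
    have h : (x : G) ∈ ⁅S, S⁆ ⊓ L := ⟨(hmem x).1 hx.1, hx.2⟩
    rwa [hcd.2.2.1, Subgroup.mem_bot] at h
  · refine eq_top_iff.2 fun x _ => ?_
    obtain ⟨a, ha, b, hb, e⟩ := hcd.2.2.2 x x.2
    have e' : x = (⟨a, hcd.1 ha⟩ : S) * ⟨b, hcd.2.1 hb⟩ := Subtype.ext e
    rw [e']
    exact mul_mem (Subgroup.mem_sup_left ((hmem _).2 ha)) (Subgroup.mem_sup_right hb)
  · rw [← Subgroup.map_subgroupOf_eq_of_le hV.hall.1, e, Subgroup.map_bot]
  · exact isCyclic_of_surjective (Subgroup.subgroupOfEquivOfLe hV.hall.1).symm.toMonoidHom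
      (Subgroup.subgroupOfEquivOfLe hV.hall.1).symm.surjective
  · show Nat.Coprime (Nat.card (L.subgroupOf S)) (L.subgroupOf S).index
    rw [Nat.card_congr (Subgroup.subgroupOfEquivOfLe hV.hall.1).toEquiv]
    exact Types.K_hall hV
  · rw [show Cfsg.sigmaCore S ⊓ Subgroup.centralizer (L : Set G) = wTwo S L from rfl,
      ← Subgroup.map_subgroupOf_eq_of_le hwle, e, Subgroup.map_bot]
  · haveI := hDc
    exact isCyclic_of_surjective (Subgroup.subgroupOfEquivOfLe hwle).symm.toMonoidHom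
      (Subgroup.subgroupOfEquivOfLe hwle).symm.surjective
  · exact (hmem x).2 ((hP.W₂_le.trans inf_le_right).trans
      (Subgroup.commutator_mono hcd.1 hcd.1) (Subgroup.mem_subgroupOf.1 hx))
  · have h := hP.W₂_centralizer x hx fun e => hx1 (Subtype.ext e)
    ext y
    show _ ↔ (y : G) ∈ Cfsg.sigmaCore S ⊓ Subgroup.centralizer (L : Set G)
    rw [← h, Subgroup.mem_inf, Subgroup.mem_inf, hmem,
      Subgroup.mem_centralizer_singleton_iff, Subgroup.mem_centralizer_singleton_iff]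
    exact and_congr_right fun _ => ⟨fun e => congrArg Subtype.val e, fun e => Subtype.ext e⟩

/-- The Dade support of `A₀(M)`. -/
def dadeSet (M : Subgroup G) : Set G :=
  {g | ∃ a ∈ Cfsg.typeA0 M, g ∈ Dade.coset (Cfsg.supportR M) a}

/-- The elements of `S'` commuting with a non-identity element of `S_σ`. -/
def smallA (S : Subgroup G) : Set G :=
  {a | a ∈ ⁅S, S⁆ ∧ a ≠ 1 ∧ ∃ y ∈ Cfsg.sigmaCore S, y ≠ 1 ∧ a * y = y * a}

/-- Union of the conjugates of a set. -/
def conjSet (A : Set G) : Set G := {g | ∃ x : G, ∃ a ∈ A, g = x * a * x⁻¹}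

theorem ncard_conjSet_le (S : Subgroup G) {A : Set G}
    (hA : ∀ s ∈ S, ∀ a ∈ A, s * a * s⁻¹ ∈ A) :
    (conjSet A).ncard * Nat.card S ≤ Nat.card G * A.ncard := by
  have hsub : conjSet A ⊆ Set.range fun p : (G ⧸ S) × A => p.1.out * (p.2 : G) * p.1.out⁻¹ := by
    rintro g ⟨x, a, ha, rfl⟩
    obtain ⟨s, hs⟩ := QuotientGroup.mk_out_eq_mul S x
    refine ⟨((x : G ⧸ S), ⟨(s : G)⁻¹ * a * s, ?_⟩), ?_⟩
    · simpa using hA _ (S.inv_mem s.2) a ha
    · show (x : G ⧸ S).out * ((s : G)⁻¹ * a * s) * (x : G ⧸ S).out⁻¹ = _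
      rw [hs]; group
  have h := Set.ncard_le_ncard hsub (Set.finite_range _)
  have h2 := h.trans_eq (Nat.card_coe_set_eq _).symm |>.trans
    (Finite.card_range_le fun p : (G ⧸ S) × A => p.1.out * (p.2 : G) * p.1.out⁻¹)
  rw [Nat.card_prod, Nat.card_coe_set_eq] at h2
  calc (conjSet A).ncard * Nat.card S ≤ Nat.card (G ⧸ S) * A.ncard * Nat.card S :=
        Nat.mul_le_mul_right _ h2
    _ = Nat.card G * A.ncard := by rw [Subgroup.card_eq_card_quotient_mul_card_subgroup S]; ring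

namespace Ctx

variable (c : Ctx M K U) [Fintype M]
include c

theorem ncard_dadeSet :
    ((dadeSet M).ncard : ℂ) / (Nat.card G : ℂ) = ((Nat.card (kd M) : ℂ) - 1) / (Nat.card M : ℂ) +
      ((Nat.card K : ℂ) - 1) * ((Nat.card (wTwo M K) : ℂ) - 1) /
        ((Nat.card K : ℂ) * (Nat.card (wTwo M K) : ℂ)) := by
  haveI : (kd M).Normal := inferInstance
  set f : M → ℂ := fun x => if (x : G) ∈ Cfsg.typeA0 M then 1 else 0 with hf
  have hfc : Cfsg.IsClassFunction M f := fun g h => by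
    simp only [hf]
    refine if_congr ⟨fun hh => ?_, fun hh => ?_⟩ rfl rfl
    · simpa [mul_assoc] using TypeA.typeA0_conj c.hG c.hM (M.inv_mem h.2) hh
    · simpa using TypeA.typeA0_conj c.hG c.hM h.2 hh
  have hfs : Supp f := fun x hx => if_neg hx
  have h := c.tau_inner_one hfc hfs
  have hL : Cfsg.classInner (tau M f) (fun _ => (1 : ℂ)) =
      ((dadeSet M).ncard : ℂ) / (Nat.card G : ℂ) := by
    have e : ∀ g, tau M f g = if g ∈ dadeSet M then 1 else 0 := fun g => by
      by_cases hg : g ∈ dadeSet M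
      · obtain ⟨a, ha, hga⟩ := id hg
        rw [if_pos hg, tau, Dade.dadeIsometry_eq c.hypothesis hfc ha hga, hf]
        exact if_pos ha
      · rw [if_neg hg, tau, Dade.dadeIsometry_zero c.hypothesis fun a ha hga => hg ⟨a, ha, hga⟩]
    simp only [Cfsg.classInner, e, map_one, mul_one, Finset.sum_boole]
    rw [Set.ncard_eq_toFinset_card' (dadeSet M), div_eq_inv_mul]
    congr 2
    congr 1
    ext g
    simp
  rw [← hL, h, Cfsg.classInner]
  simp only [map_one, mul_one]
  have hsplit : ∀ x : M, f x = (if x ∈ kd M then f x else 0) + (if x ∈ kd M then 0 else f x) :=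
    fun x => by split_ifs <;> simp
  rw [Finset.sum_congr rfl fun x _ => hsplit x, Finset.sum_add_distrib, mul_add, c.semi.sum_off hfc]
  congr 1
  · have e : ∀ x : M, (if x ∈ kd M then f x else 0) =
        (if x ∈ kd M then 1 else 0) - if x = 1 then 1 else 0 := fun x => by
      by_cases hx : x = 1
      · subst hx
        rw [if_pos (one_mem _), if_pos (one_mem _), if_pos rfl, sub_self, hf]
        exact if_neg fun h => (TypeA.typeA0_ne_one c.hG c.hM h).2 rfl
      · rw [if_neg hx, sub_zero]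
        by_cases hk : x ∈ kd M
        · rw [if_pos hk, if_pos hk, hf]; exact if_pos (c.kd_mem_A0 hk hx)
        · rw [if_neg hk, if_neg hk]
    rw [Finset.sum_congr rfl fun x _ => e x, Finset.sum_sub_distrib, Finset.sum_boole,
      Finset.sum_ite_eq', if_pos (Finset.mem_univ _), ← Fintype.card_subtype,
      ← Nat.card_eq_fintype_card, div_eq_inv_mul]
  · have S := c.semi.split
    let E := CyclicTI.prodIso S
    conv_lhs => arg 2; rw [← Equiv.sum_comp E.toEquiv]
    have e : ∀ p : ka M K × kb M K, (if ((E p : ↥(ka M K ⊔ kb M K)) : M) ∈ kb M K then 0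
        else f (E p : ↥(ka M K ⊔ kb M K))) =
        (if p.1 = 1 then (0 : ℂ) else 1) * (if p.2 = 1 then 0 else 1) := by
      intro p
      have h1 : ((E p : ↥(ka M K ⊔ kb M K)) : M) ∈ kb M K ↔ p.1 = 1 := by
        rw [← CyclicTI.proj1_eq_one_iff S,
          show CyclicTI.proj1 S (E p) = p.1 from congrArg Prod.fst (E.symm_apply_apply p)]
      have h2 : ((E p : ↥(ka M K ⊔ kb M K)) : M) ∈ ka M K ↔ p.2 = 1 := by
        rw [← CyclicTI.proj2_eq_one_iff S,
          show CyclicTI.proj2 S (E p) = p.2 from congrArg Prod.snd (E.symm_apply_apply p)]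
      by_cases hp1 : p.1 = 1
      · rw [if_pos (h1.2 hp1), if_pos hp1, zero_mul]
      rw [if_neg fun h => hp1 (h1.1 h), if_neg hp1, one_mul, hf]
      by_cases hp2 : p.2 = 1
      · rw [if_pos hp2]
        refine if_neg ?_
        simpa using c.not_mem_A0 1 (h2.2 hp2)
      · rw [if_neg hp2]
        exact if_pos (c.outer_mem_A0 (fun h => hp2 (h2.1 h)) (fun h => hp1 (h1.1 h)))
    have e' : ∀ p : ka M K × kb M K, (if ((E.toEquiv p : ↥(ka M K ⊔ kb M K)) : M) ∈ kb M K then 0
        else f (E.toEquiv p : ↥(ka M K ⊔ kb M K))) =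
        (if p.1 = 1 then (0 : ℂ) else 1) * (if p.2 = 1 then 0 else 1) := e
    rw [Finset.sum_congr rfl (fun p _ => e' p), Fintype.sum_prod_type]
    rw [show (∑ x : ka M K, ∑ y : kb M K, (if x = 1 then (0 : ℂ) else 1) * if y = 1 then 0 else 1) =
        (∑ x : ka M K, if x = 1 then (0 : ℂ) else 1) * ∑ y : kb M K, if y = 1 then (0 : ℂ) else 1 from
      (Finset.sum_mul_sum _ _ _ _).symm]
    have cnt : ∀ (X : Subgroup M) [Fintype X], ∑ x : X, (if x = 1 then (0 : ℂ) else 1) =
        (Nat.card X : ℂ) - 1 := fun X _ => by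
      rw [show (fun x : X => if x = 1 then (0 : ℂ) else 1) = fun x => 1 - if x = 1 then 1 else 0 from
        funext fun x => by split_ifs <;> simp, Finset.sum_sub_distrib, Finset.sum_ite_eq',
        if_pos (Finset.mem_univ _), Finset.sum_const, Finset.card_univ, Nat.card_eq_fintype_card,
        nsmul_one]
    rw [cnt, cnt, ← Nat.card_congr E.toEquiv, Nat.card_prod, c.card_ka, c.card_kb, Nat.cast_mul,
      div_eq_inv_mul]

/-- Many elements outside the Dade support have order prime to `|W₁|`. -/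
theorem exists_good :
    ∃ T : Finset G, (∀ g ∈ T, g ≠ 1 ∧ g ∉ dadeSet M ∧ Nat.Coprime (orderOf g) (Nat.card K)) ∧
      (Nat.card G : ℝ) / (Nat.card M : ℝ) - 1 +
        5 * (Nat.card G : ℝ) / (9 * (Nat.card K : ℝ) * (Nat.card (wTwo M K) : ℝ)) ≤ (T.card : ℝ) := by
  obtain ⟨S, V, hS, hV, hDne, hV1, hKD⟩ := c.exists_partner
  have hG := c.hG
  set Q := Cfsg.sigmaCore S with hQ
  have hKQ : K ≤ Q := hKD ▸ inf_le_left
  have hII : Cfsg.IsOfTypeII S := (Types.typeII_iff hG hS hV).2 ⟨hDne, hV1⟩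
  obtain ⟨-, -, hTI1, hN1⟩ := S1538.result hG S hS hII
  rw [TypeA.typeA1_eq hG hS] at hTI1 hN1
  have hcent : ∀ x ∈ Q, x ≠ 1 → Subgroup.centralizer ({x} : Set G) ≤ S := by
    intro x hx hx1 z hz
    by_contra hzS
    refine hx1 (hTI1 z (fun h => hzS (hN1 ▸ h)) x ⟨hx, hx1⟩ ?_)
    rw [Subgroup.mem_centralizer_singleton_iff.1 hz, mul_inv_cancel_right]
    exact ⟨hx, hx1⟩
  have hsemi := semi_of hG hS hV hDne
  set A := smallA S
  have hcd := Types.compl_derived hG hS hV hDne
  have hS' := (S1365.result hG S hS _ V hV hDne).1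
  have hAinv : ∀ s ∈ S, ∀ a ∈ A, s * a * s⁻¹ ∈ A := by
    rintro s hs a ⟨ha, ha1, y, hy, hy1, hay⟩
    refine ⟨(Subgroup.mem_normalizer_iff.1 (Subgroup.normalizer_commutator_ge_left S S hs) a).1 ha,
      fun e => ha1 (conj_eq_one_iff.1 e), s * y * s⁻¹,
      (Subgroup.mem_normalizer_iff.1 (le_normalizer_sigmaCore S hs) y).1 hy,
      fun e => hy1 (conj_eq_one_iff.1 e), ?_⟩
    calc s * a * s⁻¹ * (s * y * s⁻¹) = s * (a * y) * s⁻¹ := by group
      _ = s * (y * a) * s⁻¹ := by rw [hay]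
      _ = _ := by group
  refine ⟨Finset.univ.filter fun g => g ≠ 1 ∧ g ∉ dadeSet M ∧ g ∉ conjSet A, fun g hg => ?_, ?_⟩
  · simp only [Finset.mem_filter, Finset.mem_univ, true_and] at hg
    obtain ⟨hg1, hgP, hgB⟩ := hg
    refine ⟨hg1, hgP, Nat.coprime_of_dvd fun r hr h1 h2 => ?_⟩
    haveI := Fact.mk hr
    have hrσ : r ∈ Cfsg.sigma S := mem_sigma_of_dvd hr (h2.trans (Subgroup.card_dvd_of_le hKQ))
    set x := g ^ (orderOf g / r) with hx
    have hxo : orderOf x = r := orderOf_pow_orderOf_div (orderOf_pos g).ne' h1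
    have hxg : IsPGroup r (Subgroup.zpowers x) :=
      IsPGroup.of_card (n := 1) (by rw [Nat.card_zpowers, hxo, pow_one])
    obtain ⟨t, ht⟩ := Sigma.exists_conj_le hrσ hxg
    have htx : t * x * t⁻¹ ∈ S := ht ⟨x, Subgroup.mem_zpowers x, rfl⟩
    have htQ : t * x * t⁻¹ ∈ Q := Pairing.mem_sigmaCore_of_primes hG hS htx fun s hs hd => by
      rw [← MulAut.conj_apply, MulEquiv.orderOf_eq, hxo] at hd
      exact (Nat.prime_dvd_prime_iff_eq hs hr).1 hd ▸ hrσ
    have hne : t * x * t⁻¹ ≠ 1 := fun e =>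
      hr.ne_one (by rw [← hxo, orderOf_eq_one_iff.2 (conj_eq_one_iff.1 e)])
    have hcomm : Commute (t * g * t⁻¹) (t * x * t⁻¹) := by
      have := ((Commute.refl g).pow_right (orderOf g / r)).map (MulAut.conj t).toMonoidHom
      exact this
    have hgS : t * g * t⁻¹ ∈ S := hcent _ htQ hne (Subgroup.mem_centralizer_singleton_iff.2 hcomm.eq)
    by_cases hd : t * g * t⁻¹ ∈ ⁅S, S⁆
    · exact hgB ⟨t⁻¹, t * g * t⁻¹, ⟨hd, fun e => hg1 (conj_eq_one_iff.1 e), _, htQ, hne, hcomm.eq⟩,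
        by group⟩
    have hnk : (⟨_, hgS⟩ : S) ∉ kd S := fun h => hd (by
      rw [← Subgroup.map_subtype_commutator]; exact Subgroup.mem_map_of_mem _ h)
    obtain ⟨s, v, hv2, he⟩ := hsemi.exists_conj hnk
    have hvG : ((v : S) : G) = ((s : G)⁻¹ * t) * g * ((s : G)⁻¹ * t)⁻¹ := by
      have := congrArg Subtype.val he
      simp only [Subgroup.coe_mul, Subgroup.coe_inv] at this
      calc ((v : S) : G) = (s : G)⁻¹ * ((s : G) * ((v : S) : G) * (s : G)⁻¹) * s := by group
        _ = (s : G)⁻¹ * (t * g * t⁻¹) * s := by rw [← this]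
        _ = _ := by group
    by_cases hv1 : (v : S) ∈ (wTwo M K).subgroupOf S
    · have hord : orderOf g ∣ Nat.card (wTwo M K) := by
        rw [← MulEquiv.orderOf_eq (MulAut.conj ((s : G)⁻¹ * t)) g, MulAut.conj_apply, ← hvG]
        exact Subgroup.orderOf_dvd_natCard _ hv1
      have hco := c.semi.coprime12
      rw [c.card_ka, c.card_kb] at hco
      exact hr.ne_one (Nat.eq_one_of_dvd_coprimes hco h2 (h1.trans hord))
    · refine hgP ⟨((v : S) : G), ?_, ?_⟩
      · have hvW : ((v : S) : G) ∈ wTwo M K ⊔ K := by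
          have h : (v : S) ∈ (wTwo M K ⊔ wTwo S (wTwo M K)).subgroupOf S :=
            (Subgroup.subgroupOf_sup hV.hall.1 (inf_le_left.trans (sigmaCore_le S))).ge v.2
          exact (sup_le le_sup_left (hKD.le.trans le_sup_right) :
            wTwo M K ⊔ wTwo S (wTwo M K) ≤ wTwo M K ⊔ K) h
        rw [sup_comm] at hvW
        have hm : ((v : S) : G) ∈ M := sup_le c.K_le c.wTwo_le hvW
        exact c.outer_mem_A0 (v := ⟨⟨_, hm⟩, c.sup_subgroupOf.ge hvW⟩)
          (fun h => hv2 (show ((v : S) : G) ∈ wTwo S (wTwo M K) from hKD.ge h)) hv1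
      · exact Dade.mem_coset.mpr ⟨1, one_mem _, (s : G)⁻¹ * t, by rw [mul_one, hvG]⟩
  · -- the count
    set R := Nat.card {u : V // (u : G) ∉ Cfsg.sigmaHat S} with hR
    have hreg := regular_card hG hS hV hDne hV1
    rw [hKD, ← hR] at hreg
    have hUQ : V ⊓ Q = ⊥ := le_bot_iff.1 ((inf_le_inf_left V le_sup_right).trans hV.compl.2.2.1.le)
    have hVn : V ≤ Subgroup.normalizer (Q : Set G) := hV.compl.1.trans (le_normalizer_sigmaCore S)
    have hcompl : Cfsg.IsComplIn Q V ⁅S, S⁆ := by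
      rw [hS']
      exact ⟨le_sup_right, le_sup_left, inf_comm V Q ▸ hUQ, fun m hm =>
        (SolvBasic.mem_sup_iff_of_le_normalizer hVn).1 ((sup_comm V _).le hm)⟩
    set good : Set G := Set.range fun p : Q × {u : V // (u : G) ∉ Cfsg.sigmaHat S} =>
      (p.1 : G) * ((p.2 : V) : G) * (p.1 : G)⁻¹ with hgood
    have hinj : Function.Injective fun p : Q × {u : V // (u : G) ∉ Cfsg.sigmaHat S} =>
        (p.1 : G) * ((p.2 : V) : G) * (p.1 : G)⁻¹ := by
      rintro ⟨y, u⟩ ⟨y', u'⟩ e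
      simp only at e
      have hz : ((y' : G)⁻¹ * y) * ((u : V) : G) * ((y' : G)⁻¹ * y)⁻¹ = ((u' : V) : G) := by
        calc ((y' : G)⁻¹ * y) * ((u : V) : G) * ((y' : G)⁻¹ * y)⁻¹
            = (y' : G)⁻¹ * ((y : G) * ((u : V) : G) * (y : G)⁻¹) * y' := by group
          _ = (y' : G)⁻¹ * ((y' : G) * ((u' : V) : G) * (y' : G)⁻¹) * y' := by rw [e]
          _ = _ := by group
      set z := (y' : G)⁻¹ * y with hzdef
      have hzQ : z ∈ Q := Q.mul_mem (Q.inv_mem y'.2) y.2
      have huu : ((u : V) : G) = ((u' : V) : G) := by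
        have h1 : ((u : V) : G)⁻¹ * ((u' : V) : G) ∈ V ⊓ Q := by
          refine ⟨V.mul_mem (V.inv_mem (u : V).2) (u' : V).2, ?_⟩
          rw [← hz]
          have h2 : ((u : V) : G)⁻¹ * z * ((u : V) : G) ∈ Q := by
            simpa using (Subgroup.mem_normalizer_iff.1 (hVn (V.inv_mem (u : V).2)) z).1 hzQ
          have h3 := Q.mul_mem h2 (Q.inv_mem hzQ)
          simpa [mul_assoc] using h3
        rw [hUQ, Subgroup.mem_bot, inv_mul_eq_one] at h1
        exact h1
      have hu : u = u' := Subtype.ext (Subtype.ext huu)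
      subst hu
      have hzc : ((u : V) : G) * z = z * ((u : V) : G) := by
        conv_lhs => arg 1; rw [← hz]
        group
      have hz1 : z = 1 := by
        by_contra hne
        exact u.2 ⟨hV.compl.1 (u : V).2, z, hzQ, hne, hzc⟩
      rw [hzdef, inv_mul_eq_one] at hz1
      rw [show y' = y from Subtype.ext hz1]
    have hdisj : Disjoint A (insert 1 good) := by
      rw [Set.disjoint_left]
      rintro a ⟨-, ha1, x, hx, hx1, hax⟩ (ha | ⟨⟨y, u⟩, rfl⟩)
      · exact ha1 ha
      · refine u.2 ⟨hV.compl.1 (u : V).2, (y : G)⁻¹ * x * y, Q.mul_mem (Q.mul_mem (Q.inv_mem y.2) hx) y.2,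
          fun e => hx1 ?_, ?_⟩
        · calc x = (y : G) * ((y : G)⁻¹ * x * y) * (y : G)⁻¹ := by group
            _ = 1 := by rw [e]; group
        · calc ((u : V) : G) * ((y : G)⁻¹ * x * y)
              = (y : G)⁻¹ * ((y : G) * ((u : V) : G) * (y : G)⁻¹ * x) * y := by group
            _ = (y : G)⁻¹ * (x * ((y : G) * ((u : V) : G) * (y : G)⁻¹)) * y := by rw [hax]
            _ = _ := by group
    have hone : (1 : G) ∉ good := by
      rintro ⟨⟨y, u⟩, e⟩
      obtain ⟨z, hz, hz1⟩ := (Subgroup.bot_or_exists_ne_one Q).resolve_left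
        (Kappa.sigmaCore_ne_bot hG hS)
      exact u.2 ⟨hV.compl.1 (u : V).2, z, hz, hz1, by rw [conj_eq_one_iff.1 e, one_mul, mul_one]⟩
    have hsub : A ∪ insert 1 good ⊆ ((⁅S, S⁆ : Subgroup G) : Set G) := by
      rintro a (⟨ha, -, -⟩ | rfl | ⟨⟨y, u⟩, rfl⟩)
      · exact ha
      · exact one_mem _
      · exact (⁅S, S⁆).mul_mem ((⁅S, S⁆).mul_mem (hcompl.1 y.2) (hcompl.2.1 (u : V).2))
          ((⁅S, S⁆).inv_mem (hcompl.1 y.2))
    have hA : A.ncard + (Nat.card Q * R + 1) ≤ Nat.card Q * Nat.card V := by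
      have h := Set.ncard_le_ncard hsub (Set.toFinite _)
      rw [Set.ncard_union_eq hdisj, Set.ncard_insert_of_notMem hone, hgood,
        Set.ncard_range_of_injective hinj, Nat.card_prod] at h
      refine h.trans_eq ?_
      rw [← Nat.card_coe_set_eq]
      exact Compl.card_eq hcompl
    have hcardS : Nat.card S = Nat.card Q * Nat.card V * Nat.card (wTwo M K) := by
      rw [Compl.card_eq hcd, Compl.card_eq hcompl]
    have hB := ncard_conjSet_le S hAinv
    rw [hcardS] at hB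
    have hP := c.ncard_dadeSet
    set Tset := Finset.univ.filter fun g => g ≠ 1 ∧ g ∉ dadeSet M ∧ g ∉ conjSet A
    have hcount : Nat.card G ≤ Tset.card + 1 + (dadeSet M).ncard + (conjSet A).ncard := by
      have hu : (Set.univ : Set G) ⊆ (((Tset : Set G) ∪ {1}) ∪ dadeSet M) ∪ conjSet A := by
        intro g _
        simp only [Set.mem_union, Finset.mem_coe, Tset, Finset.mem_filter, Finset.mem_univ, true_and,
          Set.mem_singleton_iff]
        tauto
      have h := Set.ncard_le_ncard hu (Set.toFinite _)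
      rw [Set.ncard_univ] at h
      refine h.trans ?_
      refine (Set.ncard_union_le _ _).trans (Nat.add_le_add_right ?_ _)
      refine (Set.ncard_union_le _ _).trans (Nat.add_le_add_right ?_ _)
      refine (Set.ncard_union_le _ _).trans ?_
      rw [Set.ncard_coe_finset, Set.ncard_singleton]
    have hMc := c.card_eq
    set g₀ : ℝ := (Nat.card G : ℝ) with hg₀
    set k : ℝ := (Nat.card K : ℝ) with hk
    set w : ℝ := (Nat.card (wTwo M K) : ℝ) with hw
    set q : ℝ := (Nat.card Q : ℝ) with hq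
    set v : ℝ := (Nat.card V : ℝ) with hv
    set p : ℝ := ((dadeSet M).ncard : ℝ) with hp
    set b : ℝ := ((conjSet A).ncard : ℝ) with hb
    set hh : ℝ := (Nat.card (kd M) : ℝ) with hhh
    have hk0 : 0 < k := Nat.cast_pos.2 Nat.card_pos
    have hw0 : 0 < w := Nat.cast_pos.2 Nat.card_pos
    have hq0 : 0 < q := Nat.cast_pos.2 Nat.card_pos
    have hv0 : 0 < v := Nat.cast_pos.2 Nat.card_pos
    have hg0 : 0 < g₀ := Nat.cast_pos.2 Nat.card_pos
    have hh0 : 0 < hh := Nat.cast_pos.2 Nat.card_pos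
    have hMR : (Nat.card M : ℝ) = hh * k := by rw [hMc, Nat.cast_mul]
    have hP' : p / g₀ = (hh - 1) / (hh * k) + (k - 1) * (w - 1) / (k * w) := by
      have h := congrArg Complex.re hP
      rw [← hMR]
      simp only [hp, hg₀, hhh, hk, hw]
      rw [← Complex.ofReal_inj]
      push_cast
      exact hP
    have hA' : (A.ncard : ℝ) + (q * (R : ℝ) + 1) ≤ q * v := by
      simp only [hq, hv]; exact_mod_cast hA
    have hB' : b * (q * v * w) ≤ g₀ * (A.ncard : ℝ) := by
      simp only [hb, hq, hv, hw, hg₀]; exact_mod_cast hB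
    have hreg' : 14 * v ≤ 9 * k * (R : ℝ) := by
      simp only [hv, hk]; exact_mod_cast hreg
    have hcount' : g₀ ≤ (Tset.card : ℝ) + 1 + p + b := by
      simp only [hg₀, hp, hb]; exact_mod_cast hcount
    have hbb : b ≤ g₀ * (1 / w - 14 / (9 * k * w)) := by
      have h1 : b * (q * v * w) ≤ g₀ * (q * v - q * (14 * v / (9 * k))) := by
        refine hB'.trans (mul_le_mul_of_nonneg_left ?_ hg0.le)
        have h2 : 14 * v / (9 * k) ≤ (R : ℝ) := by
          rw [div_le_iff₀ (by positivity)]; linarith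
        nlinarith [mul_le_mul_of_nonneg_left h2 hq0.le]
      have h3 : g₀ * (q * v - q * (14 * v / (9 * k))) =
          g₀ * (1 / w - 14 / (9 * k * w)) * (q * v * w) := by field_simp
      rw [h3] at h1
      exact le_of_mul_le_mul_right h1 (by positivity)
    have hpp : p = g₀ * ((hh - 1) / (hh * k) + (k - 1) * (w - 1) / (k * w)) := by
      rw [← hP']; field_simp
    have key : g₀ / (hh * k) - 1 + 5 * g₀ / (9 * k * w) =
        g₀ - 1 - g₀ * ((hh - 1) / (hh * k) + (k - 1) * (w - 1) / (k * w)) -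
          g₀ * (1 / w - 14 / (9 * k * w)) := by
      field_simp; ring
    rw [hMR, key]
    linarith

end Ctx

end Cfsg.Agent.OddChar.P10
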