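import Cfsg.Agent.Lib.OddChar.PF10.Bridge
import Cfsg.Agent.Lib.OddChar.PF10.Count
import Cfsg.Agent.Lib.OddChar.Iface
import Cfsg.Agent.S1525

/-!
# PF 10.8: no coherence in Types III, IV, V
-/

set_option linter.style.haveILetI false
set_option linter.unusedSectionVars false

namespace Cfsg.Agent.OddChar.P10

open Cfsg.Agent.Char
open scoped Classical ComplexConjugate

attribute [local instance] dualFintype

universe u

variable {G : Type u} [Group G] [Fintype G] {M K U : Subgroup G}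

namespace Ctx

variable (c : Ctx M K U)
include c

theorem one_not_mem_dadeSet : (1 : G) ∉ dadeSet M := by
  rintro ⟨a, ha, hg⟩
  obtain ⟨u, hu, x, hx⟩ := Dade.mem_coset.mp hg
  rw [mul_one, mul_inv_cancel] at hx
  have hmem : a ∈ Cfsg.supportR M a ⊓ (M ⊓ Subgroup.centralizer ({a} : Set G)) :=
    ⟨eq_inv_of_mul_eq_one_left hx.symm ▸ (Cfsg.supportR M a).inv_mem hu,
      Dade.mem_CL c.hypothesis ha⟩
  rw [c.hypothesis.inf_eq_bot a ha, Subgroup.mem_bot] at hmem
  exact c.hypothesis.one_not_mem (hmem ▸ ha)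

/-- The average of a class function over the cosets `a * R(a)`. -/
noncomputable def rho (_c : Ctx M K U) (χ : G → ℂ) (a : M) : ℂ :=
  if (a : G) ∈ Cfsg.typeA0 M then (Nat.card (Cfsg.supportR M (a : G)) : ℂ)⁻¹ *
    ∑ u ∈ Dade.fin (Cfsg.supportR M (a : G)), χ (a * u) else 0

theorem rho_class {χ : G → ℂ} (hχ : Cfsg.IsClassFunction G χ) :
    Cfsg.IsClassFunction M (c.rho χ) := by
  intro a t
  by_cases ha : (a : G) ∈ Cfsg.typeA0 M
  · have ht : ((t * a * t⁻¹ : M) : G) = (t : G) * a * (t : G)⁻¹ := by simp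
    have hta : ((t * a * t⁻¹ : M) : G) ∈ Cfsg.typeA0 M := by
      rw [ht]; exact OddOrder.TypeA.typeA0_conj c.hG c.hM t.2 ha
    rw [rho, rho, if_pos ha, if_pos hta, ht, Dade.map_conj_H c.hypothesis ha t.2]
    congr 1
    · rw [Subgroup.card_map_of_injective (MulAut.conj (t : G)).injective]
    · refine (Finset.sum_nbij (fun u => (t : G) * u * (t : G)⁻¹) ?_ ?_ ?_ ?_).symm
      · intro u hu
        rw [Dade.mem_fin] at hu ⊢
        exact ⟨u, hu, rfl⟩
      · intro u _ v _ e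
        simpa using e
      · intro v hv
        obtain ⟨u, hu, rfl⟩ := Dade.mem_fin.mp hv
        exact ⟨u, Dade.mem_fin.mpr hu, rfl⟩
      · intro u _
        rw [show (t : G) * a * (t : G)⁻¹ * ((t : G) * u * (t : G)⁻¹) = t * (a * u) * (t : G)⁻¹ by group,
          hχ]
  · have hta : ((t * a * t⁻¹ : M) : G) ∉ Cfsg.typeA0 M := fun h => ha (by
      have := OddOrder.TypeA.typeA0_conj c.hG c.hM (M.inv_mem t.2) h
      simpa [mul_assoc] using this)
    rw [rho, rho, if_neg ha, if_neg hta]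

end Ctx

namespace Coh

variable {c : Ctx M K U} [Fintype M] {ζ : M → ℂ} (F : Fam c)
include F

theorem alpha_coeff_full (h : Coh c (calS M) ζ) (ω : Chr M K) (hI : I0 ω) (hJ : ¬ J0 ω) (n : ℤ)
    (hn : 2 ≤ n) (hd : F.μ ω 1 = (F.δ ω : ℂ) + (n : ℂ) * (Nat.card K : ℂ)) (f : ka M K →* ℂˣ) :
    Cfsg.classInner (tau M (F.alpha ζ ω n f)) h.u = -(n : ℂ) := by
  obtain ⟨d, hd1, -⟩ := F.μ_deg_nat hJ
  have hm := F.mus_mem (not_J0_inv hJ)
  have hne : F.mus ω⁻¹ ≠ ζ := fun e => F.mus_not_irr ω⁻¹ (e.symm ▸ h.irr)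
  refine h.alpha_coeff F hI hn hd hJ f {ζ, F.mus ω⁻¹} (fun φ hφ => ?_) (by simp)
    (fun φ => if φ = ζ then 1 else d) (fun φ hφ => ?_) (fun φ hφ hne' => ?_) ?_
  · rcases Finset.mem_insert.mp hφ with rfl | hφ
    · exact h.mem
    · rw [Finset.mem_singleton.mp hφ]; exact hm
  · rcases Finset.mem_insert.mp hφ with rfl | hφ
    · simp [h.deg]
    · rw [Finset.mem_singleton.mp hφ, if_neg hne, F.mus_on _ (one_mem _), F.μ_inv_one, hd1, mul_comm]
  · rcases Finset.mem_insert.mp hφ with rfl | hφ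
    · exact absurd rfl hne'
    · rw [Finset.mem_singleton.mp hφ]
      have h' : ∀ w, Cfsg.classInner (F.μ w) (F.mus ω⁻¹) =
          conj (if (∃ f, row c ω⁻¹ f = w) then (1 : ℂ) else 0) := fun w => by
        rw [← classInner_conj_symm, F.mus_inner_μ]
      have n1 : ¬ ∃ f', row c ω⁻¹ f' = row c ω f := fun ⟨f', e⟩ => Fam.row_ne (c := c) hJ f f' e.symm
      have n2 : ¬ ∃ f', row c ω⁻¹ f' = row c 1 f := fun ⟨f', e⟩ =>
        (J0_row_iff c ω⁻¹ f').not.mpr (not_J0_inv hJ) (e ▸ Fam.row_one_J0 (c := c) f)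
      have hz : Cfsg.classInner ζ (F.mus ω⁻¹) = 0 := by
        rw [← classInner_conj_symm, F.mus_inner_irr h.zetaS h.irr, map_zero]
      simp only [Fam.alpha, classInner_sub_left, classInner_smul_left, h', if_neg n1, if_neg n2, hz,
        map_zero, mul_zero, sub_zero]
  · rw [Finset.sum_pair hne.symm, if_pos rfl, if_neg hne, classInner_self_irr h.irr, F.mus_inner_self]
    simp only [Complex.one_re, Complex.natCast_re, Nat.cast_one, one_pow, div_one]
    have hk : (3 : ℝ) ≤ (Nat.card K : ℝ) := by exact_mod_cast c.three_le.1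
    have hn' : (2 : ℝ) ≤ (n : ℝ) := by exact_mod_cast hn
    have hs := Int.eq_one_or_neg_one_of_mul_eq_one (F.δ_sq ω)
    have hdd : (n : ℝ) * (Nat.card K : ℝ) - 1 ≤ (d : ℝ) := by
      have e : (d : ℤ) = F.δ ω + n * Nat.card K := by
        rw [hd1] at hd; exact_mod_cast hd
      have : n * (Nat.card K : ℤ) - 1 ≤ (d : ℤ) := by rcases hs with h | h <;> omega
      exact_mod_cast this
    set k : ℝ := (Nat.card K : ℝ)
    have h6 : (6 : ℝ) ≤ (n : ℝ) * k := by nlinarith
    have h7 : (2 * (n : ℝ) + 1) * k < (d : ℝ) ^ 2 := by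
      have := mul_le_mul hdd hdd (by linarith) (by positivity)
      nlinarith [mul_le_mul_of_nonneg_left (show (2 : ℝ) ≤ (n : ℝ) * k - 4 by linarith)
        (show (0 : ℝ) ≤ (n : ℝ) * k by linarith)]
    have := (lt_div_iff₀ (show (0 : ℝ) < k by linarith)).mpr h7
    linarith

theorem psi_coeff_full (h : Coh c (calS M) ζ) :
    Cfsg.classInner (tau M (F.psi ζ)) h.u = -1 := by
  haveI := c.semi.comm1
  haveI := c.semi.comm2
  obtain ⟨g, hg⟩ : ∃ g : kb M K →* ℂˣ, g ≠ 1 := by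
    by_contra hne
    push Not at hne
    have : Fintype.card (kb M K →* ℂˣ) ≤ 1 :=
      Fintype.card_le_one_iff.mpr fun a b => (hne a).trans (hne b).symm
    rw [← Nat.card_eq_fintype_card, CyclicTI.card_hom, c.card_kb] at this
    have := c.three_le.2
    omega
  set ω := CyclicTI.pull2 c.semi.split g
  have hI : I0 ω := Fam.pull2_I0 c g
  have hJ : ¬ J0 ω := Fam.pull2_not_J0 c hg
  obtain ⟨d, hd1, -, n, hn, hdn⟩ := F.μ_deg_nat hJ
  have hd : F.μ ω 1 = (F.δ ω : ℂ) + (n : ℂ) * (Nat.card K : ℂ) := by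
    rw [hd1]; exact_mod_cast hdn
  have hζ := h.zetaS
  have hm := F.mus_mem hJ
  have hdeg : F.mus ω 1 = (d : ℂ) * (Nat.card K : ℂ) := by
    rw [F.mus_on _ (one_mem _), hd1, mul_comm]
  have hcard : ((Finset.univ : Finset (ka M K →* ℂˣ)).card : ℂ) = (Nat.card K : ℂ) := by
    rw [Finset.card_univ, ← Nat.card_eq_fintype_card, CyclicTI.card_hom, c.card_ka]
  have e : F.mus ω - (d : ℂ) • ζ = (∑ f, F.alpha ζ ω n f) + (F.δ ω : ℂ) • F.psi ζ := by
    rw [← hd1]
    simp only [Fam.alpha, Fam.psi, Finset.sum_sub_distrib, Finset.sum_const, ← Finset.smul_sum,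
      smul_sub, hd, ← Nat.cast_smul_eq_nsmul ℂ, hcard, add_smul, smul_smul, mul_comm (n : ℂ)]
    rw [show F.mus ω = ∑ f, F.μ (row c ω f) from rfl, show F.mus 1 = ∑ f, F.μ (row c 1 f) from rfl]
    abel
  have hz : F.mus ω - ((d : ℕ) : ℤ) • ζ ∈ Cfsg.zspanOn (calS M) ({1}ᶜ : Set M) :=
    Coherence.mem_zspanOn_one.mpr ⟨Submodule.sub_mem _ (Submodule.subset_span hm)
      (Submodule.smul_mem _ _ (Submodule.subset_span h.mem)), by simp [h.deg, hdeg]⟩
  have hin : Cfsg.classInner (tau M (F.mus ω - ((d : ℕ) : ℤ) • ζ)) h.u = -(d : ℂ) := by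
    rw [← h.agree _ hz, Coh.u, Coherence.iso_inner (M := Submodule.span ℤ (calS M)) h.iso hz.1
      (Submodule.subset_span h.mem), classInner_sub_left, Coherence.classInner_zsmul_left,
      F.mus_inner_irr hζ h.irr, classInner_self_irr h.irr]
    simp
  rw [Nat.cast_smul_eq_nsmul, ← Nat.cast_smul_eq_nsmul ℂ, e, tau_add, tau_sum, tau_smul,
    classInner_add_left, classInner_sum_left, classInner_smul_left,
    Finset.sum_congr rfl fun f _ => h.alpha_coeff_full F ω hI hJ n hn hd f, Finset.sum_const,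
    nsmul_eq_mul, hcard] at hin
  have hd' : (d : ℂ) = (F.δ ω : ℂ) + (n : ℂ) * (Nat.card K : ℂ) := hd1 ▸ hd
  have hs : (F.δ ω : ℂ) * (F.δ ω : ℂ) = 1 := by exact_mod_cast F.δ_sq ω
  linear_combination (F.δ ω : ℂ) * hin - (F.δ ω : ℂ) * hd' -
    (Cfsg.classInner (tau M (F.psi ζ)) h.u + 1) * hs

/-- The average of `u` agrees with `ζ` on the non-identity elements of the derived subgroup. -/
theorem rho_eq (h : Coh c (calS M) ζ) {a : M} (ha : a ∈ kd M) (ha1 : a ≠ 1) :
    c.rho h.u a = ζ a := by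
  haveI : Fintype (kd M) := Fintype.ofFinite _
  have hζ := h.zetaS
  set φ : M → ℂ := fun x => if x ∈ kd M ∧ x ≠ 1 then c.rho h.u x - ζ x else 0 with hφ
  have hφc : Cfsg.IsClassFunction M φ := fun x t => by
    simp only [hφ]
    refine if_congr ?_ ?_ rfl
    · exact and_congr ⟨fun h' => by simpa [mul_assoc] using (inferInstance : (kd M).Normal).conj_mem _ h' t⁻¹,
        fun h' => (inferInstance : (kd M).Normal).conj_mem x h' t⟩ (not_congr conj_eq_one_iff)
    · rw [c.rho_class h.u_class x t, (calS_off hζ).2 x t]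
  have key : ∀ θ : Cfsg.IrrCharacter (kd M), Cfsg.classInner (θ : kd M → ℂ) (fun k : kd M => φ k) =
      (θ : kd M → ℂ) 1 * Cfsg.classInner ζ φ := by
    intro θ
    set β := Cfsg.indFun (kd M) (θ : kd M → ℂ) - (θ : kd M → ℂ) 1 • ζ with hβ
    have hind1 : Cfsg.indFun (kd M) (θ : kd M → ℂ) 1 = (Nat.card K : ℂ) * (θ : kd M → ℂ) 1 := by
      rw [indFun_one_apply, c.semi.index_eq, c.card_ka]
    have hβ1 : β 1 = 0 := by simp [hβ, h.deg, hind1, mul_comm]
    have hβo : ∀ x, x ∉ kd M → β x = 0 := fun x hx => by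
      simp [hβ, indFun_eq_zero_of_not_mem _ _ hx, (calS_off hζ).1 x hx]
    have hβc : Cfsg.IsClassFunction M β := fun x t => by
      simp [hβ, isClassFunction_indFun (kd M) (θ : kd M → ℂ) x t, (calS_off hζ).2 x t]
    have hβs : Supp β := c.supp_of_kd hβo hβ1
    have hrho : Cfsg.classInner (tau M β) h.u = Cfsg.classInner β (c.rho h.u) :=
      c.tau_avg hβc hβs h.u_class fun x hx => if_pos hx
    have hzeta : Cfsg.classInner (tau M β) h.u = Cfsg.classInner β ζ := by
      by_cases hθ : (θ : kd M → ℂ) = fun _ => 1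
      · have e : β = F.psi ζ := by
          rw [hβ, hθ, Fam.psi, F.mus_eq_ind 1, one_smul]
          congr 2
          funext k
          rw [(F.μ_triv 1 fun _ _ => MonoidHom.one_apply _).2]
          simp
        rw [e, h.psi_coeff_full F, F.psi_inner_zeta hζ h.irr]
      · have hm : Cfsg.indFun (kd M) (θ : kd M → ℂ) ∈ calS M :=
          ⟨θ, θ.2, hθ, fun x hx => by
            rw [Subgroup.mem_bot] at hx
            rw [show x = 1 from Subtype.ext hx], rfl⟩
        obtain ⟨d, -, hd⟩ := IsIrrCharacter.exists_degree θ.2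
        have hz : β ∈ Cfsg.zspanOn (calS M) ({1}ᶜ : Set M) :=
          Coherence.mem_zspanOn_one.mpr ⟨Submodule.sub_mem _ (Submodule.subset_span hm) (by
            rw [hd, Nat.cast_smul_eq_nsmul]
            exact Submodule.smul_of_tower_mem _ _ (Submodule.subset_span h.mem)), hβ1⟩
        rw [← h.agree _ hz]
        exact Coherence.iso_inner (M := Submodule.span ℤ (calS M)) h.iso hz.1
          (Submodule.subset_span h.mem)
    have h0 : Cfsg.classInner β φ = 0 := by
      have e : Cfsg.classInner β φ = Cfsg.classInner β (c.rho h.u - ζ) := by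
        simp only [Cfsg.classInner]
        congr 1
        refine Finset.sum_congr rfl fun x _ => ?_
        by_cases hx : x ∈ kd M ∧ x ≠ 1
        · simp only [hφ, if_pos hx, Pi.sub_apply]
        · rcases not_and_or.mp hx with h' | h'
          · simp [hβo x h']
          · push Not at h'
            simp [h', hβ1]
      rw [e, classInner_sub_right, ← hrho, hzeta, sub_self]
    rw [hβ, classInner_sub_left, classInner_smul_left, sub_eq_zero, classInner_indFun_left _ _ hφc] at h0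
    exact h0
  have hres : Cfsg.IsClassFunction (kd M) (fun k : kd M => φ k) := fun x t => by
    simpa using hφc (x : M) (t : M)
  have hval := congrFun (classFunction_eq_sum hres) ⟨a, ha⟩
  rw [Finset.sum_apply, Finset.sum_congr rfl (g := fun θ : Cfsg.IrrCharacter (kd M) =>
    conj (Cfsg.classInner ζ φ) * ((θ : kd M → ℂ) ⟨a, ha⟩ * conj ((θ : kd M → ℂ) 1))) fun θ _ => by
      rw [Pi.smul_apply, smul_eq_mul, ← classInner_conj_symm, key θ, map_mul]; ring,
    ← Finset.mul_sum, column_orth_of_not_isConj fun hc => ha1 (congrArg Subtype.val (isConj_one_left.mp hc)),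
    mul_zero] at hval
  simp only [hφ, if_pos (show a ∈ kd M ∧ a ≠ 1 from ⟨ha, ha1⟩), sub_eq_zero] at hval
  exact hval

/-- The values of `u` at elements off the Dade support of order prime to `|W₁|` are not zero. -/
theorem one_le_u (h : Coh c (calS M) ζ) {g : G} (hg : g ∉ dadeSet M)
    (hco : Nat.Coprime (orderOf g) (Nat.card K)) : 1 ≤ ‖h.u g‖ ^ 2 := by
  haveI := c.semi.comm1
  have hY := congrFun (h.psi_shape F (fun ω hI hJ n hn hd f => h.alpha_coeff_full F ω hI hJ n hn hd f)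
    (h.psi_coeff_full F)) g
  rw [show tau M (F.psi ζ) g = 0 from
    Dade.dadeIsometry_zero c.hypothesis fun a ha hga => hg ⟨a, ha, hga⟩, Pi.sub_apply,
    Finset.sum_apply, eq_comm, sub_eq_zero] at hY
  choose m hm using fun f : ka M K →* ℂˣ => F.η_int (row c 1 f) (Fam.row_one_J0 (c := c) f) g hco
  have hinv : ∀ f, m f⁻¹ = m f := fun f => by
    refine Int.cast_injective (α := ℂ) ?_
    show ((m f⁻¹ : ℤ) : ℂ) = (m f : ℂ)
    rw [← hm, show row c 1 f⁻¹ = (row c 1 f)⁻¹ from MonoidHom.ext fun w => by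
      simp [row, CyclicTI.pull1], ← F.η_conj, Cfsg.conjFun, hm, map_intCast]
  have h1 : m 1 = 1 := by
    refine Int.cast_injective (α := ℂ) ?_
    show ((m 1 : ℤ) : ℂ) = ((1 : ℤ) : ℂ)
    rw [← hm, show row c 1 1 = 1 from MonoidHom.ext fun w => by simp [row, CyclicTI.pull1], F.η_one,
      Int.cast_one]
  have hfix : ∀ f : ka M K →* ℂˣ, f⁻¹ = f → f = 1 := fun f hf => by
    obtain ⟨j, hj⟩ : Odd (Nat.card (ka M K)) := c.odd_card.of_dvd_nat (Subgroup.card_subgroup_dvd_card _)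
    refine MonoidHom.ext fun x => ?_
    have h2 : f x * f x = 1 := by
      nth_rewrite 1 [← hf]
      rw [MonoidHom.inv_apply, inv_mul_cancel]
    have h3 : f x ^ Nat.card (ka M K) = 1 := by rw [← map_pow, pow_card_eq_one', map_one]
    rw [hj, pow_succ, pow_mul, pow_two, h2, one_pow, one_mul] at h3
    exact h3
  have hodd : ((∑ f, m f : ℤ) : ZMod 2) = 1 := by
    rw [← Finset.add_sum_erase _ _ (Finset.mem_univ (1 : ka M K →* ℂˣ)), h1]
    push_cast
    rw [add_eq_left]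
    refine Finset.sum_involution (fun f _ => f⁻¹) (fun f _ => ?_) (fun f hf _ e => ?_) (fun f hf => ?_)
      (fun f _ => inv_inv f)
    · rw [hinv]; exact CharTwo.add_self_eq_zero _
    · exact Finset.ne_of_mem_erase hf (hfix f e)
    · exact Finset.mem_erase.mpr ⟨fun e => Finset.ne_of_mem_erase hf
        (MonoidHom.ext fun x => by simpa using DFunLike.congr_fun e x), Finset.mem_univ _⟩
  have hne : (∑ f, m f) ≠ 0 := fun e => by rw [e] at hodd; exact absurd hodd (by decide)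
  rw [← hY, Finset.sum_congr rfl fun f _ => hm f, ← Int.cast_sum, Complex.norm_intCast, sq_abs]
  have : (1 : ℤ) ≤ (∑ f, m f) ^ 2 := by
    have := sq_pos_iff.mpr hne
    omega
  exact_mod_cast this

/-- The contradiction. -/
theorem false_of_coherent (h : Coh c (calS M) ζ) : False := by
  haveI : Fintype (kd M) := Fintype.ofFinite _
  obtain ⟨T, hT, hTcard⟩ := c.exists_good
  have hu := h.u_gen
  have hnorm : (Nat.card G : ℝ)⁻¹ * ∑ g : G, ‖h.u g‖ ^ 2 = 1 := by
    have h1 := h.u_norm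
    rw [classInner_self_eq] at h1
    exact_mod_cast h1
  set D := Finset.univ.filter fun g : G => g ∈ dadeSet M with hD
  have hS := S1525.result (Cfsg.typeA0 M) M (Cfsg.supportR M) c.hypothesis h.u h.u_class
    (c.rho h.u) fun a ha => by
      rw [Ctx.rho, if_pos ha]
      congr 1
      rw [finsum_mem_eq_sum_of_inter_support_eq (t := Dade.fin (Cfsg.supportR M (a : G))) _
        (by ext x; simp)]
  rw [show {g : G | ∃ a ∈ Cfsg.typeA0 M, ∃ u ∈ Cfsg.supportR M a, ∃ x : G, x * g * x⁻¹ = a * u} = ↑D by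
    ext g; simp [hD, dadeSet, Dade.mem_coset],
    show {a : M | (a : G) ∈ Cfsg.typeA0 M} =
      ↑(Finset.univ.filter fun a : M => (a : G) ∈ Cfsg.typeA0 M) by ext; simp,
    finsum_mem_coe_finset, finsum_mem_coe_finset] at hS
  set P := Finset.univ.filter fun a : M => a ∈ kd M ∧ a ≠ 1 with hP
  have hlow : ∑ a ∈ P, ‖ζ a‖ ^ 2 ≤
      ∑ a ∈ Finset.univ.filter (fun a : M => (a : G) ∈ Cfsg.typeA0 M), ‖c.rho h.u a‖ ^ 2 := by
    rw [Finset.sum_congr rfl (g := fun a => ‖c.rho h.u a‖ ^ 2) fun a ha => by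
      rw [hP, Finset.mem_filter] at ha
      rw [h.rho_eq F ha.2.1 ha.2.2]]
    refine Finset.sum_le_sum_of_subset_of_nonneg (fun a ha => ?_) fun _ _ _ => sq_nonneg _
    rw [hP, Finset.mem_filter] at ha
    exact Finset.mem_filter.mpr ⟨Finset.mem_univ _, c.kd_mem_A0 ha.2.1 ha.2.2⟩
  set k : ℝ := (Nat.card K : ℝ) with hk
  set w : ℝ := (Nat.card (wTwo M K) : ℝ) with hw
  set hh : ℝ := (Nat.card (kd M) : ℝ) with hhh
  set g₀ : ℝ := (Nat.card G : ℝ) with hg₀
  have hMR : (Nat.card M : ℝ) = hh * k := by rw [c.card_eq, Nat.cast_mul]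
  have hzsum : ∑ a ∈ P, ‖ζ a‖ ^ 2 = hh * k - k ^ 2 := by
    have h1 := classInner_self_irr h.irr
    rw [classInner_self_eq] at h1
    have h1' : (Nat.card M : ℝ)⁻¹ * ∑ a : M, ‖ζ a‖ ^ 2 = 1 := by exact_mod_cast h1
    have hM0 : (Nat.card M : ℝ) ≠ 0 := Nat.cast_ne_zero.mpr Nat.card_pos.ne'
    rw [inv_mul_eq_one₀ hM0, hMR] at h1'
    rw [← Finset.add_sum_erase _ _ (Finset.mem_univ (1 : M)), h.deg, Complex.norm_natCast, ← hk] at h1'
    rw [hP, Finset.sum_subset (s₂ := Finset.univ.erase 1)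
      (fun a ha => by
        rw [Finset.mem_filter] at ha
        exact Finset.mem_erase.mpr ⟨ha.2.2, Finset.mem_univ _⟩)
      (fun a ha hn => by
        have : a ∉ kd M := fun hk' => hn (Finset.mem_filter.mpr
          ⟨Finset.mem_univ _, hk', Finset.ne_of_mem_erase ha⟩)
        rw [(calS_off h.zetaS).1 a this, norm_zero, zero_pow two_ne_zero])]
    linarith
  have hg0 : 0 < g₀ := Nat.cast_pos.mpr Nat.card_pos
  have hk3 : (3 : ℝ) ≤ k := by rw [hk]; exact_mod_cast c.three_le.1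
  have hw3 : (3 : ℝ) ≤ w := by rw [hw]; exact_mod_cast c.three_le.2
  have hh0 : 0 < hh := Nat.cast_pos.mpr Nat.card_pos
  have hu1 : 1 ≤ ‖h.u 1‖ ^ 2 := by
    rcases IsGeneralizedCharacter.of_norm_one hu h.u_norm with h1 | h1 <;>
    · obtain ⟨d, hd0, hd⟩ := IsIrrCharacter.exists_degree h1
      have e : ‖h.u 1‖ = (d : ℝ) := by
        rw [← Complex.norm_natCast, ← hd]
        all_goals simp
      rw [e]
      exact_mod_cast Nat.one_le_pow 2 d hd0
  have hdis : Disjoint D (insert 1 T) := by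
    rw [Finset.disjoint_left]
    intro g hg hg'
    simp only [hD, Finset.mem_filter, Finset.mem_univ, true_and] at hg
    rcases Finset.mem_insert.mp hg' with rfl | hg'
    · exact c.one_not_mem_dadeSet hg
    · exact (hT g hg').2.1 hg
  have htot : ∑ g ∈ D, ‖h.u g‖ ^ 2 + (1 + (T.card : ℝ)) ≤ g₀ := by
    have e : ∑ g : G, ‖h.u g‖ ^ 2 = g₀ := by
      rw [inv_mul_eq_one₀ hg0.ne'] at hnorm
      exact hnorm.symm
    rw [← e]
    refine le_trans ?_ (Finset.sum_le_sum_of_subset_of_nonneg (Finset.subset_univ (D ∪ insert 1 T))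
      fun _ _ _ => sq_nonneg _)
    rw [Finset.sum_union hdis, Finset.sum_insert fun h1 => (hT 1 h1).1 rfl]
    have h2 : (T.card : ℝ) ≤ ∑ g ∈ T, ‖h.u g‖ ^ 2 := by
      have := Finset.card_nsmul_le_sum T (fun g => ‖h.u g‖ ^ 2) 1
        fun g hg => h.one_le_u F (hT g hg).2.1 (hT g hg).2.2
      simpa using this
    linarith
  have hmain : (hh * k)⁻¹ * (hh * k - k ^ 2) ≤ g₀⁻¹ * ∑ g ∈ D, ‖h.u g‖ ^ 2 := by
    rw [← hzsum]
    refine le_trans ?_ hS
    rw [hMR]
    exact mul_le_mul_of_nonneg_left hlow (by positivity)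
  rw [hMR] at hTcard
  have h5 : 5 * hh < 9 * k ^ 2 * w := by
    have h1 : g₀ * ((hh * k)⁻¹ * (hh * k - k ^ 2)) + g₀ / (hh * k) + 5 * g₀ / (9 * k * w) ≤ g₀ := by
      have := mul_le_mul_of_nonneg_left hmain hg0.le
      rw [← mul_assoc g₀ g₀⁻¹, mul_inv_cancel₀ hg0.ne', one_mul] at this
      linarith
    have e : g₀ * ((hh * k)⁻¹ * (hh * k - k ^ 2)) + g₀ / (hh * k) + 5 * g₀ / (9 * k * w) - g₀ =
        g₀ / (hh * k * (9 * w)) * (5 * hh + 9 * w - 9 * k ^ 2 * w) := by
      field_simp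
      ring
    by_contra hle
    push Not at hle
    have : 0 < g₀ / (hh * k * (9 * w)) * (5 * hh + 9 * w - 9 * k ^ 2 * w) :=
      mul_pos (by positivity) (by linarith)
    linarith
  have hge := F.card_kd_ge
  rw [← hhh, ← hk, ← hw] at hge
  have h2 : 2 / 3 * w * (2 * k - 1) ^ 2 ≤ (w - 1) * (2 * k - 1) ^ 2 :=
    mul_le_mul_of_nonneg_right (by linarith) (sq_nonneg _)
  have h3 : 0 ≤ w * (13 * k ^ 2 - 40 * k + 10) := mul_nonneg (by linarith) (by nlinarith)
  nlinarith

end Coh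

/-- PF 10.8. -/
theorem notCoherent345 {G : Type u} [Group G] (hG : Cfsg.IsMinSimpleOddOrder G) :
    OddChar.NotCoherent345 G := by
  intro M _ _ hM h hcoh
  obtain ⟨K, U, c⟩ := exists_ctx hG hM h
  obtain ⟨F⟩ := exists_fam c
  obtain ⟨ζ, hζ, hirr, hdeg, -⟩ := c.exists_zeta
  obtain ⟨-, t, hiso, hag⟩ := hcoh
  exact Coh.false_of_coherent F
    ⟨t, subset_rfl, hζ, IndSet.conj_mem_above _ _ hζ, hirr, hdeg, hiso, hag⟩

end Cfsg.Agent.OddChar.P10
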