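import Cfsg.Agent.Lib.OddChar.PF10.System

/-!
# The images of `α_{ij}` and of `μ_0 - ζ` under a coherent extension
-/

set_option linter.style.haveILetI false
set_option linter.unusedSectionVars false

namespace Cfsg.Agent.OddChar.P10

open Cfsg.Agent.Char
open scoped Classical ComplexConjugate

attribute [local instance] dualFintype

universe u

variable {G : Type u} [Group G] [Fintype G] {M K U : Subgroup G}

/-- An isometry on the span of `X ⊆ calS M` extending the Dade map, with a marked irreducible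
character `ζ` of least degree. -/
structure Coh (c : Ctx M K U) [Fintype M] (X : Set (M → ℂ)) (ζ : M → ℂ) where
  t : (M → ℂ) → (G → ℂ)
  sub : X ⊆ calS M
  mem : ζ ∈ X
  cmem : Cfsg.conjFun ζ ∈ X
  irr : Cfsg.IsIrrCharacter M ζ
  deg : ζ 1 = (Nat.card K : ℂ)
  iso : Cfsg.IsLinearIsometryOn (Cfsg.zspan X) t
  agree : ∀ α ∈ Cfsg.zspanOn X ({1}ᶜ : Set M), t α = tau M α

theorem calS_off [Fintype M] {φ : M → ℂ} (hφ : φ ∈ calS M) :
    (∀ x, x ∉ kd M → φ x = 0) ∧ Cfsg.IsClassFunction M φ :=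
  CohTI.zspan_vanish (kd M) (Coherence.subset_zspan hφ)

theorem calS_gen [Fintype M] {φ : M → ℂ} (hφ : φ ∈ calS M) : Cfsg.IsGeneralizedCharacter M φ := by
  obtain ⟨θ, hθ, -, -, rfl⟩ := hφ
  exact IsGeneralizedCharacter.of_isCharacter (isCharacter_indFun _ (IsIrrCharacter.isCharacter hθ))

theorem Ctx.calS_deg (c : Ctx M K U) [Fintype M] {φ : M → ℂ} (hφ : φ ∈ calS M) :
    ∃ d : ℕ, 0 < d ∧ φ 1 = (d : ℂ) * (Nat.card K : ℂ) := by
  obtain ⟨θ, hθ, -, -, rfl⟩ := hφ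
  obtain ⟨d, hd, e⟩ := IsIrrCharacter.exists_degree hθ
  refine ⟨d, hd, ?_⟩
  rw [indFun_one_apply, c.semi.index_eq, c.card_ka, e]
  ring

namespace Fam

variable {c : Ctx M K U} [Fintype M] (F : Fam c)

theorem μ_inner_irr {φ : M → ℂ} (hφ : φ ∈ calS M) (hirr : Cfsg.IsIrrCharacter M φ) (ω : Chr M K) :
    Cfsg.classInner (F.μ ω) φ = 0 := by
  refine classInner_irr_of_ne (F.μ_irr ω) hirr fun e => ?_
  obtain ⟨a, ha, ha1⟩ := (Subgroup.bot_or_exists_ne_one (ka M K)).resolve_left c.semi.ne1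
  have hb : a ∉ kb M K := fun hb => ha1 (by
    have : a ∈ ka M K ⊓ kb M K := ⟨ha, hb⟩
    rwa [c.semi.split.disj, Subgroup.mem_bot] at this)
  have h := F.μ_shape ω ⟨a, Subgroup.mem_sup_left ha⟩ hb
  rw [show F.μ ω a = φ a from congrFun e a, (calS_off hφ).1 a (c.ka_not_kd ha ha1)] at h
  exact mul_ne_zero (Int.cast_ne_zero.mpr fun e => by simpa [e] using F.δ_sq ω) (Units.ne_zero _) h.symm

theorem mus_inner_irr {φ : M → ℂ} (hφ : φ ∈ calS M) (hirr : Cfsg.IsIrrCharacter M φ) (ω : Chr M K) :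
    Cfsg.classInner (F.mus ω) φ = 0 := by
  rw [mus, classInner_sum_left]
  exact Finset.sum_eq_zero fun f _ => F.μ_inner_irr hφ hirr _

/-- A class function of `G` orthogonal to the cyclic family vanishes on `V`. -/
theorem zero_on_outer (F : Fam c) {θ : G → ℂ} (hθ : Cfsg.IsClassFunction G θ)
    (horth : ∀ ω : Chr M K, Cfsg.classInner θ (F.η ω) = 0) (w : ↥(ka M K ⊔ kb M K))
    (h1 : (w : M) ∉ ka M K) (h2 : (w : M) ∉ kb M K) : θ ((w : M) : G) = 0 := by
  haveI : Fintype ↥(K ⊔ wTwo M K) := Fintype.ofFinite _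
  refine CyclicTI.zero_of_orth c.selfNormalizing F.hχ hθ (fun ω => ?_) (c.wEquiv w) h1 h2
  have e : (ω.comp c.wEquiv.toMonoidHom).comp c.wEquiv.symm.toMonoidHom = ω :=
    MonoidHom.ext fun x => by simp
  have := horth (ω.comp c.wEquiv.toMonoidHom)
  rwa [η, e] at this

theorem row_one_J0 (f : ka M K →* ℂˣ) : J0 (row c 1 f) :=
  (J0_row_iff c 1 f).mpr fun _ _ => MonoidHom.one_apply _

theorem μ_one_deg : F.δ 1 = 1 ∧ F.μ 1 1 = 1 := by
  obtain ⟨h1, h2⟩ := F.μ_triv 1 fun _ _ => MonoidHom.one_apply _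
  exact ⟨h1, by rw [h2]; simp⟩

/-- The function `α_{ij}`. -/
noncomputable def alpha (ζ : M → ℂ) (ω : Chr M K) (n : ℤ) (f : ka M K →* ℂˣ) : M → ℂ :=
  F.μ (row c ω f) - (F.δ ω : ℂ) • F.μ (row c 1 f) - (n : ℂ) • ζ

/-- The function `μ_0 - ζ`. -/
noncomputable def psi (ζ : M → ℂ) : M → ℂ := F.mus 1 - ζ

variable {ζ : M → ℂ}

theorem alpha_gen (hζ : ζ ∈ calS M) (ω : Chr M K) (n : ℤ) (f : ka M K →* ℂˣ) :
    Cfsg.IsGeneralizedCharacter M (F.alpha ζ ω n f) :=
  IsGeneralizedCharacter.sub (IsGeneralizedCharacter.sub (F.μ_gen _)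
    (IsGeneralizedCharacter.int_smul (F.μ_gen _) _)) (IsGeneralizedCharacter.int_smul (calS_gen hζ) _)

theorem alpha_supp (hζ : ζ ∈ calS M) (hdeg : ζ 1 = (Nat.card K : ℂ)) {ω : Chr M K} (hI : I0 ω)
    {n : ℤ} (hd : F.μ ω 1 = (F.δ ω : ℂ) + (n : ℂ) * (Nat.card K : ℂ)) (f : ka M K →* ℂˣ) :
    Supp (F.alpha ζ ω n f) := by
  refine c.supp_of (IsGeneralizedCharacter.isClassFunction (F.alpha_gen hζ ω n f)) ?_ fun a ha ha1 => ?_
  · simp only [alpha, Pi.sub_apply, Pi.smul_apply, smul_eq_mul, F.μ_row_one, F.μ_one_deg.2, hdeg, hd]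
    ring
  · have hb : a ∉ kb M K := fun hb => ha1 (by
      have : a ∈ ka M K ⊓ kb M K := ⟨ha, hb⟩
      rwa [c.semi.split.disj, Subgroup.mem_bot] at this)
    have h1 := F.μ_shape (row c ω f) ⟨a, Subgroup.mem_sup_left ha⟩ hb
    have h2 := F.μ_shape (row c 1 f) ⟨a, Subgroup.mem_sup_left ha⟩ hb
    simp only [alpha, Pi.sub_apply, Pi.smul_apply, smul_eq_mul]
    rw [show F.μ (row c ω f) a = _ from h1, show F.μ (row c 1 f) a = _ from h2, F.δ_row, F.δ_row,
      F.μ_one_deg.1, row_agree c hI (fun _ _ => MonoidHom.one_apply _) f _ ha,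
      (calS_off hζ).1 a (c.ka_not_kd ha ha1)]
    push_cast
    ring

theorem psi_supp (hζ : ζ ∈ calS M) (hdeg : ζ 1 = (Nat.card K : ℂ)) : Supp (F.psi ζ) := by
  refine c.supp_of_kd (fun x hx => by simp [psi, F.mus_off 1 hx, (calS_off hζ).1 x hx]) ?_
  simp [psi, F.mus_on 1 (one_mem (kd M)), F.μ_one_deg.2, hdeg]

theorem psi_gen (hζ : ζ ∈ calS M) : Cfsg.IsGeneralizedCharacter M (F.psi ζ) :=
  IsGeneralizedCharacter.sub (F.mus_gen 1) (calS_gen hζ)

theorem row_ne_one {ω : Chr M K} (hJ : ¬ J0 ω) (f : ka M K →* ℂˣ) : row c ω f ≠ row c 1 f :=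
  fun e => hJ (by
    rw [show ω = 1 from mul_left_cancel e]
    exact fun _ _ => MonoidHom.one_apply _)

theorem not_row (c : Ctx M K U) {a b : Chr M K} (ha : J0 a) (hb : ¬ J0 b) :
    ¬ ∃ f, row c a f = b := fun h => hb fun w hw => by
  rw [← (exists_row_eq_iff c a b).mp h w hw, ha w hw]

theorem mus_inner_self (ω : Chr M K) : Cfsg.classInner (F.mus ω) (F.mus ω) = (Nat.card K : ℂ) := by
  rw [F.mus_inner_mus, if_pos ((exists_row_eq_iff c ω ω).mpr fun _ _ => rfl)]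

theorem alpha_norm (hζ : ζ ∈ calS M) (hirr : Cfsg.IsIrrCharacter M ζ) {ω : Chr M K} (hJ : ¬ J0 ω)
    (n : ℤ) (f : ka M K →* ℂˣ) :
    Cfsg.classInner (F.alpha ζ ω n f) (F.alpha ζ ω n f) = ((2 + n ^ 2 : ℤ) : ℂ) := by
  have hs : (F.δ ω : ℂ) * (F.δ ω : ℂ) = 1 := by exact_mod_cast F.δ_sq ω
  have h' : ∀ w, Cfsg.classInner ζ (F.μ w) = 0 := fun w => by
    rw [← classInner_conj_symm, F.μ_inner_irr hζ hirr, map_zero]
  simp only [alpha, classInner_sub_left, classInner_sub_right, classInner_smul_left,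
    classInner_smul_right, F.μ_orth, F.μ_inner_irr hζ hirr, h', classInner_self_irr hirr, if_pos,
    if_neg ((Fam.row_ne_one (c := c) hJ f)), if_neg ((Fam.row_ne_one (c := c) hJ f)).symm, map_intCast]
  push_cast
  linear_combination hs

theorem alpha_inner_irr (hζ : ζ ∈ calS M) (hirr : Cfsg.IsIrrCharacter M ζ) (ω : Chr M K)
    (n : ℤ) (f : ka M K →* ℂˣ) : Cfsg.classInner (F.alpha ζ ω n f) ζ = -(n : ℂ) := by
  simp [alpha, classInner_sub_left, classInner_smul_left, F.μ_inner_irr hζ hirr, classInner_self_irr hirr]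

theorem psi_inner_zeta (hζ : ζ ∈ calS M) (hirr : Cfsg.IsIrrCharacter M ζ) :
    Cfsg.classInner (F.psi ζ) ζ = -1 := by
  simp [psi, classInner_sub_left, F.mus_inner_irr hζ hirr, classInner_self_irr hirr]

theorem psi_norm (hζ : ζ ∈ calS M) (hirr : Cfsg.IsIrrCharacter M ζ) :
    Cfsg.classInner (F.psi ζ) (F.psi ζ) = (((Nat.card K : ℝ) + 1 : ℝ) : ℂ) := by
  have h' : Cfsg.classInner ζ (F.mus 1) = 0 := by
    rw [← classInner_conj_symm, F.mus_inner_irr hζ hirr, map_zero]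
  simp [psi, classInner_sub_left, classInner_sub_right, F.mus_inner_self, F.mus_inner_irr hζ hirr, h',
    classInner_self_irr hirr]

theorem psi_inner_alpha (hζ : ζ ∈ calS M) (hirr : Cfsg.IsIrrCharacter M ζ) {ω : Chr M K}
    (hJ : ¬ J0 ω) (n : ℤ) (f : ka M K →* ℂˣ) :
    Cfsg.classInner (F.psi ζ) (F.alpha ζ ω n f) = -(F.δ ω : ℂ) + (n : ℂ) := by
  have h' : ∀ w, Cfsg.classInner ζ (F.μ w) = 0 := fun w => by
    rw [← classInner_conj_symm, F.μ_inner_irr hζ hirr, map_zero]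
  have hp : ¬ ∃ f', row c 1 f' = row c ω f :=
    Fam.not_row c (fun _ _ => MonoidHom.one_apply _) ((J0_row_iff c ω f).not.mpr hJ)
  simp only [psi, alpha, classInner_sub_left, classInner_sub_right, classInner_smul_right,
    F.mus_inner_μ, if_neg hp, if_pos (show ∃ f', row c 1 f' = row c 1 f from ⟨f, rfl⟩),
    F.mus_inner_irr hζ hirr, h', classInner_self_irr hirr, map_intCast]
  ring

/-- The members of the cyclic family indexed by pairs. -/
noncomputable abbrev cell (c : Ctx M K U) (i : (ka M K →* ℂˣ) × (kb M K →* ℂˣ)) : Chr M K :=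
  row c (CyclicTI.pull2 c.semi.split i.2) i.1

theorem cell_injective (c : Ctx M K U) :
    Function.Injective (cell c) := fun i j e => by
  obtain ⟨h1, h2⟩ := CyclicTI.pull_injective c.semi.split e
  exact Prod.ext h1 h2

theorem pull2_I0 (c : Ctx M K U) (g : kb M K →* ℂˣ) : I0 (CyclicTI.pull2 c.semi.split g) :=
  fun w hw => CyclicTI.pull2_apply_of_mem c.semi.split g w hw

theorem pull2_not_J0 (c : Ctx M K U) {g : kb M K →* ℂˣ} (hg : g ≠ 1) :
    ¬ J0 (CyclicTI.pull2 c.semi.split g) := fun h => hg <| by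
  refine MonoidHom.ext fun b => ?_
  have := h (CyclicTI.inc2 _ _ b) (by rw [CyclicTI.coe_inc2]; exact b.2)
  simpa [CyclicTI.pull2] using this

end Fam

namespace Coh

variable {c : Ctx M K U} [Fintype M] {X : Set (M → ℂ)} {ζ : M → ℂ}

/-- The image of `ζ`. -/
def u (h : Coh c X ζ) : G → ℂ := h.t ζ

theorem t_gen (h : Coh c X ζ) {φ : M → ℂ} (hφ : φ ∈ X) : Cfsg.IsGeneralizedCharacter G (h.t φ) :=
  Coherence.iso_gen (M := Submodule.span ℤ X) h.iso (Submodule.subset_span hφ)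

theorem t_inner (h : Coh c X ζ) {φ ψ : M → ℂ} (hφ : φ ∈ X) (hψ : ψ ∈ X) :
    Cfsg.classInner (h.t φ) (h.t ψ) = Cfsg.classInner φ ψ :=
  Coherence.iso_inner (M := Submodule.span ℤ X) h.iso (Submodule.subset_span hφ) (Submodule.subset_span hψ)

theorem u_gen (h : Coh c X ζ) : Cfsg.IsGeneralizedCharacter G h.u := h.t_gen h.mem

theorem u_norm (h : Coh c X ζ) : Cfsg.classInner h.u h.u = 1 :=
  (h.t_inner h.mem h.mem).trans (classInner_self_irr h.irr)

theorem zetaS (h : Coh c X ζ) : ζ ∈ calS M := h.sub h.mem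

/-- Images of irreducible members are orthogonal to the cyclic family. -/
theorem orth_eta (F : Fam c) (h : Coh c X ζ) {φ : M → ℂ} (hφ : φ ∈ X)
    (hcφ : Cfsg.conjFun φ ∈ X) (hirr : Cfsg.IsIrrCharacter M φ) (ω : Chr M K) :
    Cfsg.classInner (h.t φ) (F.η ω) = 0 := by
  have hc : Cfsg.IsIrrCharacter M (Cfsg.conjFun φ) := IsIrrCharacter.conj hirr
  have hd : φ - Cfsg.conjFun φ ∈ Cfsg.zspanOn X ({1}ᶜ : Set M) :=
    Coherence.mem_zspanOn_one.mpr ⟨Submodule.sub_mem _ (Submodule.subset_span hφ)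
      (Submodule.subset_span hcφ), by rw [Pi.sub_apply, Coherence.conjFun_one hirr, sub_self]⟩
  obtain ⟨μ, -, -, -, hnorm, hoff⟩ := c.tau_irr_sub (h.sub hφ) hirr
  have hfc : Cfsg.IsClassFunction M (φ - Cfsg.conjFun φ) :=
    IsClassFunction.sub (calS_off (h.sub hφ)).2 (calS_off (h.sub hcφ)).2
  have hfs : Supp (φ - Cfsg.conjFun φ) := c.supp_of_kd (fun x hx => by
    simp [Cfsg.conjFun, hoff x hx]) (by rw [Pi.sub_apply, Coherence.conjFun_one hirr, sub_self])
  have e : h.t φ - h.t (Cfsg.conjFun φ) = tau M (φ - Cfsg.conjFun φ) := by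
    rw [← h.agree _ hd]
    exact (Coherence.iso_sub (M := Submodule.span ℤ X) h.iso (Submodule.subset_span hφ)
      (Submodule.subset_span hcφ)).symm
  have h0 := F.coeff_zero' (f := tau M (φ - Cfsg.conjFun φ)) (N := 2)
    (e ▸ IsGeneralizedCharacter.sub (h.t_gen hφ) (h.t_gen hcφ)) (by rw [hnorm]; norm_num) le_rfl
    (fun w h1 h2 => by
      have hk : (w : M) ∉ kd M := fun hk => h2 ((c.semi.mem_W2_iff w).mpr hk)
      rw [c.tau_outer hfc w h1 h2]
      simp [Cfsg.conjFun, hoff _ hk]) ω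
  rw [← e, classInner_sub_left, sub_eq_zero] at h0
  by_contra hne
  have s1 : CyclicTI.SignIrr (h.t φ) := IsGeneralizedCharacter.of_norm_one (h.t_gen hφ)
    ((h.t_inner hφ hφ).trans (classInner_self_irr hirr))
  have s2 : CyclicTI.SignIrr (h.t (Cfsg.conjFun φ)) := IsGeneralizedCharacter.of_norm_one (h.t_gen hcφ)
    ((h.t_inner hcφ hcφ).trans (classInner_self_irr hc))
  have e1 := CyclicTI.SignIrr.eq_or_neg s1 (F.η_irr ω) hne
  have e2 := CyclicTI.SignIrr.eq_or_neg s2 (F.η_irr ω) (h0 ▸ hne)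
  have horth : Cfsg.classInner (h.t φ) (h.t (Cfsg.conjFun φ)) = 0 :=
    (h.t_inner hφ hcφ).trans (classInner_irr_of_ne hirr hc (c.conj_ne (h.sub hφ)).symm)
  rcases e1 with e1 | e1 <;> rcases e2 with e2 | e2 <;>
    rw [e2] at horth <;> rw [e1] at horth <;>
    simp [classInner_neg_left, classInner_neg_right, F.η_orth] at horth

theorem u_orth (F : Fam c) (h : Coh c X ζ) (ω : Chr M K) :
    Cfsg.classInner h.u (F.η ω) = 0 := h.orth_eta F h.mem h.cmem h.irr ω

theorem u_class (h : Coh c X ζ) : Cfsg.IsClassFunction G h.u :=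
  IsGeneralizedCharacter.isClassFunction h.u_gen

/-- Coefficients of `τ β` on the images of `X` from that on the image of `ζ`. -/
theorem transfer (h : Coh c X ζ) {β : M → ℂ} (hβ : Cfsg.IsClassFunction M β) (hs : Supp β)
    {φ : M → ℂ} (hφ : φ ∈ X) {d : ℕ} (hd : φ 1 = (d : ℂ) * (Nat.card K : ℂ)) :
    Cfsg.classInner (tau M β) (h.t φ) = Cfsg.classInner β φ +
      (d : ℂ) * (Cfsg.classInner (tau M β) h.u - Cfsg.classInner β ζ) := by
  have hmem : φ - (d : ℤ) • ζ ∈ Cfsg.zspanOn X ({1}ᶜ : Set M) :=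
    Coherence.mem_zspanOn_one.mpr ⟨Submodule.sub_mem _ (Submodule.subset_span hφ)
      (Submodule.smul_mem _ _ (Submodule.subset_span h.mem)), by
        simp [h.deg, hd]⟩
  have e : h.t φ - (d : ℤ) • h.u = tau M (φ - (d : ℤ) • ζ) := by
    rw [← h.agree _ hmem, u, ← Coherence.iso_zsmul (M := Submodule.span ℤ X) h.iso
      (Submodule.subset_span h.mem)]
    exact (Coherence.iso_sub (M := Submodule.span ℤ X) h.iso (Submodule.subset_span hφ)
      (Submodule.smul_mem _ _ (Submodule.subset_span h.mem))).symm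
  have hc : Cfsg.IsClassFunction M (φ - (d : ℤ) • ζ) := IsGeneralizedCharacter.isClassFunction
    (IsGeneralizedCharacter.sub (calS_gen (h.sub hφ)) (IsGeneralizedCharacter.zsmul (calS_gen h.zetaS) _))
  have := c.tau_inner hβ hs hc
  rw [← e, classInner_sub_right, classInner_sub_right, Coherence.classInner_zsmul_right,
    Coherence.classInner_zsmul_right, Int.cast_natCast] at this
  linear_combination this

variable (F : Fam c)

/-- The coefficient of `τ α_{ij}` on the image of `ζ`, from enough degrees in `X`. -/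
theorem alpha_coeff (h : Coh c X ζ) {ω : Chr M K} (hI : I0 ω) {n : ℤ} (hn : 2 ≤ n)
    (hd : F.μ ω 1 = (F.δ ω : ℂ) + (n : ℂ) * (Nat.card K : ℂ)) (hJ : ¬ J0 ω) (f : ka M K →* ℂˣ)
    (T : Finset (M → ℂ)) (hT : ∀ φ ∈ T, φ ∈ X) (hζT : ζ ∈ T) (d : (M → ℂ) → ℕ)
    (hdeg : ∀ φ ∈ T, φ 1 = (d φ : ℂ) * (Nat.card K : ℂ))
    (horth : ∀ φ ∈ T, φ ≠ ζ → Cfsg.classInner (F.alpha ζ ω n f) φ = 0)
    (hbig : (2 * n + 2 : ℝ) < ∑ φ ∈ T, (d φ : ℝ) ^ 2 / (Cfsg.classInner φ φ).re) :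
    Cfsg.classInner (tau M (F.alpha ζ ω n f)) h.u = -(n : ℂ) := by
  have hζ := h.zetaS
  set α := F.alpha ζ ω n f with hα
  have hc : Cfsg.IsClassFunction M α := IsGeneralizedCharacter.isClassFunction (F.alpha_gen hζ ω n f)
  have hs : Supp α := F.alpha_supp hζ h.deg hI hd f
  obtain ⟨b, hb⟩ := IsGeneralizedCharacter.exists_classInner_int
    (c.tau_gen (F.alpha_gen hζ ω n f) hs) h.u_gen
  suffices h0 : b + n = 0 by
    rw [hb, show b = -n by omega]; push_cast; ring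
  have hdζ : d ζ = 1 := by
    have h2 : (d ζ : ℂ) * (Nat.card K : ℂ) = 1 * (Nat.card K : ℂ) := by
      rw [one_mul, ← hdeg ζ hζT, h.deg]
    exact_mod_cast mul_right_cancel₀ (Nat.cast_ne_zero.mpr Nat.card_pos.ne') h2
  have hN : ∀ φ ∈ T, ∃ N : ℕ, 0 < N ∧ Cfsg.classInner φ φ = (N : ℂ) := fun φ hφ =>
    Coherence.sys_norm F.system (h.sub (hT φ hφ))
  set bb : (M → ℂ) → ℝ := fun φ => if φ = ζ then (b : ℝ) else (d φ : ℝ) * ((b : ℝ) + (n : ℝ))
  have hB := (Coherence.bessel T h.t (fun φ => (Cfsg.classInner φ φ).re) bb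
    (fun φ hφ => by obtain ⟨N, hN0, e⟩ := hN φ hφ; rw [e]; simpa using hN0)
    (fun φ hφ ψ hψ hne => by
      rw [h.t_inner (hT φ hφ) (hT ψ hψ)]
      exact F.system.orthogonal φ (h.sub (hT φ hφ)) ψ (h.sub (hT ψ hψ)) hne)
    (fun φ hφ => by
      obtain ⟨N, -, e⟩ := hN φ hφ
      rw [h.t_inner (hT φ hφ) (hT φ hφ), e]; simp)
    (x := tau M α) (fun φ hφ => by
      by_cases e : φ = ζ
      · subst e; simp only [bb, if_pos]; rw [show h.t φ = h.u from rfl, hb]; simp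
      · simp only [bb, if_neg e]
        rw [h.transfer hc hs (hT φ hφ) (hdeg φ hφ), horth φ hφ e, hb, hα,
          F.alpha_inner_irr hζ h.irr]
        push_cast; ring)
    (N := (2 + n ^ 2 : ℝ)) (by
      rw [c.tau_inner hc hs hc, hα, F.alpha_norm hζ h.irr hJ]; simp)).1
  rw [← Finset.add_sum_erase T _ hζT] at hB hbig
  have e : ∑ φ ∈ T.erase ζ, bb φ ^ 2 / (Cfsg.classInner φ φ).re =
      ((b : ℝ) + (n : ℝ)) ^ 2 * ∑ φ ∈ T.erase ζ, (d φ : ℝ) ^ 2 / (Cfsg.classInner φ φ).re := by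
    rw [Finset.mul_sum]
    refine Finset.sum_congr rfl fun φ hφ => ?_
    simp only [bb, if_neg (Finset.ne_of_mem_erase hφ)]
    ring
  rw [e] at hB
  simp only [bb, if_pos, classInner_self_irr h.irr, Complex.one_re, div_one, hdζ, Nat.cast_one,
    one_pow] at hB hbig
  set S := ∑ φ ∈ T.erase ζ, (d φ : ℝ) ^ 2 / (Cfsg.classInner φ φ).re
  by_contra hne
  have hn' : (2 : ℝ) ≤ (n : ℝ) := by exact_mod_cast hn
  have h1 : (1 : ℝ) ≤ ((b : ℝ) + (n : ℝ)) ^ 2 := by
    have : (1 : ℤ) ≤ (b + n) ^ 2 := by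
      have := sq_pos_iff.mpr hne
      omega
    exact_mod_cast this
  have hlt : 0 < ((b : ℝ) + (n : ℝ)) ^ 2 * (1 + S - (2 * (n : ℝ) + 2)) :=
    mul_pos (lt_of_lt_of_le one_pos h1) (sub_pos.mpr hbig)
  have h3 : 0 ≤ (n : ℝ) * (((b : ℝ) + n) ^ 2 - ((b : ℝ) + n)) := by
    refine mul_nonneg (by linarith) ?_
    have : (0 : ℤ) ≤ (b + n) ^ 2 - (b + n) := sub_nonneg.mpr (Int.le_self_sq _)
    exact_mod_cast this
  nlinarith

/-- The shape of `τ α_{ij}`. -/
theorem alpha_shape (h : Coh c X ζ) {ω : Chr M K} (hI : I0 ω) {n : ℤ}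
    (hd : F.μ ω 1 = (F.δ ω : ℂ) + (n : ℂ) * (Nat.card K : ℂ)) (hJ : ¬ J0 ω) (f : ka M K →* ℂˣ)
    (hu : Cfsg.classInner (tau M (F.alpha ζ ω n f)) h.u = -(n : ℂ)) :
    tau M (F.alpha ζ ω n f) =
      (F.δ ω : ℂ) • (F.η (row c ω f) - F.η (row c 1 f)) - (n : ℂ) • h.u := by
  have hζ := h.zetaS
  set α := F.alpha ζ ω n f with hα
  have hc : Cfsg.IsClassFunction M α := IsGeneralizedCharacter.isClassFunction (F.alpha_gen hζ ω n f)
  have hs : Supp α := F.alpha_supp hζ h.deg hI hd f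
  set p := row c ω f
  set q := row c 1 f
  set T := tau M α + (n : ℂ) • h.u with hT
  have hu' : Cfsg.classInner h.u (tau M α) = -(n : ℂ) := by
    rw [← classInner_conj_symm, hu]; simp
  have hnorm : Cfsg.classInner T T = ((2 : ℤ) : ℂ) := by
    simp only [hT, classInner_add_left, classInner_add_right, classInner_smul_left,
      classInner_smul_right, hu, hu', h.u_norm, map_intCast]
    rw [c.tau_inner hc hs hc, hα, F.alpha_norm hζ h.irr hJ]
    push_cast
    ring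
  have hgen : Cfsg.IsGeneralizedCharacter G T :=
    IsGeneralizedCharacter.add (c.tau_gen (F.alpha_gen hζ ω n f) hs)
      (IsGeneralizedCharacter.int_smul h.u_gen _)
  have hV : ∀ w : ↥(ka M K ⊔ kb M K), (w : M) ∉ ka M K → (w : M) ∉ kb M K →
      T ((w : M) : G) = (F.δ ω : ℂ) * ((p w : ℂ) - (q w : ℂ)) := fun w h1 h2 => by
    have hk : (w : M) ∉ kd M := fun hk => h2 ((c.semi.mem_W2_iff w).mpr hk)
    simp only [hT, Pi.add_apply, Pi.smul_apply, smul_eq_mul]
    rw [F.zero_on_outer h.u_class (h.u_orth F) w h1 h2, c.tau_outer hc w h1 h2, hα]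
    simp only [Fam.alpha, Pi.sub_apply, Pi.smul_apply, smul_eq_mul]
    rw [F.μ_shape p w h2, F.μ_shape q w h2, F.δ_row, F.δ_row, F.μ_one_deg.1,
      (calS_off hζ).1 _ hk]
    push_cast
    ring
  have hne : p ≠ q := (Fam.row_ne_one (c := c) hJ f)
  have hp := F.coeff hgen hnorm le_rfl p q (F.δ ω) hV p
  have hq := F.coeff hgen hnorm le_rfl p q (F.δ ω) hV q
  simp only [if_pos, if_neg hne, if_neg hne.symm] at hp hq
  have hp' : Cfsg.classInner (F.η p) T = (F.δ ω : ℂ) := by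
    rw [← classInner_conj_symm, hp]; simp
  have hq' : Cfsg.classInner (F.η q) T = -(F.δ ω : ℂ) := by
    rw [← classInner_conj_symm, hq]; simp
  have hs' : (F.δ ω : ℂ) * (F.δ ω : ℂ) = 1 := by exact_mod_cast F.δ_sq ω
  have key : T - (F.δ ω : ℂ) • (F.η p - F.η q) = 0 := by
    refine classInner_self_eq_zero ?_
    simp only [classInner_sub_left, classInner_sub_right, classInner_smul_left,
      classInner_smul_right, hnorm, hp, hq, hp', hq', F.η_orth, if_pos, if_neg hne, if_neg hne.symm,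
      map_intCast]
    push_cast
    linear_combination (-2 : ℂ) * hs'
  rw [← sub_eq_zero]
  refine Eq.trans ?_ key
  simp only [hT]
  abel

/-- The coefficient of `τ(μ_0 - ζ)` along two members of the cyclic family. -/
theorem psi_rel (h : Coh c X ζ) {ω : Chr M K} (hI : I0 ω) {n : ℤ}
    (hd : F.μ ω 1 = (F.δ ω : ℂ) + (n : ℂ) * (Nat.card K : ℂ)) (hJ : ¬ J0 ω) (f : ka M K →* ℂˣ)
    (hu : Cfsg.classInner (tau M (F.alpha ζ ω n f)) h.u = -(n : ℂ)) :
    Cfsg.classInner (tau M (F.psi ζ)) (F.η (row c ω f)) =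
      Cfsg.classInner (tau M (F.psi ζ)) (F.η (row c 1 f)) - 1 +
        (F.δ ω : ℂ) * (n : ℂ) * (Cfsg.classInner (tau M (F.psi ζ)) h.u + 1) := by
  have hζ := h.zetaS
  have hc := IsGeneralizedCharacter.isClassFunction (F.psi_gen (ζ := ζ) hζ)
  have hca := IsGeneralizedCharacter.isClassFunction (F.alpha_gen hζ ω n f)
  have e := c.tau_inner hc (F.psi_supp hζ h.deg) hca
  rw [F.psi_inner_alpha hζ h.irr hJ, h.alpha_shape F hI hd hJ f hu] at e
  simp only [classInner_sub_right, classInner_smul_right, map_intCast] at e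
  have hs' : (F.δ ω : ℂ) * (F.δ ω : ℂ) = 1 := by exact_mod_cast F.δ_sq ω
  linear_combination (F.δ ω : ℂ) * e -
    (Cfsg.classInner (tau M (F.psi ζ)) (F.η (row c ω f)) -
      Cfsg.classInner (tau M (F.psi ζ)) (F.η (row c 1 f)) + 1) * hs'

/-- `τ(μ_0 - ζ)`, given its coefficient at the image of `ζ`. -/
theorem psi_shape (h : Coh c X ζ)
    (hu : ∀ ω : Chr M K, I0 ω → ¬ J0 ω → ∀ n : ℤ, 2 ≤ n →
      F.μ ω 1 = (F.δ ω : ℂ) + (n : ℂ) * (Nat.card K : ℂ) → ∀ f,
        Cfsg.classInner (tau M (F.alpha ζ ω n f)) h.u = -(n : ℂ))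
    (hY : Cfsg.classInner (tau M (F.psi ζ)) h.u = -1) :
    tau M (F.psi ζ) = (∑ f, F.η (row c 1 f)) - h.u := by
  have hζ := h.zetaS
  have hc := IsGeneralizedCharacter.isClassFunction (F.psi_gen (ζ := ζ) hζ)
  have hg : Cfsg.IsGeneralizedCharacter G (tau M (F.psi ζ)) :=
    c.tau_gen (F.psi_gen hζ) (F.psi_supp hζ h.deg)
  choose q hq using fun f : ka M K →* ℂˣ =>
    IsGeneralizedCharacter.exists_classInner_int hg (F.η_gen (row c 1 f))
  set Y := tau M (F.psi ζ) with hYdef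
  have hrel : ∀ i : (ka M K →* ℂˣ) × (kb M K →* ℂˣ), Cfsg.classInner Y (F.η (Fam.cell c i)) =
      (((q i.1 : ℝ) - if i.2 = 1 then 0 else 1 : ℝ) : ℂ) := by
    rintro ⟨f, g⟩
    by_cases hg1 : g = 1
    · subst hg1
      rw [Fam.cell, CyclicTI.pull2_one, hq]
      simp
    · obtain ⟨d, hd, -, n, hn, hdn⟩ := F.μ_deg_nat (Fam.pull2_not_J0 c hg1)
      have hd' : F.μ (CyclicTI.pull2 c.semi.split g) 1 =
          (F.δ (CyclicTI.pull2 c.semi.split g) : ℂ) + (n : ℂ) * (Nat.card K : ℂ) := by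
        rw [hd]; exact_mod_cast hdn
      rw [Fam.cell, h.psi_rel F (Fam.pull2_I0 c g) hd' (Fam.pull2_not_J0 c hg1) f
        (hu _ (Fam.pull2_I0 c g) (Fam.pull2_not_J0 c hg1) n hn hd' f), ← hYdef, hY, hq, if_neg hg1]
      push_cast
      ring
  set w : Option ((ka M K →* ℂˣ) × (kb M K →* ℂˣ)) → G → ℂ := fun i =>
    i.elim h.u fun j => F.η (Fam.cell c j) with hw
  set b : Option ((ka M K →* ℂˣ) × (kb M K →* ℂˣ)) → ℝ := fun i =>
    i.elim (-1) fun j => (q j.1 : ℝ) - if j.2 = 1 then 0 else 1 with hb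
  have hperp : ∀ j, Cfsg.classInner (F.η j) h.u = 0 := fun j => by
    rw [← classInner_conj_symm, h.u_orth F, map_zero]
  have hB := Coherence.bessel Finset.univ w (fun _ => 1) b (fun _ _ => one_pos)
    (fun i _ j _ hne => by
      rcases i with _ | i <;> rcases j with _ | j
      · exact absurd rfl hne
      · exact h.u_orth F _
      · exact hperp _
      · show Cfsg.classInner (F.η _) (F.η _) = 0
        rw [F.η_orth, if_neg fun e => hne (congrArg some (Fam.cell_injective c e))])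
    (fun i _ => by
      rcases i with _ | i
      · simpa [hw] using h.u_norm
      · simp [hw, F.η_orth])
    (x := Y) (fun i _ => by
      rcases i with _ | i
      · simpa [hw, hb] using hY
      · exact hrel i)
    (N := (Nat.card K : ℝ) + 1) (by
      rw [hYdef, c.tau_inner hc (F.psi_supp hζ h.deg) hc, F.psi_norm hζ h.irr])
  simp only [Fintype.sum_option, div_one] at hB
  have hrow : ∀ f, ∑ g : kb M K →* ℂˣ, b (some (f, g)) ^ 2 =
      (q f : ℝ) ^ 2 + ((Nat.card (wTwo M K) : ℝ) - 1) * ((q f : ℝ) - 1) ^ 2 := fun f => by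
    haveI := c.semi.comm2
    rw [← Finset.add_sum_erase _ _ (Finset.mem_univ (1 : kb M K →* ℂˣ))]
    simp only [hb, Option.elim_some, if_pos, sub_zero]
    rw [Finset.sum_congr rfl (g := fun _ => ((q f : ℝ) - 1) ^ 2) fun g hg => by
      rw [if_neg (Finset.ne_of_mem_erase hg)]]
    rw [Finset.sum_const, Finset.card_erase_of_mem (Finset.mem_univ _), Finset.card_univ,
      ← Nat.card_eq_fintype_card, CyclicTI.card_hom, c.card_kb, nsmul_eq_mul,
      Nat.cast_sub (le_trans (by norm_num) c.three_le.2)]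
    push_cast
    ring
  have hK : (Fintype.card (ka M K →* ℂˣ) : ℝ) = (Nat.card K : ℝ) := by
    haveI := c.semi.comm1
    rw [← Nat.card_eq_fintype_card, CyclicTI.card_hom, c.card_ka]
  have hw3 : (3 : ℝ) ≤ (Nat.card (wTwo M K) : ℝ) := by exact_mod_cast c.three_le.2
  have hge : ∀ f, 1 ≤ ∑ g : kb M K →* ℂˣ, b (some (f, g)) ^ 2 ∧
      (q f ≠ 1 → 2 ≤ ∑ g : kb M K →* ℂˣ, b (some (f, g)) ^ 2) := fun f => by
    rw [hrow]
    by_cases e : q f = 1
    · rw [e]; norm_num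
    have h2 : (2 : ℤ) ≤ q f ^ 2 + 2 * (q f - 1) ^ 2 := by
      rcases lt_or_gt_of_ne e with h | h
      · have : q f ≤ 0 := by omega
        nlinarith
      · nlinarith
    have h2' : (2 : ℝ) ≤ (q f : ℝ) ^ 2 + 2 * ((q f : ℝ) - 1) ^ 2 := by exact_mod_cast h2
    have := mul_le_mul_of_nonneg_right (show (2 : ℝ) ≤ (Nat.card (wTwo M K) : ℝ) - 1 by linarith)
      (sq_nonneg ((q f : ℝ) - 1))
    exact ⟨by linarith, fun _ => by linarith⟩
  rw [Fintype.sum_prod_type] at hB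
  have hone : ∀ f, q f = 1 := by
    intro f
    by_contra hne
    have hlt : ∑ _f : ka M K →* ℂˣ, (1 : ℝ) <
        ∑ f : ka M K →* ℂˣ, ∑ g : kb M K →* ℂˣ, b (some (f, g)) ^ 2 :=
      Finset.sum_lt_sum (fun i _ => (hge i).1) ⟨f, Finset.mem_univ _,
        lt_of_lt_of_le one_lt_two ((hge f).2 hne)⟩
    rw [Finset.sum_const, Finset.card_univ, nsmul_one, hK] at hlt
    have := hB.1
    simp only [hb, Option.elim_none, Option.elim_some] at this hlt
    rw [neg_one_sq] at this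
    linarith
  have hrow1 : ∀ f, ∑ g : kb M K →* ℂˣ, b (some (f, g)) ^ 2 = 1 := fun f => by
    rw [hrow, hone]; norm_num
  have heq := hB.2 (by
    rw [Finset.sum_congr rfl fun f _ => hrow1 f, Finset.sum_const, Finset.card_univ, nsmul_one, hK]
    simp [hb]; linarith)
  rw [heq, Fintype.sum_prod_type]
  simp only [hb, hw, Option.elim_none, Option.elim_some]
  rw [Finset.sum_congr rfl (g := fun f => F.η (row c 1 f)) fun f _ => ?_]
  · simp [sub_eq_neg_add]
  · rw [Finset.sum_eq_single (1 : kb M K →* ℂˣ)]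
    · simp [hone, Fam.cell, CyclicTI.pull2_one]
    · intro g _ hg; simp [hone, hg]
    · exact fun h => absurd (Finset.mem_univ _) h

/-- `τ(μ_j - d ζ)`. -/
theorem mus_shape (h : Coh c X ζ) {ω : Chr M K} (hI : I0 ω) {n : ℤ}
    (hd : F.μ ω 1 = (F.δ ω : ℂ) + (n : ℂ) * (Nat.card K : ℂ)) (hJ : ¬ J0 ω)
    (hu : ∀ f, Cfsg.classInner (tau M (F.alpha ζ ω n f)) h.u = -(n : ℂ))
    (hY : tau M (F.psi ζ) = (∑ f, F.η (row c 1 f)) - h.u) :
    tau M (F.mus ω - F.μ ω 1 • ζ) =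
      (F.δ ω : ℂ) • (∑ f, F.η (row c ω f)) - F.μ ω 1 • h.u := by
  haveI := c.semi.comm1
  have hcard : ((Finset.univ : Finset (ka M K →* ℂˣ)).card : ℂ) = (Nat.card K : ℂ) := by
    rw [Finset.card_univ, ← Nat.card_eq_fintype_card, CyclicTI.card_hom, c.card_ka]
  have e : F.mus ω - F.μ ω 1 • ζ = (∑ f, F.alpha ζ ω n f) + (F.δ ω : ℂ) • F.psi ζ := by
    simp only [Fam.alpha, Fam.psi, Finset.sum_sub_distrib, Finset.sum_const, ← Finset.smul_sum,
      smul_sub, hd, ← Nat.cast_smul_eq_nsmul ℂ, hcard, add_smul, smul_smul, mul_comm (n : ℂ)]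
    rw [show F.mus ω = ∑ f, F.μ (row c ω f) from rfl, show F.mus 1 = ∑ f, F.μ (row c 1 f) from rfl]
    abel
  rw [e, tau_add, tau_sum, tau_smul, hY, Finset.sum_congr rfl fun f _ => h.alpha_shape F hI hd hJ f (hu f)]
  simp only [Finset.sum_sub_distrib, ← Finset.smul_sum, Finset.sum_const, ← Nat.cast_smul_eq_nsmul ℂ,
    hcard, smul_sub, hd, add_smul, smul_smul, mul_comm (n : ℂ)]
  abel

end Coh

end Cfsg.Agent.OddChar.P10
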