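import Cfsg.Agent.Lib.OddChar.PF10.Setup
import Cfsg.Agent.Lib.Char.InducedSet

/-!
# The reducible induced characters and a linear-induced irreducible character
-/

set_option linter.style.haveILetI false
set_option linter.unusedSectionVars false

namespace Cfsg.Agent.OddChar.P10

open Cfsg.Agent.Char
open scoped Classical ComplexConjugate

universe u

variable {G : Type u} [Group G] [Fintype G] {M K U : Subgroup G}

/-- The characters of a finite group form a finite type. -/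
noncomputable abbrev dualFintype (H : Type u) [Group H] [Finite H] : Fintype (H →* ℂˣ) :=
  @Fintype.ofFinite _ (CyclicTI.finite_dual H)

attribute [local instance] dualFintype

/-- `ω` is trivial on `W₂`. -/
def J0 (ω : Chr M K) : Prop := ∀ w : ↥(ka M K ⊔ kb M K), (w : M) ∈ kb M K → ω w = 1

/-- The character `ω` shifted along `W₁`. -/
noncomputable abbrev row (c : Ctx M K U) (ω : Chr M K) (f : ka M K →* ℂˣ) : Chr M K :=
  CyclicTI.pull1 c.semi.split f * ω

theorem J0.inv {ω : Chr M K} (h : J0 ω) : J0 ω⁻¹ := fun w hw => by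
  rw [MonoidHom.inv_apply, h w hw, inv_one]

theorem not_J0_inv {ω : Chr M K} (h : ¬ J0 ω) : ¬ J0 ω⁻¹ := fun h' => h fun w hw => by
  have := h' w hw
  rwa [MonoidHom.inv_apply, inv_eq_one] at this

theorem inv_ne_self {ω : Chr M K} (c : Ctx M K U) (h : ω ≠ 1) : ω⁻¹ ≠ ω := fun e => h <| by
  obtain ⟨m, hm⟩ := c.odd_sup
  refine MonoidHom.ext fun w => ?_
  have h2 : ω w * ω w = 1 := by
    nth_rewrite 1 [← e]
    rw [MonoidHom.inv_apply, inv_mul_cancel]
  have h3 : ω w ^ Nat.card ↥(ka M K ⊔ kb M K) = 1 := by rw [← map_pow, pow_card_eq_one', map_one]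
  rw [hm, pow_succ, pow_mul, pow_two, h2, one_pow, one_mul] at h3
  exact h3

theorem row_injective (c : Ctx M K U) (ω : Chr M K) : Function.Injective (row c ω) := fun f f' h => by
  have h1 : CyclicTI.pull1 c.semi.split f = CyclicTI.pull1 c.semi.split f' := mul_right_cancel h
  refine (CyclicTI.pull_injective c.semi.split (g := 1) (g' := 1) ?_).1
  rw [CyclicTI.pull_one_right, CyclicTI.pull_one_right, h1]

theorem J0_row_iff (c : Ctx M K U) (ω : Chr M K) (f : ka M K →* ℂˣ) : J0 (row c ω f) ↔ J0 ω := by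
  refine forall₂_congr fun w hw => ?_
  rw [MonoidHom.mul_apply, CyclicTI.pull1_apply_of_mem c.semi.split f w hw, one_mul]

theorem exists_row_eq_iff (c : Ctx M K U) (ω ω' : Chr M K) :
    (∃ f, row c ω f = ω') ↔ ∀ w : ↥(ka M K ⊔ kb M K), (w : M) ∈ kb M K → ω w = ω' w := by
  constructor
  · rintro ⟨f, rfl⟩ w hw
    rw [MonoidHom.mul_apply, CyclicTI.pull1_apply_of_mem c.semi.split f w hw, one_mul]
  · intro h
    have h' : ∀ w : ↥(ka M K ⊔ kb M K), (w : M) ∈ kb M K → (ω' * ω⁻¹) w = 1 := fun w hw => by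
      rw [MonoidHom.mul_apply, MonoidHom.inv_apply, h w hw, mul_inv_cancel]
    refine ⟨(ω' * ω⁻¹).comp (CyclicTI.inc1 (ka M K) (kb M K)), ?_⟩
    rw [row, ← CyclicTI.hom_eq_pull1 c.semi.split h']
    exact MonoidHom.ext fun w => by simp

namespace Fam

variable {c : Ctx M K U} [Fintype M] (F : Fam c)

/-- The induced character `μ_j`. -/
noncomputable def mus (ω : Chr M K) : M → ℂ := ∑ f, F.μ (row c ω f)

theorem mus_apply (ω : Chr M K) (g : M) :
    F.mus ω g = (∑ f : ka M K →* ℂˣ, (f (c.semi.pr g) : ℂ)) * F.μ ω g := by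
  rw [mus, Finset.sum_apply, Finset.sum_mul]
  exact Finset.sum_congr rfl fun f _ => congrFun (F.μ_twist ω f).2 g

theorem mus_off (ω : Chr M K) {g : M} (hg : g ∉ kd M) : F.mus ω g = 0 := by
  haveI := c.semi.comm1
  rw [F.mus_apply, CyclicTI.sum_hom_eq_zero fun e => hg ((c.semi.pr_eq_one_iff g).mp e), zero_mul]

theorem mus_on (ω : Chr M K) {g : M} (hg : g ∈ kd M) :
    F.mus ω g = (Nat.card K : ℂ) * F.μ ω g := by
  haveI := c.semi.comm1
  rw [F.mus_apply, (c.semi.pr_eq_one_iff g).mpr hg]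
  simp only [map_one, Units.val_one, Finset.sum_const, Finset.card_univ, nsmul_eq_mul, mul_one]
  rw [← Nat.card_eq_fintype_card, CyclicTI.card_hom, c.card_ka]

theorem mus_eq_ind (ω : Chr M K) :
    F.mus ω = Cfsg.indFun (kd M) (fun k : kd M => F.μ ω k) := by
  funext g
  by_cases hg : g ∈ kd M
  · rw [F.mus_on ω hg, show g = ((⟨g, hg⟩ : kd M) : M) from rfl, indFun_normal_apply,
      Finset.sum_congr rfl (g := fun _ : M => F.μ ω g) fun x _ => F.μ_class ω g x,
      Finset.sum_const, Finset.card_univ, ← Nat.card_eq_fintype_card, nsmul_eq_mul, c.card_eq]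
    have h0 : (Nat.card (kd M) : ℂ) ≠ 0 := Nat.cast_ne_zero.mpr Nat.card_pos.ne'
    push_cast
    field_simp
  · rw [F.mus_off ω hg, indFun_eq_zero_of_not_mem _ _ hg]

theorem mus_gen (ω : Chr M K) : Cfsg.IsGeneralizedCharacter M (F.mus ω) :=
  isGeneralizedCharacter_sum _ fun f _ => F.μ_gen _

theorem mus_class (ω : Chr M K) : Cfsg.IsClassFunction M (F.mus ω) :=
  IsGeneralizedCharacter.isClassFunction (F.mus_gen ω)

theorem mus_inner_μ (ω ω' : Chr M K) :
    Cfsg.classInner (F.mus ω) (F.μ ω') = if (∃ f, row c ω f = ω') then 1 else 0 := by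
  rw [mus, classInner_sum_left]
  split_ifs with h
  · obtain ⟨f, hf⟩ := h
    rw [Finset.sum_eq_single f, F.μ_orth, if_pos hf]
    · exact fun b _ hb => by rw [F.μ_orth, if_neg fun e => hb (row_injective c ω (e.trans hf.symm))]
    · exact fun h => absurd (Finset.mem_univ f) h
  · push Not at h
    exact Finset.sum_eq_zero fun f _ => by rw [F.μ_orth, if_neg (h f)]

theorem mus_inner_mus (ω ω' : Chr M K) : Cfsg.classInner (F.mus ω) (F.mus ω') =
    if (∃ f, row c ω f = ω') then (Nat.card K : ℂ) else 0 := by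
  haveI := c.semi.comm1
  conv_lhs => arg 2; rw [mus]
  rw [classInner_sum_right, Finset.sum_congr rfl fun f _ => F.mus_inner_μ ω (row c ω' f)]
  have hiff : ∀ f, (∃ f₁, row c ω f₁ = row c ω' f) ↔ ∃ f₁, row c ω f₁ = ω' := fun f => by
    rw [exists_row_eq_iff, exists_row_eq_iff]
    refine forall₂_congr fun w hw => ?_
    rw [show row c ω' f w = ω' w by
      rw [MonoidHom.mul_apply, CyclicTI.pull1_apply_of_mem c.semi.split f w hw, one_mul]]
  simp only [hiff]
  split_ifs with h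
  · rw [Finset.sum_const, Finset.card_univ, ← Nat.card_eq_fintype_card, CyclicTI.card_hom, c.card_ka,
      nsmul_one]
  · simp

theorem μ_mem_ne_one {ω : Chr M K} (hω : ¬ J0 ω) :
    (fun k : kd M => F.μ ω k) ≠ fun _ => 1 := by
  intro h
  obtain ⟨f, hf⟩ := exists_hom_of_degree_one (IsIrrCharacter.isCharacter (F.μ_irr ω))
    (congrFun h 1)
  set l : Chr M K := f.comp (ka M K ⊔ kb M K).subtype
  obtain ⟨-, e2⟩ := c.semi.shape_unique c.odd_sup (δ := (F.δ ω : ℂ)) (δ' := (1 : ℂ))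
    (Int.cast_ne_zero.mpr fun e => by simpa [e] using F.δ_sq ω) (ω := ω) (ω' := l) fun w hw => by
      rw [← F.μ_shape ω w hw, one_mul, hf]; rfl
  refine hω fun w hw => ?_
  have : (f (w : M) : ℂ) = 1 := by
    have := congrFun h ⟨(w : M), c.semi.le hw⟩
    simpa [hf] using this
  rw [e2]
  exact Units.ext this

theorem mus_mem {ω : Chr M K} (hω : ¬ J0 ω) : F.mus ω ∈ calS M :=
  ⟨_, F.μ_res ω, F.μ_mem_ne_one hω, fun a ha => by
    rw [Subgroup.mem_bot] at ha
    rw [show a = 1 from Subtype.ext ha], F.mus_eq_ind ω⟩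

/-- The degree of an exceptional character outside the trivial row. -/
theorem μ_deg_nat {ω : Chr M K} (hω : ¬ J0 ω) :
    ∃ d : ℕ, F.μ ω 1 = (d : ℂ) ∧ 2 * Nat.card K ≤ d + 1 ∧
      ∃ n : ℤ, 2 ≤ n ∧ (d : ℤ) = F.δ ω + n * Nat.card K := by
  obtain ⟨d, hd⟩ : ∃ d, Cfsg.charDegree (F.μ ω) = d := ⟨_, rfl⟩
  have hd1 : F.μ ω 1 = (d : ℂ) := hd ▸ CharX.irr_deg (⟨_, F.μ_irr ω⟩ : Cfsg.IrrCharacter M)
  have hodd : Odd d := hd ▸ c.odd_card.of_dvd_nat (CharX.irr_deg_dvd_card ⟨_, F.μ_irr ω⟩)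
  have hne : d ≠ 1 := by
    intro h1
    obtain ⟨f, hf⟩ := exists_hom_of_degree_one (IsIrrCharacter.isCharacter (F.μ_irr ω))
      (by rw [hd1, h1, Nat.cast_one])
    refine F.μ_mem_ne_one hω (funext fun k => ?_)
    rw [hf]
    simp only
    rw [show f (k : M) = 1 from MonoidHom.mem_ker.mp (Abelianization.commutator_subset_ker f k.2),
      Units.val_one]
  obtain ⟨n, hn⟩ := F.μ_deg ω
  rw [hd1] at hn
  have hn' : (d : ℤ) = F.δ ω + n * Nat.card K := by exact_mod_cast hn
  have h3 := c.three_le.1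
  have hKodd : Odd (Nat.card K) := c.hG.1.of_dvd_nat K.card_subgroup_dvd_card
  obtain ⟨a, ha⟩ := hodd
  obtain ⟨b, hb⟩ := hKodd
  have hs := Int.eq_one_or_neg_one_of_mul_eq_one (F.δ_sq ω)
  have hK0 : (0 : ℤ) < (Nat.card K : ℤ) := by omega
  have h2 : 2 ≤ n := by
    have hpos : 0 < n * (Nat.card K : ℤ) := by rcases hs with h | h <;> omega
    have hn0 : 0 < n := pos_of_mul_pos_left hpos hK0.le
    by_contra hlt
    have hn1 : n = 1 := by omega
    rw [hn1, one_mul] at hn'
    rcases hs with h | h <;> omega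
  refine ⟨d, hd1, ?_, n, h2, hn'⟩
  have := mul_le_mul_of_nonneg_right h2 hK0.le
  rcases hs with h | h <;> omega

/-- `|M_σ|` is at least `(|W₂| - 1) d²` plus one, `d` a lower bound for the degrees. -/
theorem card_kd_ge (F : Fam c) : ((Nat.card (wTwo M K) : ℝ) - 1) * ((2 * Nat.card K : ℝ) - 1) ^ 2 + 1 ≤
    (Nat.card (kd M) : ℝ) := by
  haveI := c.semi.comm2
  haveI : Fintype (kd M) := Fintype.ofFinite _
  set r : (kb M K →* ℂˣ) → Cfsg.IrrCharacter (kd M) :=
    fun g => ⟨_, F.μ_res (CyclicTI.pull2 c.semi.split g)⟩ with hr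
  have hJ : ∀ g : kb M K →* ℂˣ, g ≠ 1 → ¬ J0 (CyclicTI.pull2 c.semi.split g) := fun g hg h => hg <| by
    refine MonoidHom.ext fun b => ?_
    have := h (CyclicTI.inc2 _ _ b) (by rw [CyclicTI.coe_inc2]; exact b.2)
    simpa [CyclicTI.pull2] using this
  have hinj : Function.Injective r := by
    intro g g' h
    have hm : F.mus (CyclicTI.pull2 c.semi.split g) = F.mus (CyclicTI.pull2 c.semi.split g') := by
      rw [F.mus_eq_ind, F.mus_eq_ind]
      exact congrArg (Cfsg.indFun (kd M)) (congrArg Subtype.val h)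
    have h1 := F.mus_inner_μ (CyclicTI.pull2 c.semi.split g) (CyclicTI.pull2 c.semi.split g')
    rw [hm, F.mus_inner_μ, if_pos (show ∃ f, row c _ f = _ from
      ⟨1, MonoidHom.ext fun w => by simp [row, CyclicTI.pull1_one]⟩)] at h1
    split_ifs at h1 with h2
    · rw [exists_row_eq_iff] at h2
      refine MonoidHom.ext fun b => ?_
      have := h2 (CyclicTI.inc2 _ _ b) (by rw [CyclicTI.coe_inc2]; exact b.2)
      simpa [CyclicTI.pull2] using this
    · exact absurd h1 one_ne_zero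
  set S := (Finset.univ.erase (1 : kb M K →* ℂˣ)).image r with hS
  have hsum : (∑ χ : Cfsg.IrrCharacter (kd M), (Cfsg.charDegree (χ : kd M → ℂ) : ℝ) ^ 2) =
      (Nat.card (kd M) : ℝ) := by
    have h := sum_sq_degree (G := kd M)
    simp only [CharX.irr_deg] at h
    exact_mod_cast h
  have hone : principal (kd M) ∉ S := by
    intro h
    simp only [hS, Finset.mem_image, Finset.mem_erase] at h
    obtain ⟨g, ⟨hg, -⟩, e⟩ := h
    exact F.μ_mem_ne_one (hJ g hg) (congrArg Subtype.val e)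
  rw [← hsum]
  refine le_trans ?_ (Finset.sum_le_sum_of_subset_of_nonneg (Finset.subset_univ (insert (principal _) S))
    fun χ _ _ => sq_nonneg _)
  rw [Finset.sum_insert hone]
  have hp : Cfsg.charDegree ((principal (kd M) : Cfsg.IrrCharacter (kd M)) : kd M → ℂ) = 1 :=
    CharX.charDegree_one
  rw [hp, hS, Finset.sum_image fun a _ b _ e => hinj e]
  push_cast
  rw [one_pow, add_comm (1 : ℝ)]
  refine add_le_add ?_ le_rfl
  refine le_trans ?_ (Finset.sum_le_sum (f := fun _ => ((2 * Nat.card K : ℝ) - 1) ^ 2) fun g hg => ?_)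
  · rw [Finset.sum_const, Finset.card_erase_of_mem (Finset.mem_univ _), Finset.card_univ,
      ← Nat.card_eq_fintype_card, CyclicTI.card_hom, c.card_kb, nsmul_eq_mul,
      Nat.cast_sub (le_trans (by norm_num) c.three_le.2)]
    push_cast
    exact le_rfl
  · obtain ⟨d, hd, hle, -⟩ := F.μ_deg_nat (hJ g (Finset.mem_erase.mp hg).1)
    have e : Cfsg.charDegree (r g : kd M → ℂ) = d := by
      refine Nat.cast_injective (R := ℂ) ?_
      rw [← CharX.irr_deg, ← hd]
      rfl
    rw [e]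
    have h' : (2 * Nat.card K : ℝ) ≤ (d : ℝ) + 1 := by exact_mod_cast hle
    have h3 : (3 : ℝ) ≤ (Nat.card K : ℝ) := by exact_mod_cast c.three_le.1
    nlinarith

theorem mus_conj (ω : Chr M K) : Cfsg.conjFun (F.mus ω) = F.mus ω⁻¹ := by
  rw [F.mus_eq_ind, F.mus_eq_ind, IndSet.conjFun_indFun]
  congr 1
  funext k
  exact congrFun (F.μ_conj ω).1 (k : M)

end Fam

/-- A character induced from a non-trivial linear character of the derived subgroup. -/
theorem Ctx.exists_zeta (c : Ctx M K U) [Fintype M] :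
    ∃ ζ : M → ℂ, ζ ∈ calS M ∧ Cfsg.IsIrrCharacter M ζ ∧ ζ 1 = (Nat.card K : ℂ) ∧
      ∀ θ : kd M → ℂ, Cfsg.IsIrrCharacter (kd M) θ → θ 1 = 1 → θ ≠ (fun _ => 1) →
        Cfsg.IsIrrCharacter M (Cfsg.indFun (kd M) θ) := by
  have hirr : ∀ θ : kd M → ℂ, Cfsg.IsIrrCharacter (kd M) θ → θ 1 = 1 → θ ≠ (fun _ => 1) →
      Cfsg.IsIrrCharacter M (Cfsg.indFun (kd M) θ) := by
    intro θ hθ h1 hne
    refine c.semi.isIrr_ind hθ fun hinv => hne (funext fun k => ?_)
    obtain ⟨e, he, hek⟩ := c.semi.exists_extension hθ hinv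
    obtain ⟨f, hf⟩ := exists_hom_of_degree_one (IsIrrCharacter.isCharacter he)
      (by rw [← h1, ← hek 1]; rfl)
    rw [← hek k, hf]
    simp only
    rw [show f (k : M) = 1 from MonoidHom.mem_ker.mp (Abelianization.commutator_subset_ker f k.2),
      Units.val_one]
  haveI hsolv : Group.IsSolvable M := OddOrder.MinSimple.isSolvable c.hG c.hM.1
  haveI : Group.IsSolvable (kd M) := inferInstance
  have hne : ¬ (kd M) ≤ ⊥ := fun h => c.semi.ne2 (le_bot_iff.mp (c.semi.le.trans h))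
  obtain ⟨θ, hθ, hθ1⟩ := IndSet.exists_linear (kd M) inferInstance hne
  have hθ' := (IndSet.mem_over (kd M)).mp hθ
  refine ⟨Cfsg.indFun (kd M) (θ : kd M → ℂ), ⟨θ, θ.2, hθ'.1, hθ'.2, rfl⟩, hirr θ θ.2 hθ1 hθ'.1, ?_, hirr⟩
  rw [indFun_one_apply, c.semi.index_eq, c.card_ka, hθ1, mul_one]

/-- Members of `calS` are not real. -/
theorem Ctx.conj_ne (c : Ctx M K U) [Fintype M] {φ : M → ℂ} (hφ : φ ∈ calS M) :
    Cfsg.conjFun φ ≠ φ := by
  obtain ⟨θ, hθ, hne, -, rfl⟩ := hφ
  intro h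
  have hc : Cfsg.IsIrrCharacter (kd M) (Cfsg.conjFun θ) := IsIrrCharacter.conj hθ
  rw [IndSet.conjFun_indFun, IndSet.ind_eq_iff _ hc hθ] at h
  obtain ⟨g, hg⟩ := h
  have h2 : conjChar (kd M) (g * g) θ = θ := by
    rw [conjChar_mul]
    have hg' : conjChar (kd M) g θ = Cfsg.conjFun θ := by
      funext k
      have := congrArg conj (congrFun hg k)
      simpa [Cfsg.conjFun] using this
    funext k
    have e1 := congrFun hg' k
    have e2 := congrFun hg k
    simp only [Cfsg.conjFun] at e1 e2 ⊢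
    rw [hg']
    exact e2
  have hI : g * g ∈ inertia (kd M) θ := (mem_inertia _).mpr h2
  obtain ⟨m, hm⟩ := c.odd_card
  have hg2 : g = (g * g) ^ (m + 1) := by
    have h1 : g ^ Nat.card M = 1 := pow_card_eq_one'
    rw [hm, pow_succ, pow_mul, pow_two] at h1
    rw [pow_succ, ← mul_assoc, h1, one_mul]
  have hgI : conjChar (kd M) g θ = θ :=
    (mem_inertia _).mp (hg2 ▸ (inertia (kd M) θ).pow_mem hI _)
  refine hne (eq_one_of_real (c.odd_card.of_dvd_nat (Subgroup.card_subgroup_dvd_card _)) hθ fun k => ?_)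
  have e := congrFun hg k
  rw [show conjChar (kd M) g (Cfsg.conjFun θ) k = conj (conjChar (kd M) g θ k) from rfl, hgI] at e
  exact e

end Cfsg.Agent.OddChar.P10
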