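import Cfsg.Agent.Lib.OddChar.PF10.NonCoherent

/-!
# A contradiction from a partial coherent extension
-/

set_option linter.style.haveILetI false
set_option linter.unusedSectionVars false
set_option linter.unusedVariables false

namespace Cfsg.Agent.OddChar.P10

open Cfsg.Agent.Char
open scoped Classical ComplexConjugate

attribute [local instance] dualFintype

universe u

variable {G : Type u} [Group G] [Fintype G] {M K U : Subgroup G}

/-- A member of `calS` minus a multiple of `ζ` vanishes at one. -/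
theorem Ctx.diff_zero (c : Ctx M K U) [Fintype M] {ζ φ : M → ℂ} (hdeg : ζ 1 = (Nat.card K : ℂ))
    {d : ℕ} (hd : φ 1 = (d : ℂ) * (Nat.card K : ℂ)) : (φ - (d : ℂ) • ζ) 1 = 0 := by
  simp [hdeg, hd]

theorem Ctx.diff_mem (c : Ctx M K U) [Fintype M] {X : Set (M → ℂ)} {ζ φ : M → ℂ} (hζ : ζ ∈ X)
    (hφ : φ ∈ X) (hdeg : ζ 1 = (Nat.card K : ℂ)) {d : ℕ}
    (hd : φ 1 = (d : ℂ) * (Nat.card K : ℂ)) :
    φ - (d : ℂ) • ζ ∈ Cfsg.zspanOn X ({1}ᶜ : Set M) := by
  refine Coherence.mem_zspanOn_one.mpr ⟨Submodule.sub_mem _ (Submodule.subset_span hφ) ?_,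
    c.diff_zero hdeg hd⟩
  rw [Nat.cast_smul_eq_nsmul]
  exact Submodule.smul_of_tower_mem _ _ (Submodule.subset_span hζ)

namespace Coh

variable {c : Ctx M K U} [Fintype M] {X : Set (M → ℂ)} {ζ : M → ℂ}

/-- An extension from one virtual character of norm one with the right coefficients. -/
noncomputable def ofU (F : Fam c) (hX : X ⊆ calS M) (hmem : ζ ∈ X) (hcmem : Cfsg.conjFun ζ ∈ X)
    (hirr : Cfsg.IsIrrCharacter M ζ) (hdeg : ζ 1 = (Nat.card K : ℂ)) (u : G → ℂ)
    (hu : Cfsg.IsGeneralizedCharacter G u) (hu1 : Cfsg.classInner u u = 1)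
    (hXu : ∀ φ ∈ X, ∀ d : ℕ, φ 1 = (d : ℂ) * (Nat.card K : ℂ) →
      Cfsg.classInner (tau M (φ - (d : ℂ) • ζ)) u = Cfsg.classInner φ ζ - (d : ℂ)) :
    Coh c X ζ where
  t β := tau M (β - (β 1 / (Nat.card K : ℂ)) • ζ) + (β 1 / (Nat.card K : ℂ)) • u
  sub := hX
  mem := hmem
  cmem := hcmem
  irr := hirr
  deg := hdeg
  agree α hα := by
    simp [(Coherence.mem_zspanOn_one.mp hα).2]
  iso := by
    have hK : (Nat.card K : ℂ) ≠ 0 := Nat.cast_ne_zero.mpr Nat.card_pos.ne'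
    set L : (M → ℂ) → (G → ℂ) :=
      fun β => tau M (β - (β 1 / (Nat.card K : ℂ)) • ζ) + (β 1 / (Nat.card K : ℂ)) • u with hL
    have hadd : ∀ a b, L (a + b) = L a + L b := fun a b => by
      simp only [hL, Pi.add_apply, add_div, add_smul]
      rw [show a + b - ((a 1 / (Nat.card K : ℂ)) • ζ + (b 1 / (Nat.card K : ℂ)) • ζ) =
        (a - (a 1 / (Nat.card K : ℂ)) • ζ) + (b - (b 1 / (Nat.card K : ℂ)) • ζ) by abel, tau_add]
      abel
    have hsmul : ∀ (z : ℂ) a, L (z • a) = z • L a := fun z a => by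
      simp only [hL, Pi.smul_apply, smul_eq_mul, mul_div_assoc, mul_smul, ← smul_sub, tau_smul,
        smul_add]
    have hzsmul : ∀ (n : ℤ) a, L (n • a) = n • L a := fun n a => by
      rw [← Int.cast_smul_eq_zsmul ℂ, hsmul, Int.cast_smul_eq_zsmul]
    have hzero : L 0 = 0 := by simpa using hsmul 0 0
    have hval : ∀ φ ∈ X, ∃ d : ℕ, φ 1 = (d : ℂ) * (Nat.card K : ℂ) ∧
        L φ = tau M (φ - (d : ℂ) • ζ) + (d : ℂ) • u := fun φ hφ => by
      obtain ⟨d, -, hd⟩ := c.calS_deg (hX hφ)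
      refine ⟨d, hd, ?_⟩
      simp only [hL]
      rw [show φ 1 / (Nat.card K : ℂ) = (d : ℂ) by rw [hd, mul_div_cancel_right₀ _ hK]]
    show Cfsg.IsLinearIsometryOn (Cfsg.zspan X) L
    clear_value L
    refine ⟨fun a _ b _ => hadd a b, fun a _ n => hzsmul n a, ?_, ?_⟩
    · intro a ha b hb
      induction ha using Submodule.span_induction with
      | mem φ hφ =>
        induction hb using Submodule.span_induction with
        | mem ψ hψ =>
          obtain ⟨d, hd, e⟩ := hval φ hφ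
          obtain ⟨d', hd', e'⟩ := hval ψ hψ
          obtain ⟨h1, h1s⟩ := c.calS_supp (c.diff_mem (X := calS M) (hX hmem) (hX hφ) hdeg hd)
          obtain ⟨h2, -⟩ := c.calS_supp (c.diff_mem (X := calS M) (hX hmem) (hX hψ) hdeg hd')
          have r1 := hXu φ hφ d hd
          have r2 : Cfsg.classInner u (tau M (ψ - (d' : ℂ) • ζ)) =
              Cfsg.classInner ζ ψ - (d' : ℂ) := by
            rw [← classInner_conj_symm, hXu ψ hψ d' hd', map_sub, classInner_conj_symm, map_natCast]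
          show Cfsg.classInner (L φ) (L ψ) = _
          rw [e, e', classInner_add_left, classInner_add_right, classInner_add_right,
            c.tau_inner h1 h1s h2]
          simp only [classInner_sub_left, classInner_sub_right, classInner_smul_left,
            classInner_smul_right, map_natCast, r1, r2, hu1, classInner_self_irr hirr]
          ring
        | zero =>
          show Cfsg.classInner (L φ) (L 0) = _
          rw [hzero, classInner_zero_right, classInner_zero_right]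
        | add p q _ _ hp hq =>
          show Cfsg.classInner (L φ) (L (p + q)) = _
          rw [hadd, classInner_add_right, classInner_add_right, hp, hq]
        | smul n p _ hp =>
          show Cfsg.classInner (L φ) (L (n • p)) = _
          rw [hzsmul, Coherence.classInner_zsmul_right, Coherence.classInner_zsmul_right, hp]
      | zero =>
        show Cfsg.classInner (L 0) (L b) = _
        rw [hzero, classInner_zero_left, classInner_zero_left]
      | add p q _ _ hp hq =>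
        show Cfsg.classInner (L (p + q)) (L b) = _
        rw [hadd, classInner_add_left, classInner_add_left, hp, hq]
      | smul n p _ hp =>
        show Cfsg.classInner (L (n • p)) (L b) = _
        rw [hzsmul, Coherence.classInner_zsmul_left, Coherence.classInner_zsmul_left, hp]
    · intro a ha
      induction ha using Submodule.span_induction with
      | mem φ hφ =>
        obtain ⟨d, hd, e⟩ := hval φ hφ
        have hm := c.diff_mem (X := calS M) (hX hmem) (hX hφ) hdeg hd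
        show Cfsg.IsGeneralizedCharacter G (L φ)
        rw [e]
        refine IsGeneralizedCharacter.add (c.calS_isometry.2.2.2 _ hm) ?_
        rw [← Int.cast_natCast]
        exact IsGeneralizedCharacter.int_smul hu _
      | zero =>
        show Cfsg.IsGeneralizedCharacter G (L 0)
        rw [hzero]; exact isGeneralizedCharacter_zero
      | add p q _ _ hp hq =>
        show Cfsg.IsGeneralizedCharacter G (L (p + q))
        rw [hadd]; exact IsGeneralizedCharacter.add hp hq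
      | smul n p _ hp =>
        show Cfsg.IsGeneralizedCharacter G (L (n • p))
        rw [hzsmul]; exact IsGeneralizedCharacter.zsmul hp n

theorem ofU_u (F : Fam c) (hX : X ⊆ calS M) (hmem : ζ ∈ X) (hcmem : Cfsg.conjFun ζ ∈ X)
    (hirr : Cfsg.IsIrrCharacter M ζ) (hdeg : ζ 1 = (Nat.card K : ℂ)) (u : G → ℂ)
    (hu : Cfsg.IsGeneralizedCharacter G u) (hu1 : Cfsg.classInner u u = 1)
    (hXu : ∀ φ ∈ X, ∀ d : ℕ, φ 1 = (d : ℂ) * (Nat.card K : ℂ) →
      Cfsg.classInner (tau M (φ - (d : ℂ) • ζ)) u = Cfsg.classInner φ ζ - (d : ℂ)) :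
    (ofU F hX hmem hcmem hirr hdeg u hu hu1 hXu).u = u := by
  have hK : (Nat.card K : ℂ) ≠ 0 := Nat.cast_ne_zero.mpr Nat.card_pos.ne'
  simp [Coh.u, ofU, hdeg, tau_zero]

variable (F : Fam c)
include F

/-- The coefficient of `τ α_{ij}` when `X` contains the conjugate of `μ_j`. -/
theorem alpha_coeff_pair (h : Coh c X ζ) {ω : Chr M K} (hI : I0 ω) (hJ : ¬ J0 ω)
    (hmem : F.mus ω⁻¹ ∈ X) {n : ℤ} (hn : 2 ≤ n)
    (hd : F.μ ω 1 = (F.δ ω : ℂ) + (n : ℂ) * (Nat.card K : ℂ)) (f : ka M K →* ℂˣ) :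
    Cfsg.classInner (tau M (F.alpha ζ ω n f)) h.u = -(n : ℂ) := by
  obtain ⟨d, hd1, -⟩ := F.μ_deg_nat hJ
  have hne : F.mus ω⁻¹ ≠ ζ := fun e => F.mus_not_irr ω⁻¹ (e.symm ▸ h.irr)
  refine h.alpha_coeff F hI hn hd hJ f {ζ, F.mus ω⁻¹} (fun φ hφ => ?_) (by simp)
    (fun φ => if φ = ζ then 1 else d) (fun φ hφ => ?_) (fun φ hφ hne' => ?_) ?_
  · rcases Finset.mem_insert.mp hφ with rfl | hφ
    · exact h.mem
    · rw [Finset.mem_singleton.mp hφ]; exact hmem
  · rcases Finset.mem_insert.mp hφ with rfl | hφ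
    · simp [h.deg]
    · rw [Finset.mem_singleton.mp hφ, if_neg hne, F.mus_on _ (one_mem _), F.μ_inv_one, hd1, mul_comm]
  · rcases Finset.mem_insert.mp hφ with rfl | hφ
    · exact absurd rfl hne'
    · rw [Finset.mem_singleton.mp hφ]
      have h' : ∀ w, Cfsg.classInner (F.μ w) (F.mus ω⁻¹) =
          conj (if (∃ f, row c ω⁻¹ f = w) then (1 : ℂ) else 0) := fun w => by
        rw [← classInner_conj_symm, F.mus_inner_μ]
      have n1 : ¬ ∃ f', row c ω⁻¹ f' = row c ω f :=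
        fun ⟨f', e⟩ => Fam.row_ne (c := c) hJ f f' e.symm
      have n2 : ¬ ∃ f', row c ω⁻¹ f' = row c 1 f := fun ⟨f', e⟩ =>
        (J0_row_iff c ω⁻¹ f').not.mpr (not_J0_inv hJ) (e ▸ Fam.row_one_J0 (c := c) f)
      have hz : Cfsg.classInner ζ (F.mus ω⁻¹) = 0 := by
        rw [← classInner_conj_symm, F.mus_inner_irr h.zetaS h.irr, map_zero]
      simp only [Fam.alpha, classInner_sub_left, classInner_smul_left, h', if_neg n1, if_neg n2, hz,
        map_zero, mul_zero, sub_zero]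
  · rw [Finset.sum_pair hne.symm, if_pos rfl, if_neg hne, classInner_self_irr h.irr, F.mus_inner_self]
    simp only [Complex.one_re, Complex.natCast_re, Nat.cast_one, one_pow, div_one]
    have hk : (3 : ℝ) ≤ (Nat.card K : ℝ) := by exact_mod_cast c.three_le.1
    have hn' : (2 : ℝ) ≤ (n : ℝ) := by exact_mod_cast hn
    have hs := Int.eq_one_or_neg_one_of_mul_eq_one (F.δ_sq ω)
    have hdd : (n : ℝ) * (Nat.card K : ℝ) - 1 ≤ (d : ℝ) := by
      have e : (d : ℤ) = F.δ ω + n * Nat.card K := by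
        rw [hd1] at hd; exact_mod_cast hd
      have : n * (Nat.card K : ℤ) - 1 ≤ (d : ℤ) := by rcases hs with h | h <;> omega
      exact_mod_cast this
    set k : ℝ := (Nat.card K : ℝ)
    have h6 : (6 : ℝ) ≤ (n : ℝ) * k := by nlinarith
    have h7 : (2 * (n : ℝ) + 1) * k < (d : ℝ) ^ 2 := by
      have := mul_le_mul hdd hdd (by linarith) (by positivity)
      nlinarith [mul_le_mul_of_nonneg_left (show (2 : ℝ) ≤ (n : ℝ) * k - 4 by linarith)
        (show (0 : ℝ) ≤ (n : ℝ) * k by linarith)]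
    have := (lt_div_iff₀ (show (0 : ℝ) < k by linarith)).mpr h7
    linarith

/-- The coefficient of `τ(μ_0 - ζ)` when `X` contains some `μ_j`. -/
theorem psi_coeff_mus (h : Coh c X ζ) {ω : Chr M K} (hI : I0 ω) (hJ : ¬ J0 ω) (hm : F.mus ω ∈ X)
    {n : ℤ} (hd : F.μ ω 1 = (F.δ ω : ℂ) + (n : ℂ) * (Nat.card K : ℂ))
    (hu : ∀ f, Cfsg.classInner (tau M (F.alpha ζ ω n f)) h.u = -(n : ℂ)) :
    Cfsg.classInner (tau M (F.psi ζ)) h.u = -1 := by
  haveI := c.semi.comm1
  obtain ⟨d, hd1, -⟩ := F.μ_deg_nat hJ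
  have hζ := h.zetaS
  have hdeg : F.mus ω 1 = (d : ℂ) * (Nat.card K : ℂ) := by
    rw [F.mus_on _ (one_mem _), hd1, mul_comm]
  have hcard : ((Finset.univ : Finset (ka M K →* ℂˣ)).card : ℂ) = (Nat.card K : ℂ) := by
    rw [Finset.card_univ, ← Nat.card_eq_fintype_card, CyclicTI.card_hom, c.card_ka]
  have e : F.mus ω - (d : ℂ) • ζ = (∑ f, F.alpha ζ ω n f) + (F.δ ω : ℂ) • F.psi ζ := by
    rw [← hd1]
    simp only [Fam.alpha, Fam.psi, Finset.sum_sub_distrib, Finset.sum_const, ← Finset.smul_sum,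
      smul_sub, hd, ← Nat.cast_smul_eq_nsmul ℂ, hcard, add_smul, smul_smul, mul_comm (n : ℂ)]
    rw [show F.mus ω = ∑ f, F.μ (row c ω f) from rfl, show F.mus 1 = ∑ f, F.μ (row c 1 f) from rfl]
    abel
  have hz := c.diff_mem (X := X) h.mem hm h.deg hdeg
  have hin : Cfsg.classInner (tau M (F.mus ω - (d : ℂ) • ζ)) h.u = -(d : ℂ) := by
    rw [← h.agree _ hz, Coh.u, Coherence.iso_inner (M := Submodule.span ℤ X) h.iso hz.1
      (Submodule.subset_span h.mem), classInner_sub_left, classInner_smul_left,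
      F.mus_inner_irr hζ h.irr, classInner_self_irr h.irr]
    simp
  rw [e, tau_add, tau_sum, tau_smul, classInner_add_left, classInner_sum_left, classInner_smul_left,
    Finset.sum_congr rfl fun f _ => hu f, Finset.sum_const, nsmul_eq_mul, hcard] at hin
  have hd' : (d : ℂ) = (F.δ ω : ℂ) + (n : ℂ) * (Nat.card K : ℂ) := hd1 ▸ hd
  have hs : (F.δ ω : ℂ) * (F.δ ω : ℂ) = 1 := by exact_mod_cast F.δ_sq ω
  linear_combination (F.δ ω : ℂ) * hin - (F.δ ω : ℂ) * hd' -
    (Cfsg.classInner (tau M (F.psi ζ)) h.u + 1) * hs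

/-- The coefficient of `τ α_{ij}` from many irreducible members of `X`. -/
theorem alpha_coeff_irr (h : Coh c X ζ) (T : Finset (M → ℂ)) (hT : ∀ φ ∈ T, φ ∈ X)
    (hirr : ∀ φ ∈ T, Cfsg.IsIrrCharacter M φ) (hζT : ζ ∈ T) (d : (M → ℂ) → ℕ)
    (hdeg : ∀ φ ∈ T, φ 1 = (d φ : ℂ) * (Nat.card K : ℂ)) {ω : Chr M K} (hI : I0 ω) (hJ : ¬ J0 ω)
    {n : ℤ} (hn : 2 ≤ n) (hd : F.μ ω 1 = (F.δ ω : ℂ) + (n : ℂ) * (Nat.card K : ℂ))
    (hbig : (2 * n + 2 : ℝ) < ∑ φ ∈ T, (d φ : ℝ) ^ 2) (f : ka M K →* ℂˣ) :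
    Cfsg.classInner (tau M (F.alpha ζ ω n f)) h.u = -(n : ℂ) := by
  refine h.alpha_coeff F hI hn hd hJ f T hT hζT d hdeg (fun φ hφ hne => ?_) (hbig.trans_eq ?_)
  · have hS := h.sub (hT φ hφ)
    simp [Fam.alpha, classInner_sub_left, classInner_smul_left, F.μ_inner_irr hS (hirr φ hφ),
      classInner_irr_of_ne h.irr (hirr φ hφ) (Ne.symm hne)]
  · exact Finset.sum_congr rfl fun φ hφ => by simp [classInner_self_irr (hirr φ hφ)]

/-- The coefficient of `τ(μ_0 - ζ)` from many irreducible members of `X`. -/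
theorem psi_coeff_irr (h : Coh c X ζ) (T : Finset (M → ℂ)) (hT : ∀ φ ∈ T, φ ∈ X)
    (hcT : ∀ φ ∈ T, Cfsg.conjFun φ ∈ X) (hirr : ∀ φ ∈ T, Cfsg.IsIrrCharacter M φ) (hζT : ζ ∈ T)
    (d : (M → ℂ) → ℕ) (hdeg : ∀ φ ∈ T, φ 1 = (d φ : ℂ) * (Nat.card K : ℂ))
    (hbig : (2 : ℝ) < ∑ φ ∈ T, (d φ : ℝ) ^ 2) {ω : Chr M K} (hI : I0 ω) (hJ : ¬ J0 ω)
    {n : ℤ} (hn : 2 ≤ n) (hd : F.μ ω 1 = (F.δ ω : ℂ) + (n : ℂ) * (Nat.card K : ℂ))
    (hu : ∀ f, Cfsg.classInner (tau M (F.alpha ζ ω n f)) h.u = -(n : ℂ)) :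
    Cfsg.classInner (tau M (F.psi ζ)) h.u = -1 := by
  haveI := c.semi.comm1
  have hζ := h.zetaS
  have hc := IsGeneralizedCharacter.isClassFunction (F.psi_gen (ζ := ζ) hζ)
  have hs := F.psi_supp (ζ := ζ) hζ h.deg
  have hg : Cfsg.IsGeneralizedCharacter G (tau M (F.psi ζ)) := c.tau_gen (F.psi_gen hζ) hs
  set Y := tau M (F.psi ζ) with hYdef
  obtain ⟨b, hb⟩ := IsGeneralizedCharacter.exists_classInner_int hg h.u_gen
  choose q hq using fun f : ka M K →* ℂˣ =>
    IsGeneralizedCharacter.exists_classInner_int hg (F.η_gen (row c 1 f))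
  set m := b + 1 with hm
  set e : ℤ := 1 - F.δ ω * n * m with he
  suffices h0 : m = 0 by
    rw [hb, show b = -1 by omega]; simp
  by_contra hm0
  have he0 : e ≠ 0 := fun e0 => by
    rcases Int.isUnit_eq_one_or (IsUnit.of_mul_eq_one n
      (show F.δ ω * m * n = 1 by linarith [show (1 : ℤ) - F.δ ω * n * m = 0 from e0]) |>.map
      (MonoidHom.id ℤ)) with h1 | h1 <;>
    · have h2 : F.δ ω * m * n = 1 := by linarith [show (1 : ℤ) - F.δ ω * n * m = 0 from e0]
      rw [MonoidHom.id_apply] at h1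
      rw [h1] at h2
      omega
  have hrel : ∀ f, Cfsg.classInner Y (F.η (row c ω f)) = ((q f - e : ℤ) : ℂ) := fun f => by
    rw [h.psi_rel F hI hd hJ f (hu f), ← hYdef, hb, hq]
    simp only [he, hm]
    push_cast
    ring
  set w : ↥T ⊕ ((ka M K →* ℂˣ) × Bool) → G → ℂ := fun i =>
    i.elim (fun φ => h.t φ.1) (fun j => if j.2 then F.η (row c 1 j.1) else F.η (row c ω j.1)) with hw
  set bb : ↥T ⊕ ((ka M K →* ℂˣ) × Bool) → ℝ := fun i =>
    i.elim (fun φ => if φ.1 = ζ then (b : ℝ) else (d φ.1 : ℝ) * (m : ℝ))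
      (fun j => if j.2 then (q j.1 : ℝ) else (q j.1 : ℝ) - (e : ℝ)) with hbb
  have hperp : ∀ (φ : ↥T) j, Cfsg.classInner (h.t φ.1) (F.η j) = 0 := fun φ j =>
    h.orth_eta F (hT φ φ.2) (hcT φ φ.2) (hirr φ φ.2) j
  have hperp' : ∀ (φ : ↥T) j, Cfsg.classInner (F.η j) (h.t φ.1) = 0 := fun φ j => by
    rw [← classInner_conj_symm, hperp, map_zero]
  have hne1 : ∀ f f', row c 1 f ≠ row c ω f' := fun f f' e =>
    (J0_row_iff c ω f').not.mpr hJ (e ▸ Fam.row_one_J0 (c := c) f)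
  have hB := (Coherence.bessel Finset.univ w (fun _ => 1) bb (fun _ _ => one_pos)
    (fun i _ j _ hne => by
      rcases i with φ | ⟨f, i⟩ <;> rcases j with ψ | ⟨f', j⟩
      · show Cfsg.classInner (h.t φ.1) (h.t ψ.1) = 0
        rw [h.t_inner (hT φ φ.2) (hT ψ ψ.2)]
        exact classInner_irr_of_ne (hirr φ φ.2) (hirr ψ ψ.2) fun e => hne (congrArg Sum.inl (Subtype.ext e))
      · cases j <;> exact hperp φ _
      · cases i <;> exact hperp' ψ _
      · cases i <;> cases j <;>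
          simp [hw, F.η_orth, (row_injective c _).eq_iff, hne1, (hne1 _ _).symm] at hne ⊢ <;>
          exact hne)
    (fun i _ => by
      rcases i with φ | ⟨f, i⟩
      · show Cfsg.classInner (h.t φ.1) (h.t φ.1) = _
        rw [h.t_inner (hT φ φ.2) (hT φ φ.2), classInner_self_irr (hirr φ φ.2)]; simp
      · cases i <;> simp [hw, F.η_orth])
    (x := Y) (fun i _ => by
      rcases i with φ | ⟨f, i⟩
      · show Cfsg.classInner Y (h.t φ.1) = ((if φ.1 = ζ then (b : ℝ) else (d φ.1 : ℝ) * (m : ℝ) : ℝ) : ℂ)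
        by_cases e : φ.1 = ζ
        · rw [if_pos e, e]
          show Cfsg.classInner Y h.u = _
          rw [hb]; simp
        · rw [if_neg e, h.transfer hc hs (hT φ φ.2) (hdeg φ φ.2), ← hYdef, hb, F.psi_inner_zeta hζ h.irr]
          simp only [Fam.psi, classInner_sub_left, F.mus_inner_irr (h.sub (hT φ φ.2)) (hirr φ φ.2),
            classInner_irr_of_ne h.irr (hirr φ φ.2) (Ne.symm e), hm]
          push_cast; ring
      · cases i
        · show Cfsg.classInner Y (F.η (row c ω f)) = (((q f : ℝ) - (e : ℝ) : ℝ) : ℂ)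
          rw [hrel f]; push_cast; ring
        · show Cfsg.classInner Y (F.η (row c 1 f)) = (((q f : ℝ)) : ℂ)
          rw [hq f]; simp)
    (N := (Nat.card K : ℝ) + 1) (by
      rw [hYdef, c.tau_inner hc hs hc, F.psi_norm hζ h.irr])).1
  simp only [Fintype.sum_sum_type, Fintype.sum_prod_type, Fintype.sum_bool, div_one, hbb,
    Sum.elim_inl, Sum.elim_inr, if_true, Bool.false_eq_true, if_false] at hB
  have hrow : ∀ f, (1 : ℝ) ≤ (q f : ℝ) ^ 2 + ((q f : ℝ) - (e : ℝ)) ^ 2 := fun f => by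
    have : (1 : ℤ) ≤ q f ^ 2 + (q f - e) ^ 2 := by
      by_cases hq0 : q f = 0
      · rw [hq0]
        have := sq_pos_iff.mpr he0
        linarith [show (0 - e) ^ 2 = e ^ 2 by ring]
      · have := sq_pos_iff.mpr hq0
        linarith [sq_nonneg (q f - e)]
    exact_mod_cast this
  have hge : (Nat.card K : ℝ) ≤ ∑ f, ((q f : ℝ) ^ 2 + ((q f : ℝ) - (e : ℝ)) ^ 2) := by
    refine le_of_eq_of_le ?_ (Finset.sum_le_sum fun f _ => hrow f)
    rw [Finset.sum_const, Finset.card_univ, nsmul_one, ← Nat.card_eq_fintype_card, CyclicTI.card_hom,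
      c.card_ka]
  rw [Finset.univ_eq_attach, Finset.sum_attach T fun φ => (if φ = ζ then (b : ℝ) else (d φ : ℝ) * (m : ℝ)) ^ 2,
    ← Finset.add_sum_erase T _ hζT, if_pos rfl,
    Finset.sum_congr rfl (g := fun φ => (m : ℝ) ^ 2 * (d φ : ℝ) ^ 2) (fun φ hφ => by
      rw [if_neg (Finset.ne_of_mem_erase hφ)]; ring), ← Finset.mul_sum] at hB
  have hdζ : d ζ = 1 := by
    have h2 : (d ζ : ℂ) * (Nat.card K : ℂ) = 1 * (Nat.card K : ℂ) := by
      rw [one_mul, ← hdeg ζ hζT, h.deg]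
    exact_mod_cast mul_right_cancel₀ (Nat.cast_ne_zero.mpr Nat.card_pos.ne') h2
  rw [← Finset.add_sum_erase T _ hζT, hdζ, Nat.cast_one, one_pow] at hbig
  set S := ∑ φ ∈ T.erase ζ, (d φ : ℝ) ^ 2
  have hbm : (b : ℝ) = (m : ℝ) - 1 := by rw [hm]; push_cast; ring
  rw [hbm] at hB
  have h1 : (1 : ℝ) ≤ (m : ℝ) ^ 2 := by
    have : (1 : ℤ) ≤ m ^ 2 := by
      have := sq_pos_iff.mpr hm0
      omega
    exact_mod_cast this
  have h2 : (0 : ℝ) ≤ (m : ℝ) ^ 2 - (m : ℝ) := by
    have : (0 : ℤ) ≤ m ^ 2 - m := sub_nonneg.mpr (Int.le_self_sq _)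
    exact_mod_cast this
  nlinarith [mul_pos (lt_of_lt_of_le one_pos h1) (show (0 : ℝ) < S - 1 by linarith)]

/-- The coefficient at the image of `ζ` of the image of a combination of the exceptional characters. -/
theorem mus_coeff (h : Coh c X ζ) {ω : Chr M K} (hI : I0 ω) {n : ℤ}
    (hd : F.μ ω 1 = (F.δ ω : ℂ) + (n : ℂ) * (Nat.card K : ℂ)) (hJ : ¬ J0 ω)
    (hu : ∀ f, Cfsg.classInner (tau M (F.alpha ζ ω n f)) h.u = -(n : ℂ))
    (hY : tau M (F.psi ζ) = (∑ f, F.η (row c 1 f)) - h.u) :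
    Cfsg.classInner (tau M (F.mus ω - F.μ ω 1 • ζ)) h.u = -F.μ ω 1 := by
  have hperp : ∀ j, Cfsg.classInner (F.η j) h.u = 0 := fun j => by
    rw [← classInner_conj_symm, h.u_orth F, map_zero]
  rw [h.mus_shape F hI hd hJ hu hY]
  simp [classInner_sub_left, classInner_smul_left, classInner_sum_left, hperp, h.u_norm]

/-- The values of `u` off the Dade support at elements of order prime to `|W₁|`. -/
theorem one_le_u' (h : Coh c X ζ) (hY : tau M (F.psi ζ) = (∑ f, F.η (row c 1 f)) - h.u) {g : G}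
    (hg : g ∉ dadeSet M) (hco : Nat.Coprime (orderOf g) (Nat.card K)) : 1 ≤ ‖h.u g‖ ^ 2 := by
  haveI := c.semi.comm1
  have hY := congrFun hY g
  rw [show tau M (F.psi ζ) g = 0 from
    Dade.dadeIsometry_zero c.hypothesis fun a ha hga => hg ⟨a, ha, hga⟩, Pi.sub_apply,
    Finset.sum_apply, eq_comm, sub_eq_zero] at hY
  choose m hm using fun f : ka M K →* ℂˣ => F.η_int (row c 1 f) (Fam.row_one_J0 (c := c) f) g hco
  have hinv : ∀ f, m f⁻¹ = m f := fun f => by
    refine Int.cast_injective (α := ℂ) ?_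
    show ((m f⁻¹ : ℤ) : ℂ) = (m f : ℂ)
    rw [← hm, show row c 1 f⁻¹ = (row c 1 f)⁻¹ from MonoidHom.ext fun w => by
      simp [row, CyclicTI.pull1], ← F.η_conj, Cfsg.conjFun, hm, map_intCast]
  have h1 : m 1 = 1 := by
    refine Int.cast_injective (α := ℂ) ?_
    show ((m 1 : ℤ) : ℂ) = ((1 : ℤ) : ℂ)
    rw [← hm, show row c 1 1 = 1 from MonoidHom.ext fun w => by simp [row, CyclicTI.pull1], F.η_one,
      Int.cast_one]
  have hfix : ∀ f : ka M K →* ℂˣ, f⁻¹ = f → f = 1 := fun f hf => by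
    obtain ⟨j, hj⟩ : Odd (Nat.card (ka M K)) := c.odd_card.of_dvd_nat (Subgroup.card_subgroup_dvd_card _)
    refine MonoidHom.ext fun x => ?_
    have h2 : f x * f x = 1 := by
      nth_rewrite 1 [← hf]
      rw [MonoidHom.inv_apply, inv_mul_cancel]
    have h3 : f x ^ Nat.card (ka M K) = 1 := by rw [← map_pow, pow_card_eq_one', map_one]
    rw [hj, pow_succ, pow_mul, pow_two, h2, one_pow, one_mul] at h3
    exact h3
  have hodd : ((∑ f, m f : ℤ) : ZMod 2) = 1 := by
    rw [← Finset.add_sum_erase _ _ (Finset.mem_univ (1 : ka M K →* ℂˣ)), h1]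
    push_cast
    rw [add_eq_left]
    refine Finset.sum_involution (fun f _ => f⁻¹) (fun f _ => ?_) (fun f hf _ e => ?_) (fun f hf => ?_)
      (fun f _ => inv_inv f)
    · rw [hinv]; exact CharTwo.add_self_eq_zero _
    · exact Finset.ne_of_mem_erase hf (hfix f e)
    · exact Finset.mem_erase.mpr ⟨fun e => Finset.ne_of_mem_erase hf
        (MonoidHom.ext fun x => by simpa using DFunLike.congr_fun e x), Finset.mem_univ _⟩
  have hne : (∑ f, m f) ≠ 0 := fun e => by rw [e] at hodd; exact absurd hodd (by decide)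
  rw [← hY, Finset.sum_congr rfl fun f _ => hm f, ← Int.cast_sum, Complex.norm_intCast, sq_abs]
  have : (1 : ℤ) ≤ (∑ f, m f) ^ 2 := by
    have := sq_pos_iff.mpr hne
    omega
  exact_mod_cast this

/-- Cauchy's inequality against a test function. -/
theorem rho_lower (h : Coh c X ζ)
    (hmus : ∀ ω, I0 ω → ¬ J0 ω →
      Cfsg.classInner (tau M (F.mus ω - F.μ ω 1 • ζ)) h.u = -F.μ ω 1)
    (hY : Cfsg.classInner (tau M (F.psi ζ)) h.u = -1) :
    ∃ D : ℝ, ((Nat.card (wTwo M K) : ℝ) - 1) * ((2 * Nat.card K : ℝ) - 1) ^ 2 + (1 + Nat.card K) ≤ D ∧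
      1 - (Nat.card K : ℝ) / D ≤ (Nat.card M : ℝ)⁻¹ *
        ∑ a ∈ Finset.univ.filter (fun a : M => (a : G) ∈ Cfsg.typeA0 M), ‖c.rho h.u a‖ ^ 2 := by
  haveI := c.semi.comm2
  have hζ := h.zetaS
  set Gs := (Finset.univ : Finset (kb M K →* ℂˣ)).erase 1 with hGs
  set om : (kb M K →* ℂˣ) → Chr M K := fun g => CyclicTI.pull2 c.semi.split g with hom
  have hI : ∀ g, I0 (om g) := fun g => Fam.pull2_I0 c g
  have hJ : ∀ g ∈ Gs, ¬ J0 (om g) := fun g hg => Fam.pull2_not_J0 c (Finset.ne_of_mem_erase hg)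
  have hdex : ∀ g ∈ Gs, ∃ d : ℕ, F.μ (om g) 1 = (d : ℂ) ∧ 2 * Nat.card K ≤ d + 1 := fun g hg => by
    obtain ⟨d, h1, h2, -⟩ := F.μ_deg_nat (hJ g hg)
    exact ⟨d, h1, h2⟩
  choose! d hd hdge using hdex
  set S : ℝ := ∑ g ∈ Gs, (d g : ℝ) ^ 2 with hS
  set k : ℝ := (Nat.card K : ℝ) with hk
  set D : ℝ := 1 + k + S with hD
  have hk3 : (3 : ℝ) ≤ k := by rw [hk]; exact_mod_cast c.three_le.1
  have hS0 : 0 ≤ S := Finset.sum_nonneg fun _ _ => sq_nonneg _
  have hD0 : 0 < D := by linarith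
  refine ⟨D, ?_, ?_⟩
  · have hsum : ((Nat.card (wTwo M K) : ℝ) - 1) * (2 * k - 1) ^ 2 ≤ S := by
      refine le_trans ?_ (Finset.sum_le_sum (f := fun _ => (2 * k - 1) ^ 2) fun g hg => ?_)
      · rw [Finset.sum_const, hGs, Finset.card_erase_of_mem (Finset.mem_univ _), Finset.card_univ,
          ← Nat.card_eq_fintype_card, CyclicTI.card_hom, c.card_kb, nsmul_eq_mul,
          Nat.cast_sub (le_trans (by norm_num) c.three_le.2)]
        push_cast
        exact le_rfl
      · have h' : (2 * k : ℝ) ≤ (d g : ℝ) + 1 := by rw [hk]; exact_mod_cast hdge g hg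
        nlinarith
    rw [hD]
    linarith
  -- the test function
  set D' : ℂ := (D : ℂ) with hD'
  have hD'0 : D' ≠ 0 := Complex.ofReal_ne_zero.mpr hD0.ne'
  set E : (kb M K →* ℂˣ) → M → ℂ := fun g => F.mus (om g) - (d g : ℂ) • ζ with hE
  set β : M → ℂ := (-(1 / D')) • F.psi ζ + ∑ g ∈ Gs, (-((d g : ℂ) / D')) • E g with hβ
  have hpc := IsGeneralizedCharacter.isClassFunction (F.psi_gen (ζ := ζ) hζ)
  have hEc : ∀ g, Cfsg.IsClassFunction M (E g) := fun g => fun a t => by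
    simp [hE, F.mus_class (om g) a t, (calS_off hζ).2 a t]
  have hEo : ∀ g a, a ∉ kd M → E g a = 0 := fun g a ha => by
    simp [hE, F.mus_off (om g) ha, (calS_off hζ).1 a ha]
  have hE1 : ∀ g ∈ Gs, E g 1 = 0 := fun g hg => by
    simp [hE, F.mus_on (om g) (one_mem (kd M)), hd g hg, h.deg, mul_comm]
  have hβc : Cfsg.IsClassFunction M β := fun a t => by
    simp only [hβ, Pi.add_apply, Pi.smul_apply, Finset.sum_apply, hpc a t, hEc _ a t]
  have hβo : ∀ a, a ∉ kd M → β a = 0 := fun a ha => by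
    simp [hβ, Fam.psi, F.mus_off 1 ha, (calS_off hζ).1 a ha, Finset.sum_apply, hEo _ a ha]
  have hβ1 : β 1 = 0 := by
    simp only [hβ, Pi.add_apply, Pi.smul_apply, Finset.sum_apply]
    rw [Finset.sum_eq_zero fun g hg => by rw [hE1 g hg, smul_zero]]
    simp [Fam.psi, F.mus_on 1 (one_mem (kd M)), F.μ_one_deg.2, h.deg]
  have hβs : Supp β := c.supp_of_kd hβo hβ1
  have hSC : ∑ g ∈ Gs, (d g : ℂ) ^ 2 = (S : ℂ) := by rw [hS]; push_cast; rfl
  have hmz : ∀ w, Cfsg.classInner ζ (F.mus w) = 0 := fun w => by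
    rw [← classInner_conj_symm, F.mus_inner_irr hζ h.irr, map_zero]
  have hval : Cfsg.classInner β (c.rho h.u) = (((1 + S) / D : ℝ) : ℂ) := by
    rw [← c.tau_avg hβc hβs h.u_class (ψ := c.rho h.u) fun x hx => if_pos hx, hβ, tau_add, tau_smul, tau_sum,
      classInner_add_left, classInner_smul_left, classInner_sum_left, hY,
      Finset.sum_congr rfl (g := fun g => (d g : ℂ) ^ 2 / D') fun g hg => by
        have := hmus (om g) (hI g) (hJ g hg)
        rw [hd g hg] at this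
        rw [tau_smul, classInner_smul_left, this]
        ring,
      ← Finset.sum_div, hSC]
    push_cast
    ring
  have h10 : ∀ g ∈ Gs, ¬ ∃ f, row c 1 f = om g := fun g hg =>
    Fam.not_row c (fun _ _ => MonoidHom.one_apply _) (hJ g hg)
  have h01 : ∀ g ∈ Gs, ¬ ∃ f, row c (om g) f = 1 := fun g hg ⟨f, e⟩ =>
    (J0_row_iff c (om g) f).not.mpr (hJ g hg) (e ▸ fun _ _ => MonoidHom.one_apply _)
  have hgg : ∀ g g', (∃ f, row c (om g) f = om g') ↔ g = g' := fun g g' => by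
    refine ⟨fun ⟨f, e⟩ => ?_, fun e => ⟨1, by rw [e]; exact MonoidHom.ext fun w => by simp [row, CyclicTI.pull1_one]⟩⟩
    have := Fam.cell_injective c (a₁ := (f, g)) (a₂ := (1, g')) (by
      simp only [Fam.cell]
      rw [show row c (CyclicTI.pull2 c.semi.split g) f = om g' from e]
      exact MonoidHom.ext fun w => by simp [hom, row, CyclicTI.pull1_one])
    exact (Prod.mk.inj this).2
  have hEE : ∀ g ∈ Gs, ∀ g' ∈ Gs, Cfsg.classInner (E g) (E g') =
      (if g = g' then (Nat.card K : ℂ) else 0) + (d g : ℂ) * (d g' : ℂ) := fun g _ g' _ => by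
    simp only [hE, classInner_sub_left, classInner_sub_right, classInner_smul_left,
      classInner_smul_right, F.mus_inner_mus, hgg, F.mus_inner_irr hζ h.irr, hmz,
      classInner_self_irr h.irr, map_natCast]
    ring
  have hPE : ∀ g ∈ Gs, Cfsg.classInner (F.psi ζ) (E g) = (d g : ℂ) ∧
      Cfsg.classInner (E g) (F.psi ζ) = (d g : ℂ) := fun g hg => by
    constructor <;>
      simp [hE, Fam.psi, classInner_sub_left, classInner_sub_right, classInner_smul_left,
        classInner_smul_right, F.mus_inner_mus, h10 g hg, h01 g hg, F.mus_inner_irr hζ h.irr, hmz,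
        classInner_self_irr h.irr]
  set Sg : M → ℂ := ∑ g ∈ Gs, (-((d g : ℂ) / D')) • E g with hSg
  have hcD : conj D' = D' := Complex.conj_ofReal D
  have hPS : Cfsg.classInner (F.psi ζ) Sg = -((S : ℂ) / D') := by
    rw [hSg, classInner_sum_right, ← hSC, Finset.sum_div, ← Finset.sum_neg_distrib]
    refine Finset.sum_congr rfl fun g hg => ?_
    rw [classInner_smul_right, (hPE g hg).1, map_neg, map_div₀, map_natCast, hcD]
    ring
  have hSP : Cfsg.classInner Sg (F.psi ζ) = -((S : ℂ) / D') := by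
    rw [← classInner_conj_symm, hPS, map_neg, map_div₀, Complex.conj_ofReal, hcD]
  have hES : ∀ g ∈ Gs, Cfsg.classInner (E g) Sg =
      -((d g : ℂ) * ((Nat.card K : ℂ) + (S : ℂ)) / D') := by
    intro g hg
    rw [hSg, classInner_sum_right, Finset.sum_congr rfl (g := fun g' =>
      (if g = g' then -((d g : ℂ) * (Nat.card K : ℂ) / D') else 0) +
        (-(d g : ℂ) / D') * (d g' : ℂ) ^ 2) fun g' hg' => by
          rw [classInner_smul_right, hEE g hg g' hg', map_neg, map_div₀, map_natCast, hcD]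
          split_ifs with e
          · subst e; ring
          · ring,
      Finset.sum_add_distrib, Finset.sum_ite_eq, if_pos hg, ← Finset.mul_sum, hSC]
    ring
  have hSS : Cfsg.classInner Sg Sg = (S : ℂ) * ((Nat.card K : ℂ) + (S : ℂ)) / D' ^ 2 := by
    conv_lhs => arg 1; rw [hSg]
    rw [classInner_sum_left, ← hSC, Finset.sum_mul, Finset.sum_div]
    refine Finset.sum_congr rfl fun g hg => ?_
    rw [classInner_smul_left, hES g hg, hSC]
    ring
  have hnorm : Cfsg.classInner β β = (((1 + S) / D : ℝ) : ℂ) := by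
    rw [hβ]
    simp only [classInner_add_left, classInner_add_right, classInner_smul_left, classInner_smul_right,
      hPS, hSP, hSS, F.psi_norm hζ h.irr, map_neg, map_div₀, map_one, hcD]
    have hsum : D' = 1 + (Nat.card K : ℂ) + (S : ℂ) := by rw [hD', hD, hk]; push_cast; rfl
    push_cast
    rw [← hD']
    field_simp
    rw [hsum]
    push_cast
    ring
  have h1 : ‖Cfsg.classInner β (c.rho h.u)‖ = (1 + S) / D := by
    rw [hval, Complex.norm_real, Real.norm_eq_abs, abs_of_nonneg (by positivity)]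
  rw [classInner_self_eq] at hnorm
  have h2 : (Nat.card M : ℝ)⁻¹ * ∑ a : M, ‖β a‖ ^ 2 = (1 + S) / D := by exact_mod_cast hnorm
  set P := Finset.univ.filter (fun a : M => (a : G) ∈ Cfsg.typeA0 M) with hP
  set R := ∑ a ∈ P, ‖c.rho h.u a‖ ^ 2 with hR
  have hsupp : Cfsg.classInner β (c.rho h.u) =
      (Nat.card M : ℂ)⁻¹ * ∑ a ∈ P, β a * conj (c.rho h.u a) := by
    rw [Cfsg.classInner]
    congr 1
    refine (Finset.sum_subset (Finset.subset_univ P) fun a _ ha => ?_).symm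
    rw [hβs a fun hA => ha (Finset.mem_filter.mpr ⟨Finset.mem_univ _, hA⟩), zero_mul]
  have hCS : (∑ a ∈ P, ‖β a‖ * ‖c.rho h.u a‖) ^ 2 ≤ (∑ a : M, ‖β a‖ ^ 2) * R :=
    (Finset.sum_mul_sq_le_sq_mul_sq P _ _).trans (mul_le_mul_of_nonneg_right
      (Finset.sum_le_sum_of_subset_of_nonneg (Finset.subset_univ P) fun _ _ _ => sq_nonneg _)
      (Finset.sum_nonneg fun _ _ => sq_nonneg _))
  have hle : (1 + S) / D ≤ (Nat.card M : ℝ)⁻¹ * ∑ a ∈ P, ‖β a‖ * ‖c.rho h.u a‖ := by
    rw [← h1, hsupp, norm_mul, norm_inv, Complex.norm_natCast]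
    refine mul_le_mul_of_nonneg_left ((norm_sum_le _ _).trans_eq ?_) (by positivity)
    exact Finset.sum_congr rfl fun a _ => by rw [norm_mul, Complex.norm_conj]
  set x := (1 + S) / D
  have hx0 : 0 < x := by positivity
  have h3 : x ^ 2 ≤ x * ((Nat.card M : ℝ)⁻¹ * R) := by
    refine (pow_le_pow_left₀ hx0.le hle 2).trans ?_
    rw [mul_pow, ← h2]
    refine (mul_le_mul_of_nonneg_left hCS (by positivity)).trans_eq ?_
    ring
  rw [sq] at h3
  refine le_of_eq_of_le ?_ (le_of_mul_le_mul_left h3 hx0)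
  simp only [x, hD]
  field_simp
  ring

/-- The counting contradiction. -/
theorem false_of_shapes (h : Coh c X ζ)
    (hu : ∀ ω : Chr M K, I0 ω → ¬ J0 ω → ∀ n : ℤ, 2 ≤ n →
      F.μ ω 1 = (F.δ ω : ℂ) + (n : ℂ) * (Nat.card K : ℂ) → ∀ f,
        Cfsg.classInner (tau M (F.alpha ζ ω n f)) h.u = -(n : ℂ))
    (hY : Cfsg.classInner (tau M (F.psi ζ)) h.u = -1) : False := by
  have hshape := h.psi_shape F hu hY
  obtain ⟨D, hDge, hD⟩ := h.rho_lower F (fun ω hI hJ => by
    obtain ⟨d, hd1, -, n, hn, hdn⟩ := F.μ_deg_nat hJ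
    have hd : F.μ ω 1 = (F.δ ω : ℂ) + (n : ℂ) * (Nat.card K : ℂ) := by
      rw [hd1]; exact_mod_cast hdn
    exact h.mus_coeff F hI hd hJ (hu ω hI hJ n hn hd) hshape) hY
  obtain ⟨T, hT, hTcard⟩ := c.exists_good
  have hnorm : (Nat.card G : ℝ)⁻¹ * ∑ g : G, ‖h.u g‖ ^ 2 = 1 := by
    have h1 := h.u_norm
    rw [classInner_self_eq] at h1
    exact_mod_cast h1
  set P := Finset.univ.filter fun g : G => g ∈ dadeSet M with hP
  have hS := S1525.result (Cfsg.typeA0 M) M (Cfsg.supportR M) c.hypothesis h.u h.u_class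
    (c.rho h.u) fun a ha => by
      rw [Ctx.rho, if_pos ha]
      congr 1
      rw [finsum_mem_eq_sum_of_inter_support_eq (t := Dade.fin (Cfsg.supportR M (a : G))) _
        (by ext x; simp)]
  rw [show {g : G | ∃ a ∈ Cfsg.typeA0 M, ∃ u ∈ Cfsg.supportR M a, ∃ x : G, x * g * x⁻¹ = a * u} = ↑P by
    ext g; simp [hP, dadeSet, Dade.mem_coset],
    show {a : M | (a : G) ∈ Cfsg.typeA0 M} =
      ↑(Finset.univ.filter fun a : M => (a : G) ∈ Cfsg.typeA0 M) by ext; simp,
    finsum_mem_coe_finset, finsum_mem_coe_finset] at hS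
  set k : ℝ := (Nat.card K : ℝ) with hk
  set w : ℝ := (Nat.card (wTwo M K) : ℝ) with hw
  set g₀ : ℝ := (Nat.card G : ℝ) with hg₀
  have hg0 : 0 < g₀ := Nat.cast_pos.mpr Nat.card_pos
  have hk3 : (3 : ℝ) ≤ k := by rw [hk]; exact_mod_cast c.three_le.1
  have hw3 : (3 : ℝ) ≤ w := by rw [hw]; exact_mod_cast c.three_le.2
  have hu1 : 1 ≤ ‖h.u 1‖ ^ 2 := by
    rcases IsGeneralizedCharacter.of_norm_one h.u_gen h.u_norm with h1 | h1 <;>
    · obtain ⟨d, hd0, hd⟩ := IsIrrCharacter.exists_degree h1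
      have e : ‖h.u 1‖ = (d : ℝ) := by
        rw [← Complex.norm_natCast, ← hd]
        all_goals simp
      rw [e]
      exact_mod_cast Nat.one_le_pow 2 d hd0
  have hdis : Disjoint P (insert 1 T) := by
    rw [Finset.disjoint_left]
    intro g hg hg'
    simp only [hP, Finset.mem_filter, Finset.mem_univ, true_and] at hg
    rcases Finset.mem_insert.mp hg' with rfl | hg'
    · exact c.one_not_mem_dadeSet hg
    · exact (hT g hg').2.1 hg
  have htot : ∑ g ∈ P, ‖h.u g‖ ^ 2 + (1 + (T.card : ℝ)) ≤ g₀ := by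
    have e : ∑ g : G, ‖h.u g‖ ^ 2 = g₀ := by
      rw [inv_mul_eq_one₀ hg0.ne'] at hnorm
      exact hnorm.symm
    rw [← e]
    refine le_trans ?_ (Finset.sum_le_sum_of_subset_of_nonneg (Finset.subset_univ (P ∪ insert 1 T))
      fun _ _ _ => sq_nonneg _)
    rw [Finset.sum_union hdis, Finset.sum_insert fun h1 => (hT 1 h1).1 rfl]
    have h2 : (T.card : ℝ) ≤ ∑ g ∈ T, ‖h.u g‖ ^ 2 := by
      have := Finset.card_nsmul_le_sum T (fun g => ‖h.u g‖ ^ 2) 1
        fun g hg => h.one_le_u' F hshape (hT g hg).2.1 (hT g hg).2.2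
      simpa using this
    linarith
  have hmain : g₀ * (1 - k / D) ≤ ∑ g ∈ P, ‖h.u g‖ ^ 2 := by
    have := mul_le_mul_of_nonneg_left (hD.trans hS) hg0.le
    rwa [← mul_assoc g₀ g₀⁻¹, mul_inv_cancel₀ hg0.ne', one_mul] at this
  have hD0 : 0 < D := by nlinarith
  have hpos : 0 < g₀ / (Nat.card M : ℝ) := div_pos hg0 (Nat.cast_pos.mpr Nat.card_pos)
  have h5 : 5 * D < 9 * k ^ 2 * w := by
    have h1 : 5 * g₀ / (9 * k * w) < g₀ * (k / D) := by linarith
    rw [div_lt_iff₀ (by positivity)] at h1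
    have h2 : g₀ * (k / D) * (9 * k * w) = g₀ / D * (9 * k ^ 2 * w) := by ring
    rw [h2, div_mul_eq_mul_div, lt_div_iff₀ hD0] at h1
    by_contra hle
    push Not at hle
    nlinarith [mul_le_mul_of_nonneg_left hle hg0.le]
  have h2 : 2 / 3 * w * (2 * k - 1) ^ 2 ≤ (w - 1) * (2 * k - 1) ^ 2 :=
    mul_le_mul_of_nonneg_right (by linarith) (sq_nonneg _)
  have h3 : 0 ≤ w * (13 * k ^ 2 - 40 * k + 10) := mul_nonneg (by linarith) (by nlinarith)
  nlinarith

end Coh

end Cfsg.Agent.OddChar.P10
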