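import Cfsg.Agent.Lib.OddOrder.TypeA
import Cfsg.Agent.Lib.OddOrder.Types
import Cfsg.Agent.Lib.OddOrder.PartnerPair
import Cfsg.Agent.Lib.Char.CyclicTI.Semi
import Cfsg.Agent.S1352

/-!
# Maximal subgroups of Types III, IV, V: the group-theoretic setting of section 10
-/

set_option linter.style.haveILetI false
set_option linter.unusedSectionVars false

namespace Cfsg.Agent.OddChar.P10

open scoped commutatorElement Pointwise
open Cfsg.Agent.OddOrder Cfsg.Agent.Char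
open Cfsg.Agent.OddOrder.Exceptional Cfsg.Agent.OddOrder.TauOne Cfsg.Agent.OddOrder.Kappa

universe u

variable {G : Type u} [Group G] [Finite G] {M K U : Subgroup G}

/-- A maximal subgroup of Type III, IV or V with a standard factorisation. -/
structure Ctx (M K U : Subgroup G) : Prop where
  hG : Cfsg.IsMinSimpleOddOrder G
  hM : IsCoatom M
  hKU : Cfsg.IsSigmaDecomposition M K U
  ne : K ≠ ⊥
  u1 : U = ⊥

/-- The second factor of the self-normalising pair. -/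
abbrev wTwo (M K : Subgroup G) : Subgroup G :=
  Cfsg.sigmaCore M ⊓ Subgroup.centralizer (K : Set G)

/-- The derived subgroup inside `M`. -/
abbrev kd (M : Subgroup G) : Subgroup M := commutator M

/-- The two cyclic factors inside `M`. -/
abbrev ka (M K : Subgroup G) : Subgroup M := K.subgroupOf M

abbrev kb (M K : Subgroup G) : Subgroup M := (wTwo M K).subgroupOf M

theorem exists_ctx (hG : Cfsg.IsMinSimpleOddOrder G) (hM : IsCoatom M)
    (h : Cfsg.IsOfTypeIII M ∨ Cfsg.IsOfTypeIV M ∨ Cfsg.IsOfTypeV M) :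
    ∃ K U : Subgroup G, Ctx M K U := by
  obtain ⟨K, U, hKU⟩ := FStruct.exists_decomp hG hM
  refine ⟨K, U, hG, hM, hKU, ?_, ?_⟩ <;> rcases h with h | h | h
  exacts [((Types.typeIII_IV_iff hG hM hKU).1 (Or.inl h)).1,
    ((Types.typeIII_IV_iff hG hM hKU).1 (Or.inr h)).1, ((Types.typeV_iff hG hM hKU).1 h).1,
    ((Types.typeIII_IV_iff hG hM hKU).1 (Or.inl h)).2.1,
    ((Types.typeIII_IV_iff hG hM hKU).1 (Or.inr h)).2.1, ((Types.typeV_iff hG hM hKU).1 h).2.1]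

namespace Ctx

variable (c : Ctx M K U)
include c

theorem derived_eq : ⁅M, M⁆ = Cfsg.sigmaCore M := by
  rw [(S1365.result c.hG M c.hM K U c.hKU c.ne).1, c.u1, bot_sup_eq]

theorem K_le : K ≤ M := c.hKU.hall.1

theorem wTwo_le : wTwo M K ≤ M := inf_le_left.trans (sigmaCore_le M)

theorem not_typeI : ¬ Cfsg.IsOfTypeI M := fun h =>
  Set.nonempty_iff_ne_empty.1 (Types.kappa_nonempty c.hKU c.ne) ((TypeA.typeI_iff c.hG c.hM).1 h)

theorem mem_kd (x : M) : x ∈ kd M ↔ (x : G) ∈ Cfsg.sigmaCore M := by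
  rw [← c.derived_eq, ← Subgroup.map_subtype_commutator]
  exact ⟨fun h => Subgroup.mem_map_of_mem _ h, fun ⟨y, hy, e⟩ => Subtype.ext e ▸ hy⟩

theorem exists_typeP : ∃ W : Subgroup G, Cfsg.IsTypePWith M K W (wTwo M K) := by
  obtain ⟨W, h, -⟩ := Types.exists_data c.hG c.hM c.hKU c.ne
  exact ⟨W, h⟩

theorem semi : CyclicTI.Semi (kd M) (ka M K) (kb M K) := by
  obtain ⟨W, hP⟩ := c.exists_typeP
  have hcd := Types.compl_derived c.hG c.hM c.hKU c.ne
  have hcyc := c.hKU.cyclic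
  obtain ⟨hDc, hDne, -, -⟩ := S1364.result c.hG M c.hM K U c.hKU c.ne
  refine ⟨inferInstance, ?_, ?_, fun e => c.ne ?_, ?_, ?_, fun e => hDne ?_, ?_, fun x hx => ?_,
    fun x hx hx1 => ?_⟩
  · refine (Subgroup.eq_bot_iff_forall _).2 fun x hx => Subtype.ext ?_
    have h : (x : G) ∈ Cfsg.sigmaCore M ⊓ K := ⟨(c.mem_kd x).1 hx.1, hx.2⟩
    rwa [inf_comm, Types.inf_K_sigma c.hKU, Subgroup.mem_bot] at h
  · refine eq_top_iff.2 fun x _ => ?_
    obtain ⟨a, ha, b, hb, e⟩ := hcd.2.2.2 x x.2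
    have e' : x = (⟨a, hcd.1 ha⟩ : M) * ⟨b, hcd.2.1 hb⟩ := Subtype.ext e
    rw [e']
    exact mul_mem (Subgroup.mem_sup_left ((c.mem_kd _).2 (c.derived_eq ▸ ha))) (Subgroup.mem_sup_right hb)
  · rw [← Subgroup.map_subgroupOf_eq_of_le c.K_le, show K.subgroupOf M = ⊥ from e, Subgroup.map_bot]
  · exact isCyclic_of_surjective (Subgroup.subgroupOfEquivOfLe c.K_le).symm.toMonoidHom
      (Subgroup.subgroupOfEquivOfLe c.K_le).symm.surjective
  · show Nat.Coprime (Nat.card (K.subgroupOf M)) (K.subgroupOf M).index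
    rw [Nat.card_congr (Subgroup.subgroupOfEquivOfLe c.K_le).toEquiv]
    exact Types.K_hall c.hKU
  · rw [show Cfsg.sigmaCore M ⊓ Subgroup.centralizer (K : Set G) = wTwo M K from rfl,
      ← Subgroup.map_subgroupOf_eq_of_le c.wTwo_le, show (wTwo M K).subgroupOf M = ⊥ from e,
      Subgroup.map_bot]
  · haveI := hDc
    exact isCyclic_of_surjective (Subgroup.subgroupOfEquivOfLe c.wTwo_le).symm.toMonoidHom
      (Subgroup.subgroupOfEquivOfLe c.wTwo_le).symm.surjective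
  · exact (c.mem_kd x).2 (Subgroup.mem_subgroupOf.1 hx).1
  · have h := hP.W₂_centralizer x hx fun e => hx1 (Subtype.ext e)
    ext y
    rw [Subgroup.mem_subgroupOf, ← h, Subgroup.mem_inf, Subgroup.mem_inf, c.mem_kd, c.derived_eq,
      Subgroup.mem_centralizer_singleton_iff, Subgroup.mem_centralizer_singleton_iff]
    exact and_congr_right fun _ => ⟨fun e => congrArg Subtype.val e, fun e => Subtype.ext e⟩

theorem odd_card : Odd (Nat.card M) := c.hG.1.of_dvd_nat M.card_subgroup_dvd_card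

theorem odd_W : Odd (Nat.card ↥(K ⊔ wTwo M K)) :=
  c.hG.1.of_dvd_nat (Subgroup.card_subgroup_dvd_card _)

theorem odd_sup : Odd (Nat.card ↥(ka M K ⊔ kb M K)) :=
  c.odd_card.of_dvd_nat (Subgroup.card_subgroup_dvd_card _)

theorem selfNormalizing : Cfsg.IsSelfNormalizingCyclic K (wTwo M K) :=
  Types.self_normalizing c.hG c.hM c.hKU c.ne

theorem sup_subgroupOf : ka M K ⊔ kb M K = (K ⊔ wTwo M K).subgroupOf M :=
  (Subgroup.subgroupOf_sup c.K_le c.wTwo_le).symm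

theorem card_ka : Nat.card (ka M K) = Nat.card K :=
  Nat.card_congr (Subgroup.subgroupOfEquivOfLe c.K_le).toEquiv

theorem card_kb : Nat.card (kb M K) = Nat.card (wTwo M K) :=
  Nat.card_congr (Subgroup.subgroupOfEquivOfLe c.wTwo_le).toEquiv

/-- The partner maximal subgroup, of Type II. -/
theorem exists_partner : ∃ S V : Subgroup G, IsCoatom S ∧
    Cfsg.IsSigmaDecomposition S (wTwo M K) V ∧ wTwo M K ≠ ⊥ ∧ V ≠ ⊥ ∧
      Cfsg.sigmaCore S ⊓ Subgroup.centralizer (wTwo M K : Set G) = K := by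
  obtain ⟨N, D, P⟩ := (Pairing.Member.of_hall c.hM c.hKU.hall c.ne).exists_pair c.hG
  have hN := P.right.coatom
  obtain ⟨⟨V, hV⟩, -⟩ := S1352.result c.hG N hN D (P.right.cyclic c.hG) P.right.hall
  have e : wTwo M K = D := P.D_eq
  rw [e]
  refine ⟨N, V, hN, hV, P.right.ne, ?_, P.right.inf_eq.symm.trans P.right_inf⟩
  rcases P.large with h | h
  · exact absurd c.u1 ((Pairing.large_iff c.hKU).1 h)
  · exact (Pairing.large_iff hV).1 h

theorem prime_wTwo : (Nat.card (wTwo M K)).Prime := by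
  obtain ⟨S, V, hS, hV, h1, h2, -⟩ := c.exists_partner
  exact (S1372.result c.hG S hS _ V hV h1 h2).1

theorem three_le : 3 ≤ Nat.card K ∧ 3 ≤ Nat.card (wTwo M K) := by
  have key : ∀ X : Subgroup G, X ≠ ⊥ → 3 ≤ Nat.card X := fun X hX => by
    obtain ⟨k, hk⟩ := c.hG.1.of_dvd_nat X.card_subgroup_dvd_card
    have := (Subgroup.one_lt_card_iff_ne_bot X).2 hX
    omega
  exact ⟨key K c.ne, key _ c.selfNormalizing.2.1⟩

/-- `M = M_σ K` as far as orders go. -/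
theorem card_eq : Nat.card M = Nat.card (kd M) * Nat.card K := by
  rw [← Subgroup.card_mul_index (kd M), c.semi.index_eq, c.card_ka]

/-- The elements of `V = W ∖ (W₁ ∪ W₂)` are members of `A₀(M)`. -/
theorem outer_mem_A0 {v : ↥(ka M K ⊔ kb M K)} (h1 : (v : M) ∉ ka M K) (h2 : (v : M) ∉ kb M K) :
    ((v : M) : G) ∈ Cfsg.typeA0 M := by
  obtain ⟨W, hP⟩ := c.exists_typeP
  have hv : (v : M) ∈ (K ⊔ wTwo M K).subgroupOf M := c.sup_subgroupOf.le v.2
  exact Or.inr ⟨c.not_typeI, K, W, _, hP, 1, M.one_mem, _, hv, h1, h2, by simp⟩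

theorem centralizer_outer {v : ↥(ka M K ⊔ kb M K)} (h1 : (v : M) ∉ ka M K) (h2 : (v : M) ∉ kb M K) :
    Subgroup.centralizer ({((v : M) : G)} : Set G) ≤ M := by
  have hv : (v : M) ∈ (K ⊔ wTwo M K).subgroupOf M := c.sup_subgroupOf.le v.2
  exact (TypeA.outer_mem c.hG c.hM c.hKU c.ne
    ⟨1, M.one_mem, _, ⟨hv, not_or.2 ⟨h1, h2⟩⟩, by simp⟩).2.2

theorem kd_mem_A0 {x : M} (hx : x ∈ kd M) (h1 : x ≠ 1) : (x : G) ∈ Cfsg.typeA0 M := by
  have hσ := (c.mem_kd x).1 hx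
  have h1' : (x : G) ≠ 1 := fun e => h1 (Subtype.ext e)
  exact Or.inl (TypeA.mem_typeA c.hG c.hM x.2 h1' (fun _ => c.derived_eq ▸ hσ) ⟨x, hσ, h1', rfl⟩)

/-- Outside `M_σ`, an element lies in `A₀(M)` or is a conjugate of an element of `W₁`. -/
theorem A0_or_conj (x : M) : x = 1 ∨ (x : G) ∈ Cfsg.typeA0 M ∨
    ∃ t : M, ∃ a ∈ ka M K, a ≠ 1 ∧ x = t * a * t⁻¹ := by
  by_cases hx : x ∈ kd M
  · by_cases h1 : x = 1
    · exact Or.inl h1
    · exact Or.inr (Or.inl (c.kd_mem_A0 hx h1))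
  obtain ⟨t, v, hv2, rfl⟩ := c.semi.exists_conj hx
  by_cases hv1 : (v : M) ∈ ka M K
  · exact Or.inr (Or.inr ⟨t, _, hv1, fun e => hv2 (e ▸ one_mem _), rfl⟩)
  · refine Or.inr (Or.inl ?_)
    simpa using TypeA.typeA0_conj c.hG c.hM t.2 (c.outer_mem_A0 hv1 hv2)

/-- A member of `A₀(M)` is not conjugate to an element of `W₁`. -/
theorem not_mem_A0 (t : M) {a : M} (ha : a ∈ ka M K) : ((t * a * t⁻¹ : M) : G) ∉ Cfsg.typeA0 M := by
  intro h
  by_cases ha1 : a = 1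
  · refine (TypeA.typeA0_ne_one c.hG c.hM h).2 ?_
    simp [ha1]
  have h' : (a : G) ∈ Cfsg.typeA0 M := by
    simpa [mul_assoc] using TypeA.typeA0_conj c.hG c.hM (M.inv_mem t.2) h
  have ha1' : (a : G) ≠ 1 := fun e => ha1 (Subtype.ext e)
  rcases TypeA.typeA0_cases c.hG c.hM c.hKU h' with hs | ⟨-, hout⟩
  · obtain ⟨r, hr, hrd⟩ := Nat.exists_prime_and_dvd fun e => ha1' (orderOf_eq_one_iff.1 e)
    haveI := Fact.mk hr
    have hrκ : r ∈ Cfsg.kappa M :=
      c.hKU.hall.2.1 r hr (hrd.trans (Subgroup.orderOf_dvd_natCard K ha))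
    rcases hs.2.2.2 r hr hrd with h1 | h1
    · exact hrκ.2.2.1 h1
    · exact h1.2.2.2 (TypeU.kappa_rank hrκ)
  · obtain ⟨m, hm, w, ⟨hw, hwn⟩, he⟩ := hout
    have hwM : w ∈ M := sup_le c.K_le c.wTwo_le hw
    obtain ⟨-, e⟩ := c.semi.conj_eq
      (w := ⟨⟨w, hwM⟩, c.sup_subgroupOf.ge hw⟩) (w' := ⟨a, Subgroup.mem_sup_left ha⟩)
      (fun hb => hwn (Or.inr hb)) (g := ⟨m, hm⟩) (Subtype.ext he.symm)
    refine hwn (Or.inl ?_)
    have e' : w = (a : G) := congrArg (fun z : ↥(ka M K ⊔ kb M K) => ((z : M) : G)) e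
    rw [e']
    exact ha

theorem hypothesis : Cfsg.DadeHypothesis (Cfsg.typeA0 M) M (Cfsg.supportR M) :=
  TypeA.hypothesis c.hG c.hM _ subset_rfl fun _ hy _ ha => TypeA.typeA0_conj c.hG c.hM hy ha

end Ctx

end Cfsg.Agent.OddChar.P10
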