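import Cfsg.Prelude.Def_OddOrderChar
import Cfsg.Agent.Lib.Char.CyclicTI.Family
import Cfsg.Agent.Lib.Char.CyclicTI.Exist
import Cfsg.Agent.Lib.Char.Coherence

/-!
# Virtual characters of small norm with prescribed values on `W ∖ (W₁ ∪ W₂)`
-/

set_option linter.style.haveILetI false
set_option linter.unusedSectionVars false

namespace Cfsg.Agent.OddChar.P10

open Cfsg.Agent.Char Cfsg.Agent.Char.CyclicTI
open scoped Classical

universe u

section lattice

variable {I J : Type*} [Fintype I] [Fintype J]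

/-- An additive function on a grid with at most four nonzero values lives on one line. -/
theorem line_aux (hI : 3 ≤ Fintype.card I) (hJ : 5 ≤ Fintype.card J) (a : I × J → ℤ)
    (hadd : ∀ i k j l, a (i, j) + a (k, l) = a (i, l) + a (k, j))
    (hsupp : (Finset.univ.filter fun x => a x ≠ 0).card ≤ 4) :
    (∀ x, a x = 0) ∨ ∃ (L : Finset (I × J)) (c : ℤ), 3 ≤ L.card ∧ c ≠ 0 ∧
      ∀ x, a x = if x ∈ L then c else 0 := by
  have hrow : ∀ i k j, a (i, j) = a (k, j) := by
    intro i k j
    by_contra hne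
    have hall : ∀ l, a (i, l) ≠ 0 ∨ a (k, l) ≠ 0 := fun l => by
      by_contra h
      push Not at h
      exact hne (by have := hadd i k j l; rw [h.1, h.2] at this; simpa using this)
    have hinj : Function.Injective fun l : J => if a (i, l) ≠ 0 then (i, l) else (k, l) := by
      intro l l' h
      have h2 := congrArg Prod.snd h
      simp only [apply_ite Prod.snd, ite_self] at h2
      exact h2
    have hle := Finset.card_le_card_of_injOn (s := (Finset.univ : Finset J))
      (t := Finset.univ.filter fun x => a x ≠ 0) (fun l => if a (i, l) ≠ 0 then (i, l) else (k, l))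
      (fun l _ => by
        simp only [Finset.coe_filter, Finset.mem_univ, true_and, Set.mem_ofPred_eq]
        split_ifs with h
        · exact h
        · exact (hall l).resolve_left h) hinj.injOn
    rw [Finset.card_univ] at hle
    omega
  obtain ⟨i₀⟩ : Nonempty I := Fintype.card_pos_iff.mp (by omega)
  by_cases h0 : ∀ j, a (i₀, j) = 0
  · exact Or.inl fun x => (hrow x.1 i₀ x.2).trans (h0 x.2)
  push Not at h0
  obtain ⟨j₀, hj₀⟩ := h0
  have huniq : ∀ j, a (i₀, j) ≠ 0 → j = j₀ := by
    intro j hj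
    by_contra hne
    have hsub : (Finset.univ : Finset I) ×ˢ ({j₀, j} : Finset J) ⊆
        Finset.univ.filter fun x => a x ≠ 0 := by
      rintro ⟨i, l⟩ hx
      simp only [Finset.mem_product, Finset.mem_univ, true_and, Finset.mem_insert,
        Finset.mem_singleton] at hx
      simp only [Finset.mem_filter, Finset.mem_univ, true_and]
      rw [hrow i i₀ l]
      rcases hx with rfl | rfl <;> assumption
    have := (Finset.card_le_card hsub).trans hsupp
    rw [Finset.card_product, Finset.card_univ, Finset.card_pair (Ne.symm hne)] at this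
    omega
  refine Or.inr ⟨Finset.univ ×ˢ {j₀}, a (i₀, j₀), by simpa using hI, hj₀, ?_⟩
  rintro ⟨i, l⟩
  rw [hrow i i₀ l]
  by_cases h : l = j₀
  · subst h; simp
  · rw [if_neg fun hm => h (by simpa [eq_comm] using hm)]
    by_contra h'
    exact h (huniq l h')

theorem line_of_small (hI : 3 ≤ Fintype.card I) (hJ : 3 ≤ Fintype.card J)
    (h5 : 5 ≤ Fintype.card I ∨ 5 ≤ Fintype.card J) (a : I × J → ℤ)
    (hadd : ∀ i k j l, a (i, j) + a (k, l) = a (i, l) + a (k, j))
    (hsupp : (Finset.univ.filter fun x => a x ≠ 0).card ≤ 4) :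
    (∀ x, a x = 0) ∨ ∃ (L : Finset (I × J)) (c : ℤ), 3 ≤ L.card ∧ c ≠ 0 ∧
      ∀ x, a x = if x ∈ L then c else 0 := by
  rcases h5 with h5 | h5
  · have h := line_aux (I := J) (J := I) hJ h5 (fun x => a x.swap)
      (fun j l i k => by
        have := hadd i k j l
        simp only [Prod.swap_prod_mk]
        linarith)
      ((Finset.card_le_card_of_injOn Prod.swap (fun x hx => by simpa using hx)
        Prod.swap_injective.injOn).trans hsupp)
    rcases h with h | ⟨L, c, hL, hc, h⟩
    · exact Or.inl fun x => by simpa using h x.swap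
    · refine Or.inr ⟨L.image Prod.swap, c, ?_, hc, fun x => ?_⟩
      · rw [Finset.card_image_of_injective _ Prod.swap_injective]; exact hL
      · have := h x.swap
        rw [Prod.swap_swap] at this
        rw [this]
        refine if_congr ?_ rfl rfl
        simp only [Finset.mem_image]
        exact ⟨fun hx => ⟨_, hx, Prod.swap_swap x⟩, fun ⟨y, hy, e⟩ => by rw [← e, Prod.swap_swap]; exact hy⟩
  · exact line_aux hI h5 a hadd hsupp

/-- The lattice lemma: coefficients of norm at most two that differ additively from a difference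
of two unit vectors are equal to it. -/
theorem eq_of_small (hI : 3 ≤ Fintype.card I) (hJ : 3 ≤ Fintype.card J)
    (h5 : 5 ≤ Fintype.card I ∨ 5 ≤ Fintype.card J) (x : I × J → ℤ)
    (hx : ∑ t, x t * x t ≤ 2) (p q : I × J) (δ : ℤ)
    (hadd : ∀ i k j l,
      let a : I × J → ℤ := fun t => x t - δ * ((if t = p then 1 else 0) - if t = q then 1 else 0)
      a (i, j) + a (k, l) = a (i, l) + a (k, j)) :
    ∀ t, x t = δ * ((if t = p then 1 else 0) - if t = q then 1 else 0) := by
  set e : I × J → ℤ := fun t => δ * ((if t = p then 1 else 0) - if t = q then 1 else 0) with he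
  have hcardx : ((Finset.univ.filter fun t => x t ≠ 0).card : ℤ) ≤ 2 := by
    refine le_trans ?_ hx
    rw [Finset.card_filter, Nat.cast_sum]
    refine Finset.sum_le_sum fun t _ => ?_
    split_ifs with h
    · have := mul_self_pos.mpr h
      push_cast; omega
    · exact_mod_cast mul_self_nonneg (x t)
  have hsupp : (Finset.univ.filter fun t => x t - e t ≠ 0).card ≤ 4 := by
    refine le_trans (Finset.card_le_card (t := (Finset.univ.filter fun t => x t ≠ 0) ∪ {p, q}) ?_) ?_
    · intro t ht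
      simp only [Finset.mem_filter, Finset.mem_univ, true_and, Finset.mem_union, Finset.mem_insert,
        Finset.mem_singleton] at ht ⊢
      by_contra hc
      push Not at hc
      apply ht
      simp [he, hc.1, hc.2.1, hc.2.2]
    · refine (Finset.card_union_le _ _).trans ?_
      have h2 : ({p, q} : Finset (I × J)).card ≤ 2 := Finset.card_le_two
      have h1 : (Finset.univ.filter fun t => x t ≠ 0).card ≤ 2 := by exact_mod_cast hcardx
      omega
  rcases line_of_small hI hJ h5 (fun t => x t - e t) hadd hsupp with h | ⟨L, c, hL, hc, h⟩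
  · exact fun t => sub_eq_zero.mp (h t)
  exfalso
  have hxt : ∀ t, x t = e t + if t ∈ L then c else 0 := fun t => by have := h t; linarith
  have hsum : ∑ t, x t * x t = ∑ t, e t * e t + 2 * c * (∑ t ∈ L, e t) + c * c * (L.card : ℤ) := by
    have e1 : ∀ t, x t * x t = e t * e t + if t ∈ L then 2 * c * e t + c * c else 0 := fun t => by
      rw [hxt t]; split_ifs <;> ring
    simp only [e1, Finset.sum_add_distrib, Finset.sum_ite_mem, Finset.univ_inter]
    rw [Finset.sum_const, ← Finset.mul_sum, nsmul_eq_mul]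
    ring
  have hs : ∑ t ∈ L, e t = δ * ((if p ∈ L then 1 else 0) - if q ∈ L then 1 else 0) := by
    rw [he, ← Finset.mul_sum, Finset.sum_sub_distrib, Finset.sum_ite_eq', Finset.sum_ite_eq']
  have hE : 2 * ((∑ t ∈ L, e t) * (∑ t ∈ L, e t)) ≤ ∑ t, e t * e t := by
    rw [hs]
    by_cases hpq : p = q
    · subst hpq
      rw [sub_self, mul_zero, mul_zero, mul_zero]
      exact Finset.sum_nonneg fun t _ => mul_self_nonneg _
    · have hsub : ∑ t ∈ ({p, q} : Finset (I × J)), e t * e t ≤ ∑ t, e t * e t :=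
        Finset.sum_le_sum_of_subset_of_nonneg (Finset.subset_univ _) fun t _ _ => mul_self_nonneg _
      rw [Finset.sum_pair hpq] at hsub
      simp only [he, if_true, if_neg hpq, if_neg (Ne.symm hpq)] at hsub
      refine le_trans ?_ hsub
      split_ifs <;> nlinarith [mul_self_nonneg δ]
  have hL' : (3 : ℤ) ≤ (L.card : ℤ) := by exact_mod_cast hL
  have hc1 : 1 ≤ c * c := by have := mul_self_pos.mpr hc; omega
  nlinarith [mul_self_nonneg (c + (∑ t ∈ L, e t)), mul_le_mul_of_nonneg_left hL' (mul_self_nonneg c)]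

end lattice

variable {G : Type u} [Group G] [Fintype G] {W₁ W₂ : Subgroup G}

/-- A virtual character of norm at most two whose values outside `W₁ ∪ W₂` are those of
`δ (χ p - χ q)` has the same coefficients on the cyclic family. -/
theorem coeff_eq (hW : Cfsg.IsSelfNormalizingCyclic W₁ W₂) (hodd : Odd (Nat.card ↥(W₁ ⊔ W₂)))
    {χ : (↥(W₁ ⊔ W₂) →* ℂˣ) → (G → ℂ)} (hχ : Cfsg.IsCyclicTIFamily W₁ W₂ χ) {f : G → ℂ}
    (hf : Cfsg.IsGeneralizedCharacter G f) {N : ℤ} (hN : Cfsg.classInner f f = (N : ℂ)) (hN2 : N ≤ 2)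
    (p q : ↥(W₁ ⊔ W₂) →* ℂˣ) (δ : ℤ)
    (hV : ∀ w : ↥(W₁ ⊔ W₂), (w : G) ∉ W₁ → (w : G) ∉ W₂ →
      f w = (δ : ℂ) * ((p w : ℂ) - (q w : ℂ))) :
    ∀ ω, Cfsg.classInner f (χ ω) =
      (δ : ℂ) * ((if ω = p then 1 else 0) - if ω = q then 1 else 0) := by
  haveI : Fintype ↥(W₁ ⊔ W₂) := Fintype.ofFinite _
  have S := split_of hW
  haveI := isMulCommutative1 hW
  haveI := isMulCommutative2 hW
  haveI := finite_dual W₁
  haveI := finite_dual W₂
  haveI : Fintype (W₁ →* ℂˣ) := Fintype.ofFinite _
  haveI : Fintype (W₂ →* ℂˣ) := Fintype.ofFinite _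
  have hgen : ∀ ω, Cfsg.IsGeneralizedCharacter G (χ ω) := fun ω => by
    rcases hχ.irr_or_neg ω with h | h
    · exact IsGeneralizedCharacter.of_isCharacter (IsIrrCharacter.isCharacter h)
    · simpa using IsGeneralizedCharacter.neg (IsGeneralizedCharacter.of_isCharacter (IsIrrCharacter.isCharacter h))
  choose m hm using fun ω => IsGeneralizedCharacter.exists_classInner_int hf (hgen ω)
  set θ : G → ℂ := f - (δ : ℂ) • (χ p - χ q) with hθdef
  have hθ : Cfsg.IsClassFunction G θ := fun g k => by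
    simp only [hθdef, Pi.sub_apply, Pi.smul_apply, IsGeneralizedCharacter.isClassFunction hf g k,
      SignIrr.isClassFunction (hχ.irr_or_neg p) g k, SignIrr.isClassFunction (hχ.irr_or_neg q) g k]
  have hθV : ∀ w : ↥(W₁ ⊔ W₂), (w : G) ∉ W₁ → (w : G) ∉ W₂ → θ w = 0 := fun w h1 h2 => by
    simp only [hθdef, Pi.sub_apply, Pi.smul_apply, smul_eq_mul, hV w h1 h2, hχ.eq_on p w h1 h2,
      hχ.eq_on q w h1 h2, sub_self]
  have hcoef : ∀ ω, Cfsg.classInner θ (χ ω) =
      ((m ω - δ * ((if ω = p then 1 else 0) - if ω = q then 1 else 0) : ℤ) : ℂ) := fun ω => by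
    rw [hθdef, classInner_sub_left, classInner_smul_left, classInner_sub_left, hm ω,
      hχ.orthonormal p ω, hχ.orthonormal q ω]
    simp only [eq_comm (a := p), eq_comm (a := q)]
    push_cast
    ring
  let E := dualEquiv S
  have hsq : ∑ t : (W₁ →* ℂˣ) × (W₂ →* ℂˣ), m (E t) * m (E t) ≤ 2 := by
    have hb := (Coherence.bessel Finset.univ (fun t : (W₁ →* ℂˣ) × (W₂ →* ℂˣ) => χ (E t))
      (fun _ => 1) (fun t => (m (E t) : ℝ)) (fun _ _ => one_pos)
      (fun i _ j _ hne => by
        rw [hχ.orthonormal, if_neg fun h => hne (E.injective h)])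
      (fun i _ => by rw [hχ.orthonormal, if_pos rfl, Complex.ofReal_one])
      (x := f) (fun i _ => by rw [hm, Complex.ofReal_intCast]) (N := (N : ℝ))
      (by rw [hN, Complex.ofReal_intCast])).1
    simp only [div_one, pow_two] at hb
    refine le_trans ?_ hN2
    exact_mod_cast hb
  obtain ⟨c1, c2, o1, o2, hne⟩ := odd_cards hW hodd
  have key := eq_of_small (I := W₁ →* ℂˣ) (J := W₂ →* ℂˣ)
    (by rw [← Nat.card_eq_fintype_card, card_hom]; exact c1)
    (by rw [← Nat.card_eq_fintype_card, card_hom]; exact c2)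
    (by
      rw [← Nat.card_eq_fintype_card, card_hom, ← Nat.card_eq_fintype_card, card_hom]
      obtain ⟨a, ha⟩ := o1
      obtain ⟨b, hb⟩ := o2
      omega)
    (fun t => m (E t)) hsq (E.symm p) (E.symm q) δ ?_
  · intro ω
    have h := key (E.symm ω)
    simp only [Equiv.apply_symm_apply, E.symm.injective.eq_iff] at h
    rw [hm, h]
    by_cases hp : ω = p <;> by_cases hq : ω = q <;> simp [hp, hq]
  · intro i k j l a
    have ha : ∀ t, (a t : ℂ) = Cfsg.classInner θ (χ (E t)) := fun t => by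
      rw [hcoef]
      simp only [a]
      congr 2
      simp only [Equiv.eq_symm_apply]
    have hrect : ∀ (f₁ : W₁ →* ℂˣ) (g₁ : W₂ →* ℂˣ), Cfsg.classInner θ (χ (E (f₁, g₁))) =
        Cfsg.classInner θ (χ (pull1 S f₁)) + Cfsg.classInner θ (χ (pull2 S g₁)) -
          Cfsg.classInner θ (χ 1) := fun f₁ g₁ =>
      coeff_add hW hχ hθ hθV (pull1_apply_of_mem S f₁) (pull2_apply_of_mem S g₁)
    have hC : ((a (i, j) + a (k, l) : ℤ) : ℂ) = ((a (i, l) + a (k, j) : ℤ) : ℂ) := by
      push_cast
      rw [ha, ha, ha, ha, hrect, hrect, hrect, hrect]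
      ring
    exact_mod_cast hC

/-- A virtual character of norm at most two vanishing outside `W₁ ∪ W₂` is orthogonal to the
cyclic family. -/
theorem coeff_zero (hW : Cfsg.IsSelfNormalizingCyclic W₁ W₂) (hodd : Odd (Nat.card ↥(W₁ ⊔ W₂)))
    {χ : (↥(W₁ ⊔ W₂) →* ℂˣ) → (G → ℂ)} (hχ : Cfsg.IsCyclicTIFamily W₁ W₂ χ) {f : G → ℂ}
    (hf : Cfsg.IsGeneralizedCharacter G f) {N : ℤ} (hN : Cfsg.classInner f f = (N : ℂ)) (hN2 : N ≤ 2)
    (hV : ∀ w : ↥(W₁ ⊔ W₂), (w : G) ∉ W₁ → (w : G) ∉ W₂ → f w = 0) :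
    ∀ ω, Cfsg.classInner f (χ ω) = 0 := fun ω => by
  simpa using coeff_eq hW hodd hχ hf hN hN2 1 1 0 (fun w h1 h2 => by simp [hV w h1 h2]) ω

end Cfsg.Agent.OddChar.P10
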