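import Cfsg.Agent.Lib.OddChar.PF10.Ctx
import Cfsg.Agent.Lib.OddChar.PF10.Grid
import Cfsg.Agent.Lib.Char.CyclicTI.SemiChar
import Cfsg.Agent.Lib.Char.CoherenceTI
import Cfsg.Agent.Lib.Char.DadeVirtual
import Cfsg.Agent.S1502

/-!
# The characters attached to a maximal subgroup of Type III, IV or V
-/

set_option linter.style.haveILetI false
set_option linter.unusedSectionVars false

namespace Cfsg.Agent.OddChar.P10

open Cfsg.Agent.Char
open scoped Classical ComplexConjugate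

universe u

variable {G : Type u} [Group G] [Fintype G] {M K U : Subgroup G}

/-! ## The Dade map of `A₀(M)` -/

/-- The Dade map of `A₀(M)`. -/
noncomputable abbrev tau (M : Subgroup G) : (M → ℂ) → (G → ℂ) :=
  Cfsg.dadeIsometry (Cfsg.typeA0 M) M (Cfsg.supportR M)

/-- The set of characters induced from the non-principal characters of the derived subgroup. -/
noncomputable abbrev calS (M : Subgroup G) [Fintype M] : Set (M → ℂ) :=
  Cfsg.inducedIrrAbove (kd M) ⊥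

/-- Functions vanishing off `A₀(M)`. -/
def Supp (f : M → ℂ) : Prop := ∀ x : M, (x : G) ∉ Cfsg.typeA0 M → f x = 0

theorem tau_add (f g : M → ℂ) : tau M (f + g) = tau M f + tau M g := by
  funext x; by_cases h : ∃ a : ↥M, (a : G) ∈ Cfsg.typeA0 M ∧ ∃ y : G, ∃ u ∈ Cfsg.supportR M (a : G),
    y * x * y⁻¹ = (a : G) * u <;> simp [tau, Cfsg.dadeIsometry, h]

theorem tau_smul (z : ℂ) (f : M → ℂ) : tau M (z • f) = z • tau M f := by
  funext x; by_cases h : ∃ a : ↥M, (a : G) ∈ Cfsg.typeA0 M ∧ ∃ y : G, ∃ u ∈ Cfsg.supportR M (a : G),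
    y * x * y⁻¹ = (a : G) * u <;> simp [tau, Cfsg.dadeIsometry, h]

theorem tau_zsmul (n : ℤ) (f : M → ℂ) : tau M (n • f) = n • tau M f := by
  rw [← Int.cast_smul_eq_zsmul ℂ, tau_smul, Int.cast_smul_eq_zsmul]

theorem tau_zero : tau M (0 : M → ℂ) = 0 := by
  simpa using tau_smul (M := M) (0 : ℂ) 0

theorem tau_sub (f g : M → ℂ) : tau M (f - g) = tau M f - tau M g := by
  rw [sub_eq_add_neg, tau_add, show -g = (-1 : ℂ) • g by simp, tau_smul]
  simp [sub_eq_add_neg]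

theorem tau_sum {ι : Type*} (s : Finset ι) (f : ι → M → ℂ) :
    tau M (∑ i ∈ s, f i) = ∑ i ∈ s, tau M (f i) := by
  induction s using Finset.induction_on with
  | empty => simp [tau_zero]
  | insert a s ha ih => rw [Finset.sum_insert ha, Finset.sum_insert ha, tau_add, ih]

/-- The subgroup `W` inside `M` and inside `G`. -/
noncomputable def Ctx.wEquiv (c : Ctx M K U) : ↥(ka M K ⊔ kb M K) ≃* ↥(K ⊔ wTwo M K) :=
  (MulEquiv.subgroupCongr c.sup_subgroupOf).trans
    (Subgroup.subgroupOfEquivOfLe (sup_le c.K_le c.wTwo_le))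

@[simp] theorem Ctx.coe_wEquiv (c : Ctx M K U) (w : ↥(ka M K ⊔ kb M K)) :
    ((c.wEquiv w : ↥(K ⊔ wTwo M K)) : G) = ((w : M) : G) := rfl

/-- The linear characters of `W`. -/
abbrev Chr (M K : Subgroup G) : Type _ := ↥(ka M K ⊔ kb M K) →* ℂˣ

namespace Ctx

variable (c : Ctx M K U) [Fintype M]
include c

theorem tau_one (f : M → ℂ) : tau M f 1 = 0 := by
  refine Dade.dadeIsometry_zero c.hypothesis fun a ha hg => c.hypothesis.one_not_mem ?_
  obtain ⟨u, hu, x, hx⟩ := Dade.mem_coset.mp hg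
  rw [mul_one, mul_inv_cancel] at hx
  have hmem : a ∈ Cfsg.supportR M a ⊓ (M ⊓ Subgroup.centralizer ({a} : Set G)) :=
    ⟨eq_inv_of_mul_eq_one_left hx.symm ▸ (Cfsg.supportR M a).inv_mem hu,
      Dade.mem_CL c.hypothesis ha⟩
  rw [c.hypothesis.inf_eq_bot a ha, Subgroup.mem_bot] at hmem
  exact hmem ▸ ha

theorem tau_class {f : M → ℂ} (hf : Cfsg.IsClassFunction M f) :
    Cfsg.IsClassFunction G (tau M f) :=
  Dade.isClassFunction_dade c.hypothesis hf

theorem tau_gen {f : M → ℂ} (hf : Cfsg.IsGeneralizedCharacter M f) (hs : Supp f) :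
    Cfsg.IsGeneralizedCharacter G (tau M f) :=
  Dade.isGeneralizedCharacter_dade c.hypothesis hf hs

theorem tau_avg {f : M → ℂ} (hf : Cfsg.IsClassFunction M f) (hs : Supp f) {χ : G → ℂ}
    (hχ : Cfsg.IsClassFunction G χ) {ψ : M → ℂ}
    (hψ : ∀ a : M, (a : G) ∈ Cfsg.typeA0 M → ψ a = (Nat.card (Cfsg.supportR M (a : G)) : ℂ)⁻¹ *
      ∑ u ∈ Dade.fin (Cfsg.supportR M (a : G)), χ (a * u)) :
    Cfsg.classInner (tau M f) χ = Cfsg.classInner f ψ :=
  Dade.classInner_dade_avg c.hypothesis hf hs hχ hψ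

theorem tau_inner {f g : M → ℂ} (hf : Cfsg.IsClassFunction M f) (hfs : Supp f)
    (hg : Cfsg.IsClassFunction M g) :
    Cfsg.classInner (tau M f) (tau M g) = Cfsg.classInner f g := by
  refine c.tau_avg hf hfs (c.tau_class hg) fun a ha => ?_
  rw [Finset.sum_congr rfl fun u hu => Dade.dadeIsometry_coset c.hypothesis hg ha (Dade.mem_fin.mp hu),
    Finset.sum_const, Dade.card_fin, nsmul_eq_mul, inv_mul_cancel_left₀]
  exact Nat.cast_ne_zero.mpr Nat.card_pos.ne'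

theorem tau_inner_one {f : M → ℂ} (hf : Cfsg.IsClassFunction M f) (hs : Supp f) :
    Cfsg.classInner (tau M f) (fun _ => 1) = Cfsg.classInner f (fun _ => 1) := by
  refine c.tau_avg hf hs (fun _ _ => rfl) fun a _ => ?_
  rw [Finset.sum_const, Dade.card_fin, nsmul_eq_mul, mul_one,
    inv_mul_cancel₀ (Nat.cast_ne_zero.mpr Nat.card_pos.ne')]

theorem tau_outer {f : M → ℂ} (hf : Cfsg.IsClassFunction M f) (w : ↥(ka M K ⊔ kb M K))
    (h1 : (w : M) ∉ ka M K) (h2 : (w : M) ∉ kb M K) : tau M f ((w : M) : G) = f w := by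
  have hA := c.outer_mem_A0 h1 h2
  have hR := OddOrder.TypeA.supportR_eq_bot c.hG c.hM (c.centralizer_outer h1 h2)
  simpa using Dade.dadeIsometry_coset c.hypothesis hf hA (u := 1) (by rw [hR]; exact one_mem _)

theorem supp_of {f : M → ℂ} (hf : Cfsg.IsClassFunction M f) (h1 : f 1 = 0)
    (ha : ∀ a ∈ ka M K, a ≠ 1 → f a = 0) : Supp f := by
  intro x hx
  rcases c.A0_or_conj x with rfl | h | ⟨t, a, ha', hne, rfl⟩
  · exact h1
  · exact absurd h hx
  · rw [hf a t]; exact ha a ha' hne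

theorem ka_not_kd {a : M} (ha : a ∈ ka M K) (h1 : a ≠ 1) : a ∉ kd M := fun h => h1 <| by
  have h' : a ∈ kd M ⊓ ka M K := ⟨h, ha⟩
  rwa [c.semi.inf, Subgroup.mem_bot] at h'

theorem supp_of_kd {f : M → ℂ} (hoff : ∀ x, x ∉ kd M → f x = 0) (h1 : f 1 = 0) : Supp f := by
  intro x hx
  by_cases hk : x ∈ kd M
  · by_cases hx1 : x = 1
    · rw [hx1]; exact h1
    · exact absurd (c.kd_mem_A0 hk hx1) hx
  · exact hoff x hk

theorem calS_supp {α : M → ℂ} (hα : α ∈ Cfsg.zspanOn (calS M) ({1}ᶜ : Set M)) :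
    Cfsg.IsClassFunction M α ∧ Supp α := by
  obtain ⟨ha, h1⟩ := Coherence.mem_zspanOn_one.mp hα
  obtain ⟨h2, h3⟩ := CohTI.zspan_vanish (kd M) ha
  exact ⟨h3, c.supp_of_kd h2 h1⟩

theorem calS_isometry :
    Cfsg.IsLinearIsometryOn (Cfsg.zspanOn (calS M) ({1}ᶜ : Set M)) (tau M) := by
  refine ⟨fun a _ b _ => tau_add a b, fun a _ n => tau_zsmul n a, fun a ha b hb => ?_, fun a ha => ?_⟩
  · exact c.tau_inner (c.calS_supp ha).1 (c.calS_supp ha).2 (c.calS_supp hb).1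
  · refine c.tau_gen (Coherence.zspan_gen (fun φ hφ => ?_) (Coherence.mem_zspanOn_one.mp ha).1)
      (c.calS_supp ha).2
    obtain ⟨θ, hθ, -, -, rfl⟩ := hφ
    exact IsGeneralizedCharacter.of_isCharacter (isCharacter_indFun _ (IsIrrCharacter.isCharacter hθ))

end Ctx

/-! ## The cyclic family and the exceptional characters -/

/-- A choice of the cyclic family `η` of `G` and of the characters `μ`, signs `δ` of `M`. -/
structure Fam (c : Ctx M K U) [Fintype M] where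
  χ : (↥(K ⊔ wTwo M K) →* ℂˣ) → G → ℂ
  hχ : Cfsg.IsCyclicTIFamily K (wTwo M K) χ
  μ : Chr M K → M → ℂ
  δ : Chr M K → ℤ
  μ_inj : Function.Injective μ
  μ_irr : ∀ ω, Cfsg.IsIrrCharacter M (μ ω)
  δ_sq : ∀ ω, δ ω * δ ω = 1
  μ_res : ∀ ω, Cfsg.IsIrrCharacter (kd M) (fun k : kd M => μ ω k)
  μ_shape : ∀ ω, ∀ w : ↥(ka M K ⊔ kb M K), (w : M) ∉ kb M K → μ ω w = (δ ω : ℂ) * (ω w : ℂ)
  μ_twist : ∀ (ω : Chr M K) (f : ka M K →* ℂˣ),
    δ (CyclicTI.pull1 c.semi.split f * ω) = δ ω ∧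
      μ (CyclicTI.pull1 c.semi.split f * ω) = fun g => (f (c.semi.pr g) : ℂ) * μ ω g
  μ_all : ∀ φ : M → ℂ, Cfsg.IsIrrCharacter M φ → Cfsg.IsIrrCharacter (kd M) (fun k : kd M => φ k) →
    ∃ ω, μ ω = φ

theorem exists_fam (c : Ctx M K U) [Fintype M] : Nonempty (Fam c) := by
  obtain ⟨χ, hχ⟩ := S1502.result K (wTwo M K) c.selfNormalizing
    (c.hG.1.of_dvd_nat (Subgroup.card_subgroup_dvd_card _))
  obtain ⟨μ, δ, h1, h2, h3, h4, h5, h6, h7, -⟩ := c.semi.exists_mu c.odd_sup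
  have hd : ∀ ω, ∃ n : ℤ, n * n = 1 ∧ δ ω = (n : ℂ) := fun ω => by
    rcases h3 ω with h | h
    · exact ⟨1, rfl, by rw [h]; simp⟩
    · exact ⟨-1, rfl, by rw [h]; simp⟩
  choose n hn hδ using hd
  exact ⟨⟨χ, hχ, μ, n, h1, h2, hn, h4, fun ω w hw => by rw [← hδ]; exact h5 ω w hw,
    fun ω f => ⟨Int.cast_injective (α := ℂ) (by rw [← hδ, ← hδ]; exact (h6 ω f).1), (h6 ω f).2⟩, h7⟩⟩

namespace Fam

variable {c : Ctx M K U} [Fintype M] (F : Fam c)

/-- The cyclic family indexed by the characters of `W` inside `M`. -/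
noncomputable def η (ω : Chr M K) : G → ℂ := F.χ (ω.comp c.wEquiv.symm.toMonoidHom)

theorem comp_symm_injective :
    Function.Injective fun ω : Chr M K => ω.comp c.wEquiv.symm.toMonoidHom := fun a b h => by
  refine MonoidHom.ext fun w => ?_
  have := DFunLike.congr_fun h (c.wEquiv w)
  simpa using this

theorem η_irr (ω : Chr M K) : CyclicTI.SignIrr (F.η ω) := F.hχ.irr_or_neg _

theorem η_gen (ω : Chr M K) : Cfsg.IsGeneralizedCharacter G (F.η ω) := by
  rcases F.η_irr ω with h | h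
  · exact IsGeneralizedCharacter.of_isCharacter (IsIrrCharacter.isCharacter h)
  · simpa using IsGeneralizedCharacter.neg
      (IsGeneralizedCharacter.of_isCharacter (IsIrrCharacter.isCharacter h))

theorem η_orth (a b : Chr M K) : Cfsg.classInner (F.η a) (F.η b) = if a = b then 1 else 0 := by
  rw [η, η, F.hχ.orthonormal]
  by_cases h : a = b
  · simp [h]
  · rw [if_neg h, if_neg fun e => h (comp_symm_injective e)]

theorem η_one : F.η 1 = fun _ => 1 := by
  rw [η, MonoidHom.one_comp, F.hχ.map_one]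

theorem η_eq (ω : Chr M K) (w : ↥(ka M K ⊔ kb M K)) (h1 : (w : M) ∉ ka M K) (h2 : (w : M) ∉ kb M K) :
    F.η ω ((w : M) : G) = (ω w : ℂ) := by
  have := F.hχ.eq_on (ω.comp c.wEquiv.symm.toMonoidHom) (c.wEquiv w) h1 h2
  simpa [η] using this

theorem η_conj (F : Fam c) (ω : Chr M K) : Cfsg.conjFun (F.η ω) = F.η ω⁻¹ := by
  haveI : Fintype ↥(K ⊔ wTwo M K) := Fintype.ofFinite _
  have h := CyclicTI.eq_of_agree c.selfNormalizing c.odd_W F.hχ
    (CyclicTI.SignIrr.twist (F.η_irr ω) (starRingAut : ℂ ≃+* ℂ))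
    (ω⁻¹.comp c.wEquiv.symm.toMonoidHom) fun w h1 h2 => ?_
  · exact h
  · show (starRingAut : ℂ ≃+* ℂ) (F.χ _ w) = _
    rw [F.hχ.eq_on _ w h1 h2]
    show conj ((ω.comp c.wEquiv.symm.toMonoidHom) w : ℂ) = _
    rw [← Complex.inv_eq_conj]
    · simp
    · refine norm_eq_one_of_pow (Nat.card_pos (α := ↥(K ⊔ wTwo M K))).ne' ?_
      rw [← Units.val_pow_eq_pow_val, ← map_pow, pow_card_eq_one', map_one, Units.val_one]

theorem η_int (F : Fam c) (ω : Chr M K) (hω : ∀ w : ↥(ka M K ⊔ kb M K), (w : M) ∈ kb M K → ω w = 1) (g : G)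
    (hg : Nat.Coprime (orderOf g) (Nat.card K)) : ∃ n : ℤ, F.η ω g = n := by
  haveI : Fintype ↥(K ⊔ wTwo M K) := Fintype.ofFinite _
  refine CyclicTI.exists_int c.selfNormalizing c.odd_W F.hχ _ g (hg.coprime_dvd_right ?_)
  refine orderOf_dvd_of_pow_eq_one (MonoidHom.ext fun w => ?_)
  rw [CyclicTI.hom_eq_pull1 c.semi.split hω]
  set f := ω.comp (CyclicTI.inc1 (ka M K) (kb M K))
  show (f (CyclicTI.proj1 c.semi.split (c.wEquiv.symm w))) ^ Nat.card K = 1
  rw [← map_pow, ← c.card_ka, pow_card_eq_one', map_one]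

theorem coeff (F : Fam c) {f : G → ℂ} (hf : Cfsg.IsGeneralizedCharacter G f) {N : ℤ}
    (hN : Cfsg.classInner f f = (N : ℂ)) (hN2 : N ≤ 2) (p q : Chr M K) (δ : ℤ)
    (hV : ∀ w : ↥(ka M K ⊔ kb M K), (w : M) ∉ ka M K → (w : M) ∉ kb M K →
      f ((w : M) : G) = (δ : ℂ) * ((p w : ℂ) - (q w : ℂ))) (ω : Chr M K) :
    Cfsg.classInner f (F.η ω) = (δ : ℂ) * ((if ω = p then 1 else 0) - if ω = q then 1 else 0) := by
  have h := coeff_eq c.selfNormalizing c.odd_W F.hχ hf hN hN2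
    (p.comp c.wEquiv.symm.toMonoidHom) (q.comp c.wEquiv.symm.toMonoidHom) δ (fun w h1 h2 => by
      have := hV (c.wEquiv.symm w) (fun e => h1 ?_) (fun e => h2 ?_)
      · rw [show (w : G) = (((c.wEquiv.symm w : ↥(ka M K ⊔ kb M K)) : M) : G) by
          rw [← c.coe_wEquiv, MulEquiv.apply_symm_apply]]
        exact this
      · rw [← c.wEquiv.apply_symm_apply w, c.coe_wEquiv]; exact e
      · rw [← c.wEquiv.apply_symm_apply w, c.coe_wEquiv]; exact e)
    (ω.comp c.wEquiv.symm.toMonoidHom)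
  simp only [(comp_symm_injective (c := c)).eq_iff] at h
  exact h

theorem coeff_zero' (F : Fam c) {f : G → ℂ} (hf : Cfsg.IsGeneralizedCharacter G f) {N : ℤ}
    (hN : Cfsg.classInner f f = (N : ℂ)) (hN2 : N ≤ 2)
    (hV : ∀ w : ↥(ka M K ⊔ kb M K), (w : M) ∉ ka M K → (w : M) ∉ kb M K → f ((w : M) : G) = 0)
    (ω : Chr M K) : Cfsg.classInner f (F.η ω) = 0 := by
  simpa using F.coeff hf hN hN2 1 1 0 (fun w h1 h2 => by simp [hV w h1 h2]) ω

theorem μ_class (ω : Chr M K) : Cfsg.IsClassFunction M (F.μ ω) :=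
  IsCharacter.isClassFunction (IsIrrCharacter.isCharacter (F.μ_irr ω))

theorem μ_gen (ω : Chr M K) : Cfsg.IsGeneralizedCharacter M (F.μ ω) :=
  IsGeneralizedCharacter.of_isCharacter (IsIrrCharacter.isCharacter (F.μ_irr ω))

theorem μ_orth (a b : Chr M K) : Cfsg.classInner (F.μ a) (F.μ b) = if a = b then 1 else 0 := by
  rw [classInner_irr (F.μ_irr a) (F.μ_irr b)]
  exact if_congr F.μ_inj.eq_iff rfl rfl

theorem μ_triv (ω : Chr M K) (hω : ∀ w : ↥(ka M K ⊔ kb M K), (w : M) ∈ kb M K → ω w = 1) :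
    F.δ ω = 1 ∧ F.μ ω = fun g => ((ω.comp (CyclicTI.inc1 _ _)) (c.semi.pr g) : ℂ) := by
  set f := ω.comp (CyclicTI.inc1 (ka M K) (kb M K))
  have hlin : Cfsg.IsIrrCharacter M (fun g => (f (c.semi.pr g) : ℂ)) :=
    isIrrCharacter_linear (f.comp c.semi.pr)
  obtain ⟨ω', hω'⟩ := F.μ_all _ hlin (by
    convert isIrrCharacter_one (G := kd M) using 2 with k
    simp [(c.semi.pr_eq_one_iff _).mpr k.2])
  obtain ⟨e1, e2⟩ := c.semi.shape_unique c.odd_sup (δ := (1 : ℂ)) (δ' := (F.δ ω' : ℂ)) one_ne_zero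
    (ω := ω) (ω' := ω') fun w hw => by
      rw [← F.μ_shape ω' w hw, hω', one_mul]
      show (ω w : ℂ) = f (c.semi.pr (w : M))
      rw [← c.semi.proj1_eq]
      conv_lhs => rw [CyclicTI.hom_eq_pull1 c.semi.split hω]
      rfl
  subst e2
  exact ⟨Int.cast_injective (α := ℂ) (by rw [← e1, Int.cast_one]), hω'⟩

theorem μ_conj (ω : Chr M K) : Cfsg.conjFun (F.μ ω) = F.μ ω⁻¹ ∧ F.δ ω⁻¹ = F.δ ω := by
  obtain ⟨ω', hω'⟩ := F.μ_all _ (IsIrrCharacter.conj (F.μ_irr ω))
    (IsIrrCharacter.conj (F.μ_res ω))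
  obtain ⟨e1, e2⟩ := c.semi.shape_unique c.odd_sup (δ := (F.δ ω : ℂ)) (δ' := (F.δ ω' : ℂ))
    (Int.cast_ne_zero.mpr fun e => by simpa [e] using F.δ_sq ω) (ω := ω⁻¹) (ω' := ω') fun w hw => by
      rw [← F.μ_shape ω' w hw, hω']
      show _ = conj (F.μ ω w)
      rw [F.μ_shape ω w hw, map_mul, map_intCast, ← Complex.inv_eq_conj]
      · simp
      · refine norm_eq_one_of_pow (Nat.card_pos (α := ↥(ka M K ⊔ kb M K))).ne' ?_
        rw [← Units.val_pow_eq_pow_val, ← map_pow, pow_card_eq_one', map_one, Units.val_one]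
  subst e2
  exact ⟨hω'.symm, Int.cast_injective (α := ℂ) e1.symm⟩

theorem μ_deg (ω : Chr M K) : ∃ n : ℤ, F.μ ω 1 = (F.δ ω : ℂ) + n * (Nat.card K : ℂ) := by
  haveI : Fintype (ka M K) := Fintype.ofFinite _
  set l : ka M K →* ℂˣ := ω.comp (CyclicTI.inc1 (ka M K) (kb M K))
  have hg := IsGeneralizedCharacter.restrict (F.μ_gen ω) (ka M K)
  have hl : Cfsg.IsGeneralizedCharacter (ka M K) (fun a => (l a : ℂ)) :=
    IsGeneralizedCharacter.of_isCharacter (IsIrrCharacter.isCharacter (isIrrCharacter_linear l))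
  obtain ⟨n, hn⟩ := IsGeneralizedCharacter.exists_classInner_int hg hl
  refine ⟨n - F.δ ω, ?_⟩
  push_cast
  rw [← hn, Cfsg.classInner, ← c.card_ka]
  have e : ∀ a : ka M K, F.μ ω a * conj (l a : ℂ) =
      (F.δ ω : ℂ) + if a = 1 then F.μ ω 1 - (F.δ ω : ℂ) else 0 := fun a => by
    by_cases h1 : a = 1
    · simp [h1]
    · rw [if_neg h1, add_zero]
      have hb : (a : M) ∉ kb M K := fun hb => h1 (Subtype.ext (by
        have : (a : M) ∈ ka M K ⊓ kb M K := ⟨a.2, hb⟩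
        rwa [c.semi.split.disj, Subgroup.mem_bot] at this))
      have hs := F.μ_shape ω (CyclicTI.inc1 _ _ a) hb
      rw [CyclicTI.coe_inc1] at hs
      rw [hs, show (l a : ℂ) = (ω (CyclicTI.inc1 _ _ a) : ℂ) from rfl, mul_assoc, Complex.mul_conj',
        norm_eq_one_of_pow (Nat.card_pos (α := ka M K)).ne']
      · simp
      · rw [← Units.val_pow_eq_pow_val, show ω (CyclicTI.inc1 _ _ a) = l a from rfl, ← map_pow,
          pow_card_eq_one', map_one, Units.val_one]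
  simp only [e, Finset.sum_add_distrib, Finset.sum_ite_eq', Finset.mem_univ, if_true,
    Finset.sum_const, Finset.card_univ, ← Nat.card_eq_fintype_card, nsmul_eq_mul]
  have h0 : (Nat.card (ka M K) : ℂ) ≠ 0 := Nat.cast_ne_zero.mpr Nat.card_pos.ne'
  field_simp
  ring

/-- The Dade map on differences of exceptional characters. -/
theorem tau_μ_sub (F : Fam c) (p q : Chr M K) (hne : p ≠ q) (hδ : F.δ p = F.δ q)
    (hdeg : F.μ p 1 = F.μ q 1)
    (hK : ∀ w : ↥(ka M K ⊔ kb M K), (w : M) ∈ ka M K → p w = q w) :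
    tau M (F.μ p - F.μ q) = (F.δ p : ℂ) • (F.η p - F.η q) := by
  set f := F.μ p - F.μ q with hf
  have hfc : Cfsg.IsClassFunction M f := fun g h => by
    simp only [hf, Pi.sub_apply, F.μ_class p g h, F.μ_class q g h]
  have hfs : Supp f := c.supp_of hfc (by simp [hf, hdeg]) fun a ha ha1 => by
    have hb : a ∉ kb M K := fun hb => ha1 (by
      have : a ∈ ka M K ⊓ kb M K := ⟨ha, hb⟩
      rwa [c.semi.split.disj, Subgroup.mem_bot] at this)
    have h1 := F.μ_shape p ⟨a, Subgroup.mem_sup_left ha⟩ hb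
    have h2 := F.μ_shape q ⟨a, Subgroup.mem_sup_left ha⟩ hb
    simp only [hf, Pi.sub_apply]
    rw [show F.μ p a = _ from h1, show F.μ q a = _ from h2, hδ, hK _ ha, sub_self]
  set T := tau M f with hT
  have hnorm : Cfsg.classInner T T = ((2 : ℤ) : ℂ) := by
    rw [hT, c.tau_inner hfc hfs hfc, hf, classInner_sub_left, classInner_sub_right,
      classInner_sub_right, F.μ_orth, F.μ_orth, F.μ_orth, F.μ_orth, if_pos rfl, if_pos rfl,
      if_neg hne, if_neg (Ne.symm hne)]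
    norm_num
  have hcoef := F.coeff (c.tau_gen (IsGeneralizedCharacter.sub (F.μ_gen p) (F.μ_gen q)) hfs) hnorm
    le_rfl p q (F.δ p) fun w h1 h2 => by
      rw [c.tau_outer hfc w h1 h2, hf, Pi.sub_apply, F.μ_shape p w h2, F.μ_shape q w h2, hδ]
      ring
  refine sub_eq_zero.mp (classInner_self_eq_zero ?_)
  have hp := hcoef p
  have hq := hcoef q
  simp only [if_pos, if_neg hne, if_neg (Ne.symm hne)] at hp hq
  have hp' : Cfsg.classInner (F.η p) T = (F.δ p : ℂ) := by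
    rw [← classInner_conj_symm, hp]; simp
  have hq' : Cfsg.classInner (F.η q) T = -(F.δ p : ℂ) := by
    rw [← classInner_conj_symm, hq]; simp
  have hs : (F.δ p : ℂ) * (F.δ p : ℂ) = 1 := by exact_mod_cast F.δ_sq p
  rw [classInner_sub_left, classInner_sub_right, classInner_sub_right, classInner_smul_left,
    classInner_smul_left, classInner_smul_right, classInner_smul_right, classInner_sub_left,
    classInner_sub_left, classInner_sub_right, classInner_sub_right, classInner_sub_right, hnorm,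
    hp, hq, hp', hq', F.η_orth, F.η_orth, F.η_orth, F.η_orth, if_pos rfl, if_pos rfl, if_neg hne,
    if_neg (Ne.symm hne), map_intCast]
  push_cast
  linear_combination (-2 : ℂ) * hs

end Fam

end Cfsg.Agent.OddChar.P10
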