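import Cfsg.Agent.Lib.OddChar.PF10.Linear
import Cfsg.Agent.Lib.OddChar.PF10.Criterion
import Cfsg.Agent.Lib.Char.TICongruence
import Cfsg.Agent.Lib.Char.CoherenceCentral

/-!
# Type V with trivially intersecting kernel: extending the coherence to the characters not trivial on `Z`
-/

set_option linter.style.haveILetI false
set_option linter.unusedSectionVars false

namespace Cfsg.Agent.OddChar.P10

open Cfsg.Agent.Char
open scoped Classical ComplexConjugate commutatorElement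

attribute [local instance] dualFintype

universe u

/-- The sum of `θ(1) θ` over the irreducible characters of `K` not trivial on a normal subgroup. -/
theorem sum_nontriv {L : Type u} [Group L] [Fintype L] (K : Subgroup L) [K.Normal] [Fintype K]
    (Z : Subgroup L) [Z.Normal] (x : K) :
    ∑ θ ∈ Finset.univ.filter (fun θ : Cfsg.IrrCharacter K =>
        ¬ ∀ a : K, (a : L) ∈ Z → (θ : K → ℂ) a = (θ : K → ℂ) 1), (θ : K → ℂ) 1 * (θ : K → ℂ) x =
      (if x = 1 then (Nat.card K : ℂ) else 0) - if (x : L) ∈ Z then (Z.relIndex K : ℂ) else 0 := by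
  haveI : Fintype (K ⧸ Z.subgroupOf K) := Fintype.ofFinite _
  rw [eq_sub_iff_add_eq]
  have h1 : ∑ θ : Cfsg.IrrCharacter K, (θ : K → ℂ) 1 * (θ : K → ℂ) x =
      if x = 1 then (Nat.card K : ℂ) else 0 := by
    have h := congrFun (leftRegular_eq_sum (G := K)) x
    rw [character_leftRegular, Finset.sum_apply] at h
    simp only [Pi.smul_apply, smul_eq_mul] at h
    exact h.symm
  have h2 : ∑ θ ∈ Finset.univ.filter (fun θ : Cfsg.IrrCharacter K =>
        ∀ a : K, (a : L) ∈ Z → (θ : K → ℂ) a = (θ : K → ℂ) 1), (θ : K → ℂ) 1 * (θ : K → ℂ) x =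
      if (x : L) ∈ Z then (Z.relIndex K : ℂ) else 0 := by
    rw [CharX.sum_trivialOn' (Z.subgroupOf K) _ (fun χ => by simp [Subgroup.mem_subgroupOf])
      (fun f : K → ℂ => f 1 * f x)]
    have h := congrFun (leftRegular_eq_sum (G := K ⧸ Z.subgroupOf K)) (x : K ⧸ Z.subgroupOf K)
    rw [character_leftRegular, Finset.sum_apply] at h
    simp only [Pi.smul_apply, smul_eq_mul] at h
    simp only [CharX.infl_apply, QuotientGroup.mk_one]
    rw [← h]
    exact if_congr ((QuotientGroup.eq_one_iff x).trans Subgroup.mem_subgroupOf) rfl rfl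
  rw [← h1, ← h2]
  exact Finset.sum_filter_not_add_sum_filter _ _ _

variable {G : Type u} [Group G] [Fintype G] {M K U : Subgroup G}

namespace Ctx

variable (c : Ctx M K U)
include c

theorem normalizer_eq :
    Subgroup.normalizer ((Cfsg.sigmaCore M : Subgroup G) : Set G) = M := by
  refine ((c.hM.le_iff).mp (OddOrder.Exceptional.le_normalizer_sigmaCore M)).resolve_left fun h => ?_
  haveI := c.hG.2.1
  rcases (Subgroup.normalizer_eq_top_iff.1 h).eq_bot_or_eq_top with h' | h'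
  · exact OddOrder.Kappa.sigmaCore_ne_bot c.hG c.hM h'
  · exact c.hM.1 (top_le_iff.mp (h'.ge.trans (OddOrder.Exceptional.sigmaCore_le M)))

theorem centralizer_kd (hTI : Cfsg.IsTISubset ((Cfsg.sigmaCore M : Subgroup G) : Set G)) {a : M}
    (ha : a ∈ kd M) (ha1 : a ≠ 1) : Subgroup.centralizer ({(a : G)} : Set G) ≤ M := by
  intro g hg
  rw [← c.normalizer_eq]
  by_contra hn
  refine ha1 (Subtype.ext (hTI g hn _ ((c.mem_kd a).1 ha) ?_))
  rw [Subgroup.mem_centralizer_singleton_iff.1 hg, mul_inv_cancel_right]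
  exact (c.mem_kd a).1 ha

variable [Fintype M]

/-- Against functions supported on the kernel, the Dade map is adjoint to restriction. -/
theorem tau_res (hTI : Cfsg.IsTISubset ((Cfsg.sigmaCore M : Subgroup G) : Set G)) {f : M → ℂ}
    (hf : Cfsg.IsClassFunction M f) (hoff : ∀ x, x ∉ kd M → f x = 0) (h1 : f 1 = 0) {χ : G → ℂ}
    (hχ : Cfsg.IsClassFunction G χ) :
    Cfsg.classInner (tau M f) χ = Cfsg.classInner f (fun x : M => χ x) := by
  rw [c.tau_avg hf (c.supp_of_kd hoff h1) hχ (ψ := c.rho χ) fun x hx => if_pos hx]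
  simp only [Cfsg.classInner]
  congr 1
  refine Finset.sum_congr rfl fun x _ => ?_
  by_cases hx : x ∈ kd M
  · by_cases hx1 : x = 1
    · simp [hx1, h1]
    · have hR := OddOrder.TypeA.supportR_eq_bot c.hG c.hM (c.centralizer_kd hTI hx hx1)
      have : c.rho χ x = χ x := by
        rw [Ctx.rho, if_pos (c.kd_mem_A0 hx hx1), hR,
          show Dade.fin (⊥ : Subgroup G) = {1} from by ext; simp [Dade.mem_fin]]
        simp
      rw [this]
  · simp [hoff x hx]

end Ctx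

namespace Coh

variable {c : Ctx M K U} [Fintype M] {X : Set (M → ℂ)} {ζ : M → ℂ}

theorem u_bar (h : Coh c X ζ) : Cfsg.classInner (h.t (Cfsg.conjFun ζ)) (h.t (Cfsg.conjFun ζ)) = 1 ∧
    Cfsg.classInner h.u (h.t (Cfsg.conjFun ζ)) = 0 ∧
    Cfsg.classInner (tau M (Cfsg.conjFun ζ - (1 : ℂ) • ζ)) h.u = -1 ∧
    Cfsg.classInner (tau M (Cfsg.conjFun ζ - (1 : ℂ) • ζ)) (h.t (Cfsg.conjFun ζ)) = 1 := by
  have hc : Cfsg.IsIrrCharacter M (Cfsg.conjFun ζ) := IsIrrCharacter.conj h.irr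
  have h00 : Cfsg.classInner ζ (Cfsg.conjFun ζ) = 0 :=
    classInner_irr_of_ne h.irr hc (c.conj_ne h.zetaS).symm
  have h01 : Cfsg.classInner (Cfsg.conjFun ζ) ζ = 0 :=
    classInner_irr_of_ne hc h.irr (c.conj_ne h.zetaS)
  have hm : Cfsg.conjFun ζ - (1 : ℂ) • ζ ∈ Cfsg.zspanOn X ({1}ᶜ : Set M) :=
    Coherence.mem_zspanOn_one.mpr ⟨by
      rw [one_smul]; exact Submodule.sub_mem _ (Submodule.subset_span h.cmem) (Submodule.subset_span h.mem),
      by simp [Coherence.conjFun_one h.irr]⟩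
  refine ⟨(h.t_inner h.cmem h.cmem).trans (classInner_self_irr hc), (h.t_inner h.mem h.cmem).trans h00, ?_, ?_⟩
  · rw [← h.agree _ hm, Coh.u, Coherence.iso_inner (M := Submodule.span ℤ X) h.iso hm.1
      (Submodule.subset_span h.mem)]
    simp [classInner_sub_left, h01, classInner_self_irr h.irr]
  · rw [← h.agree _ hm, Coherence.iso_inner (M := Submodule.span ℤ X) h.iso hm.1
      (Submodule.subset_span h.cmem)]
    simp [classInner_sub_left, h00, classInner_self_irr hc]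

/-- The coefficient of `τ(φ - d ζ)` at the image of `ζ`, up to the shift `d`, lies between `0` and `d`. -/
theorem coeff_bounds (F : Fam c) (h : Coh c X ζ) {φ : M → ℂ} (hφ : φ ∈ calS M) (h1 : φ ≠ ζ)
    (h2 : φ ≠ Cfsg.conjFun ζ) {d : ℕ} (hd : φ 1 = (d : ℂ) * (Nat.card K : ℂ)) :
    ∃ e : ℤ, Cfsg.classInner (tau M (φ - (d : ℂ) • ζ)) h.u = (e : ℂ) - (d : ℂ) ∧
      Cfsg.classInner (tau M (φ - (d : ℂ) • ζ)) (h.t (Cfsg.conjFun ζ)) = (e : ℂ) ∧
      0 ≤ e ∧ e ≤ (d : ℤ) := by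
  have hcS := h.sub h.cmem
  obtain ⟨N, -, hN⟩ := Coherence.sys_norm F.system hφ
  have hNd : N ≤ 2 * d + 1 := by
    rcases F.cases_calS hφ with hi | ⟨ω, -, hJ, rfl⟩
    · rw [classInner_self_irr hi] at hN
      have : (1 : ℕ) = N := by exact_mod_cast hN
      omega
    · obtain ⟨d', hd', hle, -⟩ := F.μ_deg_nat hJ
      rw [F.mus_inner_self] at hN
      have e1 : Nat.card K = N := by exact_mod_cast hN
      rw [F.mus_on _ (one_mem _), hd', mul_comm] at hd
      have e2 : d' = d := by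
        exact_mod_cast mul_right_cancel₀ (Nat.cast_ne_zero.mpr (Nat.card_pos (α := K)).ne') hd
      omega
  have o1 := F.system.orthogonal φ hφ ζ h.zetaS h1
  have o2 := F.system.orthogonal φ hφ _ hcS h2
  have o1' := F.system.orthogonal ζ h.zetaS φ hφ (Ne.symm h1)
  have hm := c.diff_mem (X := calS M) h.zetaS hφ h.deg hd
  obtain ⟨hc, hs⟩ := c.calS_supp hm
  obtain ⟨a, ha⟩ := IsGeneralizedCharacter.exists_classInner_int (c.calS_isometry.2.2.2 _ hm) h.u_gen
  refine ⟨a + d, by rw [ha]; push_cast; ring, ?_⟩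
  have hbar : Cfsg.classInner (tau M (φ - (d : ℂ) • ζ)) (h.t (Cfsg.conjFun ζ)) = ((a + d : ℤ) : ℂ) := by
    rw [h.transfer hc hs h.cmem (d := 1) (by rw [Coherence.conjFun_one h.irr, h.deg, Nat.cast_one, one_mul]),
      ha]
    simp [classInner_sub_left, classInner_smul_left, o1, o2, classInner_self_irr h.irr,
      show Cfsg.classInner ζ (Cfsg.conjFun ζ) = 0 from
        classInner_irr_of_ne h.irr (IsIrrCharacter.conj h.irr) (c.conj_ne h.zetaS).symm]
  refine ⟨hbar, ?_⟩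
  obtain ⟨hb1, hb0, -, -⟩ := h.u_bar
  have hb0' : Cfsg.classInner (h.t (Cfsg.conjFun ζ)) h.u = 0 := by
    rw [← classInner_conj_symm, hb0, map_zero]
  have hB := (Coherence.bessel Finset.univ (fun i : Bool => if i then h.u else h.t (Cfsg.conjFun ζ))
    (fun _ => 1) (fun i => if i then (a : ℝ) else ((a + d : ℤ) : ℝ)) (fun _ _ => one_pos)
    (fun i _ j _ hne => by cases i <;> cases j <;> simp_all)
    (fun i _ => by cases i <;> simp [hb1, h.u_norm])
    (x := tau M (φ - (d : ℂ) • ζ)) (fun i _ => by cases i <;> simp [ha, hbar])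
    (N := (N : ℝ) + (d : ℝ) ^ 2) (by
      rw [c.tau_inner hc hs hc]
      simp [classInner_sub_left, classInner_sub_right, classInner_smul_left, classInner_smul_right, o1,
        o1', classInner_self_irr h.irr, hN]
      ring)).1
  simp only [Fintype.sum_bool, if_true, Bool.false_eq_true, if_false, div_one] at hB
  have hB' : a ^ 2 + (a + d) ^ 2 ≤ (N : ℤ) + (d : ℤ) ^ 2 := by exact_mod_cast hB
  have hNd' : (N : ℤ) ≤ 2 * d + 1 := by exact_mod_cast hNd
  constructor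
  · by_contra hlt
    push Not at hlt
    have := mul_nonneg (show (0 : ℤ) ≤ -(a + d) - 1 by omega) (show (0 : ℤ) ≤ -a by omega)
    nlinarith
  · by_contra hlt
    push Not at hlt
    have := mul_nonneg (show (0 : ℤ) ≤ a + d by omega) (show (0 : ℤ) ≤ a - 1 by omega)
    nlinarith

/-- The congruence for the values of `u` on a central subgroup of a trivially intersecting Sylow subgroup. -/
theorem congr_const (h : Coh c X ζ) {p m : ℕ} (hp : p.Prime) (hcard : Nat.card (kd M) = p ^ m)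
    (hTI : Cfsg.IsTISubset ((Cfsg.sigmaCore M : Subgroup G) : Set G)) (Z : Subgroup M) [hZn : Z.Normal]
    (hZK : Z ≤ kd M) (hZc : ∀ z ∈ Z, ∀ y ∈ kd M, z * y = y * z)
    (hconst : ∀ z ∈ Z, ∀ z' ∈ Z, z ≠ 1 → z' ≠ 1 → h.u (z : G) = h.u (z' : G)) {z₀ : M} (hz₀ : z₀ ∈ Z)
    (hz₁ : z₀ ≠ 1) :
    ∃ n t : ℤ, h.u (z₀ : G) = (n : ℂ) ∧ h.u 1 = ((n + (Nat.card (kd M) : ℤ) * t : ℤ) : ℂ) := by
  haveI := Fact.mk hp
  have hcσ : Nat.card (Cfsg.sigmaCore M) = p ^ m := by
    rw [← hcard]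
    exact (Nat.card_congr ((Subgroup.subgroupOfEquivOfLe (OddOrder.Exceptional.sigmaCore_le M)).symm.trans
      (MulEquiv.subgroupCongr (show (Cfsg.sigmaCore M).subgroupOf M = kd M from
        Subgroup.ext fun x => (c.mem_kd x).symm))).toEquiv)
  have hm0 : m ≠ 0 := by
    rintro rfl
    refine hz₁ ?_
    have h1 : kd M = ⊥ := Subgroup.card_eq_one.mp (by rw [hcard, pow_zero])
    have h2 := hZK hz₀
    rwa [h1, Subgroup.mem_bot] at h2
  have hcopp : Nat.Coprime p (Nat.card K) := by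
    have h1 := c.semi.coprime
    rw [c.card_ka, hcard] at h1
    exact (h1.coprime_dvd_right (dvd_pow_self p hm0)).symm
  have hsyl : Nat.card (Cfsg.sigmaCore M) = p ^ (Nat.card G).factorization p := by
    rw [hcσ]
    congr 1
    have h1 : p ^ m ∣ Nat.card G := hcσ ▸ Subgroup.card_subgroup_dvd_card _
    have h2 : ¬ p ^ (m + 1) ∣ Nat.card G := fun h' => by
      have h3 := Sylow.prime_dvd_card_quotient_normalizer h' hcσ
      refine hp.ne_one (Nat.eq_one_of_dvd_coprimes hcopp dvd_rfl ?_)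
      have h4 : Nat.card (↥(Subgroup.normalizer ((Cfsg.sigmaCore M : Subgroup G) : Set G)) ⧸
          (Cfsg.sigmaCore M).subgroupOf (Subgroup.normalizer ((Cfsg.sigmaCore M : Subgroup G) : Set G))) =
          Nat.card K := by
        show (Cfsg.sigmaCore M).relIndex _ = _
        rw [c.normalizer_eq]
        show ((Cfsg.sigmaCore M).subgroupOf M).index = _
        rw [show (Cfsg.sigmaCore M).subgroupOf M = kd M from Subgroup.ext fun x => (c.mem_kd x).symm,
          c.semi.index_eq, c.card_ka]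
      exact h4 ▸ h3
    have h3 := (hp.pow_dvd_iff_le_factorization Nat.card_pos.ne').mp h1
    have h4 : ¬ m + 1 ≤ (Nat.card G).factorization p := fun h' =>
      h2 ((hp.pow_dvd_iff_le_factorization Nat.card_pos.ne').mpr h')
    omega
  let P : Sylow p G := Sylow.ofCard (Cfsg.sigmaCore M) hsyl
  have hP : (P : Subgroup G) = Cfsg.sigmaCore M := rfl
  obtain ⟨ε, hε, hirr⟩ : ∃ ε : ℤ, ε * ε = 1 ∧ Cfsg.IsIrrCharacter G ((ε : ℂ) • h.u) := by
    rcases IsGeneralizedCharacter.of_norm_one h.u_gen h.u_norm with h' | h'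
    · exact ⟨1, rfl, by simpa using h'⟩
    · exact ⟨-1, rfl, by simpa using h'⟩
  obtain ⟨n, d, hn, hd, j, hj⟩ := TICongr.dvd_sub_value p P hTI
    (c.hG.1.of_dvd_nat (Subgroup.card_subgroup_dvd_card _)) (Z.map M.subtype)
    (by rintro _ ⟨z, hz, rfl⟩; exact (c.mem_kd z).1 (hZK hz))
    (by
      rintro x hx _ ⟨z, hz, rfl⟩
      rw [hP, c.normalizer_eq] at hx
      exact ⟨⟨x, hx⟩ * z * ⟨x, hx⟩⁻¹, hZn.conj_mem z hz ⟨x, hx⟩, rfl⟩)
    (by
      rintro _ ⟨z, hz, rfl⟩ y hy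
      rw [hP] at hy
      exact congrArg Subtype.val
        (hZc z hz ⟨y, OddOrder.Exceptional.sigmaCore_le M hy⟩ ((c.mem_kd _).2 hy)))
    ((ε : ℂ) • h.u) hirr
    (by
      rintro _ ⟨z, hz, rfl⟩ _ ⟨z', hz', rfl⟩ hne1 hne2
      simp only [Pi.smul_apply]
      exact congrArg _ (hconst z hz z' hz' (fun e => hne1 (by rw [e, map_one]))
        fun e => hne2 (by rw [e, map_one])))
    (z₀ : G) ⟨z₀, hz₀, rfl⟩ (fun e => hz₁ (Subtype.ext e))
  rw [hP, hcσ, ← hcard] at hj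
  have hεC : (ε : ℂ) * (ε : ℂ) = 1 := by exact_mod_cast hε
  simp only [Pi.smul_apply, smul_eq_mul] at hn hd
  refine ⟨ε * n, ε * j, ?_, ?_⟩
  · push_cast
    linear_combination (ε : ℂ) * hn - h.u (z₀ : G) * hεC
  · have hj' : (d : ℂ) = (n : ℂ) + (Nat.card (kd M) : ℂ) * (j : ℂ) := by
      rw [sub_eq_iff_eq_add] at hj
      rw [hj]; push_cast; ring
    push_cast
    linear_combination (ε : ℂ) * hd + (ε : ℂ) * hj' - h.u 1 * hεC

/-- The coherence extends to the members of `calS` not trivial on `Z`. -/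
theorem exists_coh_nontriv (F : Fam c) (h : Coh c (linS M) ζ) {p m : ℕ} (hp : p.Prime)
    (hcard : Nat.card (kd M) = p ^ m)
    (hTI : Cfsg.IsTISubset ((Cfsg.sigmaCore M : Subgroup G) : Set G)) (Z : Subgroup M) [hZn : Z.Normal]
    (hZ : Z ≤ ⁅kd M, kd M⁆) (hZ1 : Z ≠ ⊥) (hZc : ∀ z ∈ Z, ∀ y ∈ kd M, z * y = y * z)
    (hconst : ∀ z ∈ Z, ∀ z' ∈ Z, z ≠ 1 → z' ≠ 1 → h.u (z : G) = h.u (z' : G)) :
    Nonempty (Coh c ({ζ, Cfsg.conjFun ζ} ∪ (calS M \ Cfsg.inducedIrrAbove (kd M) Z)) ζ) := by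
  haveI : Fintype (kd M) := Fintype.ofFinite _
  haveI : Fintype Z := Fintype.ofFinite _
  have hZK : Z ≤ kd M := hZ.trans (Subgroup.commutator_le_left _ _)
  have hζ := h.zetaS
  have hsubZ : linS M ⊆ Cfsg.inducedIrrAbove (kd M) Z := IndSet.above_subset (kd M) Z _ hZ
  obtain ⟨z₀, hz₀, hz₁⟩ := (Subgroup.bot_or_exists_ne_one Z).resolve_left hZ1
  obtain ⟨n, t, hn, hn1⟩ := h.congr_const hp hcard hTI Z hZK hZc hconst hz₀ hz₁
  set uM : M → ℂ := fun x => h.u x with huM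
  have huMc : Cfsg.IsClassFunction M uM := fun x y => h.u_class (x : G) (y : G)
  have huMg : Cfsg.IsGeneralizedCharacter M uM := IsGeneralizedCharacter.restrict h.u_gen M
  obtain ⟨s, hs⟩ := IsGeneralizedCharacter.exists_classInner_int (calS_gen hζ) huMg
  set Θ := Finset.univ.filter (fun θ : Cfsg.IrrCharacter (kd M) =>
    ¬ ∀ a : kd M, (a : M) ∈ Z → (θ : kd M → ℂ) a = (θ : kd M → ℂ) 1) with hΘ
  set dd : Cfsg.IrrCharacter (kd M) → ℕ := fun θ => Cfsg.charDegree (θ : kd M → ℂ) with hdd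
  have hdd1 : ∀ θ : Cfsg.IrrCharacter (kd M), (θ : kd M → ℂ) 1 = (dd θ : ℂ) := fun θ => CharX.irr_deg θ
  have hind : ∀ θ : Cfsg.IrrCharacter (kd M),
      Cfsg.indFun (kd M) (θ : kd M → ℂ) 1 = (dd θ : ℂ) * (Nat.card K : ℂ) := fun θ => by
    rw [indFun_one_apply, c.semi.index_eq, c.card_ka, hdd1, mul_comm]
  have hmem : ∀ θ ∈ Θ, Cfsg.indFun (kd M) (θ : kd M → ℂ) ∈ calS M ∧
      Cfsg.indFun (kd M) (θ : kd M → ℂ) ∉ Cfsg.inducedIrrAbove (kd M) Z := fun θ hθ => by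
    have hnot := (Finset.mem_filter.mp hθ).2
    have hθ1 : (θ : kd M → ℂ) ≠ fun _ => 1 := fun e => hnot fun a _ => by rw [e]
    refine ⟨⟨θ, θ.2, hθ1, fun a ha => ?_, rfl⟩, fun h' => hnot ((IndSet.mem_above_iff (kd M) Z θ.2 hθ1).mp h')⟩
    rw [Subgroup.mem_bot] at ha
    rw [show a = 1 from Subtype.ext ha]
  have hne' : ∀ φ, φ ∉ Cfsg.inducedIrrAbove (kd M) Z → φ ≠ ζ ∧ φ ≠ Cfsg.conjFun ζ := fun φ hφ =>
    ⟨fun e => hφ (e ▸ hsubZ h.mem), fun e => hφ (e ▸ hsubZ h.cmem)⟩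
  choose! E hE hEbar hE0 hEd using fun θ (hθ : θ ∈ Θ) =>
    h.coeff_bounds F (hmem θ hθ).1 (hne' _ (hmem θ hθ).2).1 (hne' _ (hmem θ hθ).2).2 (hind θ)
  have hr : ∀ θ ∈ Θ, Cfsg.classInner (θ : kd M → ℂ) (fun x : kd M => uM x) =
      (E θ : ℂ) - (dd θ : ℂ) + (dd θ : ℂ) * (s : ℂ) := fun θ hθ => by
    have e := hE θ hθ
    have hfc : Cfsg.IsClassFunction M (Cfsg.indFun (kd M) (θ : kd M → ℂ) - (dd θ : ℂ) • ζ) := fun x y => by
      simp [isClassFunction_indFun (kd M) (θ : kd M → ℂ) x y, (calS_off hζ).2 x y]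
    have hfo : ∀ x, x ∉ kd M → (Cfsg.indFun (kd M) (θ : kd M → ℂ) - (dd θ : ℂ) • ζ) x = 0 := fun x hx => by
      simp [indFun_eq_zero_of_not_mem _ _ hx, (calS_off hζ).1 x hx]
    have hf1 : (Cfsg.indFun (kd M) (θ : kd M → ℂ) - (dd θ : ℂ) • ζ) 1 = 0 := by simp [hind θ, h.deg]
    rw [c.tau_res hTI hfc hfo hf1 h.u_class, classInner_sub_left, classInner_smul_left,
      classInner_indFun_left (kd M) _ huMc, hs] at e
    linear_combination e
  have hdR : ∀ θ : Cfsg.IrrCharacter (kd M), conj (dd θ : ℂ) = (dd θ : ℂ) := fun θ => map_natCast _ _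
  have hrel : (Z.relIndex (kd M) : ℂ) * (Fintype.card Z : ℂ) = (Nat.card (kd M) : ℂ) := by
    rw [← Nat.card_eq_fintype_card, ← Nat.cast_mul, Nat.cast_inj, mul_comm]
    have := Subgroup.relIndex_mul_relIndex ⊥ Z (kd M) bot_le hZK
    rwa [Subgroup.relIndex_bot_left, Subgroup.relIndex_bot_left] at this
  have hN : ∑ θ ∈ Θ, (dd θ : ℂ) ^ 2 = (Nat.card (kd M) : ℂ) - (Z.relIndex (kd M) : ℂ) := by
    have := sum_nontriv (kd M) Z 1
    simp only [if_pos, OneMemClass.coe_one, Z.one_mem, ← hΘ] at this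
    rw [← this]
    exact Finset.sum_congr rfl fun θ _ => by rw [hdd1, sq]
  have hsum : ∑ θ ∈ Θ, (dd θ : ℂ) * Cfsg.classInner (θ : kd M → ℂ) (fun x : kd M => uM x) =
      (t : ℂ) * ∑ θ ∈ Θ, (dd θ : ℂ) ^ 2 := by
    have e : ∑ θ ∈ Θ, (dd θ : ℂ) * Cfsg.classInner (θ : kd M → ℂ) (fun x : kd M => uM x) =
        Cfsg.classInner (fun x : kd M => (if x = 1 then (Nat.card (kd M) : ℂ) else 0) -
          if (x : M) ∈ Z then (Z.relIndex (kd M) : ℂ) else 0) (fun x : kd M => uM x) := by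
      have hf : (∑ θ ∈ Θ, (dd θ : ℂ) • (θ : kd M → ℂ)) = fun x : kd M =>
          (if x = 1 then (Nat.card (kd M) : ℂ) else 0) -
            if (x : M) ∈ Z then (Z.relIndex (kd M) : ℂ) else 0 := funext fun x => by
        convert sum_nontriv (kd M) Z x using 1
        · rw [Finset.sum_apply]
          exact Finset.sum_congr rfl fun θ _ => by rw [Pi.smul_apply, smul_eq_mul, hdd1]
        · congr 1
          by_cases hx : x = 1 <;> simp [hx]
      rw [← hf, classInner_sum_left]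
      exact Finset.sum_congr rfl fun θ _ => by rw [classInner_smul_left]
    rw [e, hN, Cfsg.classInner]
    simp only [sub_mul, ite_mul, zero_mul, Finset.sum_sub_distrib, Finset.sum_ite_eq', Finset.mem_univ,
      if_true]
    have hsz : ∑ x : kd M, (if (x : M) ∈ Z then (Z.relIndex (kd M) : ℂ) * conj (uM x) else 0) =
        (Z.relIndex (kd M) : ℂ) * (((n + (Nat.card (kd M) : ℤ) * t : ℤ) : ℂ) +
          ((Fintype.card Z : ℂ) - 1) * (n : ℂ)) := by
      rw [← Finset.sum_filter, ← Finset.mul_sum]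
      congr 1
      have hbij : ∑ z : Z, conj (uM (z : M)) =
          ∑ x ∈ Finset.univ.filter (fun x : kd M => (x : M) ∈ Z), conj (uM (x : M)) :=
        Finset.sum_nbij (fun z : Z => (⟨(z : M), hZK z.2⟩ : kd M))
          (fun z _ => Finset.mem_filter.mpr ⟨Finset.mem_univ _, z.2⟩)
          (fun a _ b _ e => Subtype.ext (congrArg (fun x : kd M => (x : M)) e :))
          (fun x hx => ⟨⟨(x : M), (Finset.mem_filter.mp hx).2⟩, Finset.mem_univ _, rfl⟩)
          (fun _ _ => rfl)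
      rw [← hbij,
        ← Finset.add_sum_erase _ _ (Finset.mem_univ (1 : Z)),
        Finset.sum_congr rfl (g := fun _ => (n : ℂ)) fun (w : Z) hw => by
          rw [show uM w = h.u ((w : M) : G) from rfl, hconst w w.2 z₀ hz₀
            (fun h' => (Finset.mem_erase.mp hw).1 (Subtype.ext h')) hz₁, hn, map_intCast],
        Finset.sum_const, Finset.card_erase_of_mem (Finset.mem_univ _), nsmul_eq_mul, Finset.card_univ,
        Nat.cast_sub Fintype.card_pos]
      rw [show conj (uM ((1 : Z) : M)) = ((n + (Nat.card (kd M) : ℤ) * t : ℤ) : ℂ) by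
        rw [show uM ((1 : Z) : M) = h.u 1 from by simp [huM], hn1, map_intCast]]
      push_cast
      ring
    rw [hsz, show conj (uM ((1 : kd M) : M)) = ((n + (Nat.card (kd M) : ℤ) * t : ℤ) : ℂ) by
      rw [show uM ((1 : kd M) : M) = h.u 1 from by simp [huM], hn1, map_intCast]]
    have hK0 : (Nat.card (kd M) : ℂ) ≠ 0 := Nat.cast_ne_zero.mpr Nat.card_pos.ne'
    rw [inv_mul_eq_iff_eq_mul₀ hK0]
    push_cast
    linear_combination (-(n : ℂ)) * hrel
  have hlin : ∑ θ ∈ Θ, (dd θ : ℂ) * (E θ : ℂ) = ((t - s + 1 : ℤ) : ℂ) * ∑ θ ∈ Θ, (dd θ : ℂ) ^ 2 := by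
    rw [Finset.sum_congr rfl (g := fun θ => (dd θ : ℂ) * (E θ : ℂ) + ((s : ℂ) - 1) * (dd θ : ℂ) ^ 2)
      (fun θ hθ => by rw [hr θ hθ]; ring), Finset.sum_add_distrib, ← Finset.mul_sum] at hsum
    push_cast
    linear_combination hsum
  set N : ℤ := ∑ θ ∈ Θ, (dd θ : ℤ) ^ 2 with hNdef
  have hlinZ : ∑ θ ∈ Θ, (dd θ : ℤ) * E θ = (t - s + 1) * N := by
    apply Int.cast_injective (α := ℂ)
    show ((∑ θ ∈ Θ, (dd θ : ℤ) * E θ : ℤ) : ℂ) = (((t - s + 1) * N : ℤ) : ℂ)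
    rw [Int.cast_mul, hNdef, Int.cast_sum, Int.cast_sum]
    push_cast at hlin ⊢
    exact hlin
  have hpos : 0 < N := by
    obtain ⟨θ, hθ⟩ := Central.exists_nontrivial_on (kd M) Z hZ1 hZK
    refine Finset.sum_pos (fun φ _ => ?_) ⟨θ, Finset.mem_filter.mpr ⟨Finset.mem_univ _, hθ⟩⟩
    have h1 : 0 < (dd φ : ℤ) := Int.natCast_pos.mpr (CharX.irr_deg_pos φ)
    positivity
  have hlo : 0 ≤ ∑ θ ∈ Θ, (dd θ : ℤ) * E θ :=
    Finset.sum_nonneg fun θ hθ => mul_nonneg (Int.natCast_nonneg _) (hE0 θ hθ)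
  have hhi : ∑ θ ∈ Θ, (dd θ : ℤ) * E θ ≤ N := Finset.sum_le_sum fun θ hθ => by
    rw [sq]; exact mul_le_mul_of_nonneg_left (hEd θ hθ) (Int.natCast_nonneg _)
  set j : ℤ := t - s + 1 with hjdef
  have hj : j = 0 ∨ j = 1 := by
    rw [hlinZ] at hlo hhi
    have h1 : 0 ≤ j := nonneg_of_mul_nonneg_left hlo hpos
    have h2 : j ≤ 1 := le_of_mul_le_mul_right (by rwa [one_mul]) hpos
    omega
  set bar := h.t (Cfsg.conjFun ζ) with hbar
  obtain ⟨hb1, hb0, hc1, hc2⟩ := h.u_bar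
  have hval : ∀ φ ∈ calS M \ Cfsg.inducedIrrAbove (kd M) Z, ∀ d : ℕ,
      φ 1 = (d : ℂ) * (Nat.card K : ℂ) → ∃ θ ∈ Θ, φ = Cfsg.indFun (kd M) (θ : kd M → ℂ) ∧ d = dd θ := by
    rintro φ ⟨⟨θ, hθ, hθ1, -, rfl⟩, hnot⟩ d hd
    refine ⟨⟨θ, hθ⟩, Finset.mem_filter.mpr ⟨Finset.mem_univ _,
      fun h' => hnot ((IndSet.mem_above_iff (kd M) Z hθ hθ1).mpr h')⟩, rfl, ?_⟩
    rw [hind ⟨θ, hθ⟩] at hd
    exact_mod_cast (mul_right_cancel₀ (Nat.cast_ne_zero.mpr (Nat.card_pos (α := K)).ne') hd).symm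
  have hzero : ∀ φ ∈ calS M \ Cfsg.inducedIrrAbove (kd M) Z, Cfsg.classInner φ ζ = 0 := fun φ hφ =>
    F.system.orthogonal φ hφ.1 ζ hζ (hne' φ hφ.2).1
  have hd1 : ∀ φ, φ = ζ ∨ φ = Cfsg.conjFun ζ → ∀ d : ℕ, φ 1 = (d : ℂ) * (Nat.card K : ℂ) → d = 1 := by
    intro φ hφ d hd
    have h2 : φ 1 = (Nat.card K : ℂ) := by
      rcases hφ with rfl | rfl
      · exact h.deg
      · rw [Coherence.conjFun_one h.irr, h.deg]
    rw [h2] at hd
    nth_rewrite 1 [← one_mul (Nat.card K : ℂ)] at hd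
    exact_mod_cast (mul_right_cancel₀ (Nat.cast_ne_zero.mpr (Nat.card_pos (α := K)).ne') hd).symm
  have hcc : Cfsg.classInner (Cfsg.conjFun ζ) ζ = 0 :=
    classInner_irr_of_ne (IsIrrCharacter.conj h.irr) h.irr (c.conj_ne hζ)
  have hsub : {ζ, Cfsg.conjFun ζ} ∪ (calS M \ Cfsg.inducedIrrAbove (kd M) Z) ⊆ calS M :=
    Set.union_subset (Set.insert_subset hζ (Set.singleton_subset_iff.mpr (h.sub h.cmem))) Set.sdiff_subset
  rcases hj with hj | hj <;> rw [hj] at hlinZ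
  · refine ⟨Coh.ofU F hsub (Or.inl (Set.mem_insert _ _)) (Or.inl (Set.mem_insert_of_mem _ rfl)) h.irr
      h.deg h.u h.u_gen h.u_norm fun φ hφ d hd => ?_⟩
    rcases hφ with hφ | hφ
    · obtain rfl := hd1 φ hφ d hd
      rcases hφ with rfl | rfl
      · simp [tau_zero, classInner_self_irr h.irr]
      · rw [Nat.cast_one, hc1, hcc]; norm_num
    · obtain ⟨θ, hθ, rfl, rfl⟩ := hval φ hφ d hd
      rw [hzero _ hφ, hE θ hθ]
      have := (Finset.sum_eq_zero_iff_of_nonneg fun θ hθ =>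
        mul_nonneg (Int.natCast_nonneg _) (hE0 θ hθ)).mp (by simpa using hlinZ) θ hθ
      rw [(mul_eq_zero.mp this).resolve_left (Int.natCast_ne_zero.mpr (CharX.irr_deg_pos θ).ne')]
      simp
  · refine ⟨Coh.ofU F hsub (Or.inl (Set.mem_insert _ _)) (Or.inl (Set.mem_insert_of_mem _ rfl)) h.irr
      h.deg (-bar) (IsGeneralizedCharacter.neg (h.t_gen h.cmem))
      (by simp [classInner_neg_left, classInner_neg_right, hbar, hb1]) fun φ hφ d hd => ?_⟩
    rw [classInner_neg_right, hbar]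
    rcases hφ with hφ | hφ
    · obtain rfl := hd1 φ hφ d hd
      rcases hφ with rfl | rfl
      · simp [tau_zero, classInner_self_irr h.irr]
      · rw [Nat.cast_one, hc2, hcc]; norm_num
    · obtain ⟨θ, hθ, rfl, rfl⟩ := hval φ hφ d hd
      rw [hzero _ hφ, hEbar θ hθ]
      have hle : ∀ θ ∈ Θ, (dd θ : ℤ) * E θ ≤ (dd θ : ℤ) ^ 2 := fun θ hθ => by
        rw [sq]; exact mul_le_mul_of_nonneg_left (hEd θ hθ) (Int.natCast_nonneg _)
      have := (Finset.sum_eq_sum_iff_of_le hle).mp (by simpa [hNdef] using hlinZ) θ hθ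
      rw [sq] at this
      rw [mul_left_cancel₀ (Int.natCast_ne_zero.mpr (CharX.irr_deg_pos θ).ne') this]
      simp

end Coh

end Cfsg.Agent.OddChar.P10
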